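import Groth.Agent.CAlg.K92.HorrocksMod

/-!
# Extended modules and the projective line
-/

set_option autoImplicit false

universe u

namespace K92.Horrocks

open Polynomial K92.MatEquiv IsLocalRing LaurentPolynomial TensorProduct

section Semi

variable {L : Type*} [CommRing L] (σ : L →+* L) (hσ : ∀ x, σ (σ x) = x)

theorem semi_mulVec {n q : Type*} [Fintype n] [DecidableEq n] (F : (n → L) → (q → L))
    (hadd : ∀ x y, F (x + y) = F x + F y) (hsmul : ∀ (c : L) x, F (c • x) = σ c • F x) (v : n → L) :
    F v = (Matrix.of fun (i : q) (j : n) => F (Pi.single j 1) i).mulVec (σ ∘ v) := by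
  have h1 : v = ∑ j, v j • (Pi.single j (1 : L) : n → L) := by
    ext1 i
    simp [Finset.sum_apply, Pi.single_apply]
  have h2 : ∀ (s : Finset n), F (∑ j ∈ s, v j • (Pi.single j (1 : L) : n → L)) =
      ∑ j ∈ s, σ (v j) • F (Pi.single j 1) := by
    classical
    intro s
    induction s using Finset.induction_on with
    | empty =>
      rw [Finset.sum_empty, Finset.sum_empty]
      have := hadd 0 0
      simpa using this
    | insert a s ha ih => rw [Finset.sum_insert ha, Finset.sum_insert ha, hadd, ih, hsmul]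
  conv_lhs => rw [h1, h2]
  ext1 i
  rw [Finset.sum_apply]
  simp only [Matrix.mulVec, dotProduct, Matrix.of_apply, Pi.smul_apply, smul_eq_mul,
    Function.comp_apply]
  exact Finset.sum_congr rfl fun j _ => mul_comm _ _

include hσ in
theorem map_mulVec_semi {m n : Type*} [Fintype n] (M : Matrix m n L) (v : n → L) :
    (M.map σ).mulVec v = σ ∘ (M.mulVec (σ ∘ v)) := by
  ext1 i
  simp [Matrix.mulVec, dotProduct, hσ]

include hσ in
theorem semi_matrices {n q : Type*} [Fintype n] [DecidableEq n] [Fintype q] [DecidableEq q]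
    {X Y : Type*} [AddCommGroup X] [Module L X] [AddCommGroup Y] [Module L Y]
    {e : Matrix n n L} {e' : Matrix q q L} (h : Split X e) (h' : Split Y e')
    (E : X →ₛₗ[σ] Y) (hE : Function.Bijective E) :
    ∃ (u : Matrix n q L) (v : Matrix q n L), u * v = e ∧ v * u = e'.map σ := by
  let E₀ := Equiv.ofBijective E hE
  have hE₀ : ∀ x, E (E₀.symm x) = x := fun x => E₀.apply_symm_apply x
  have hE₁ : ∀ x, E₀.symm (E x) = x := fun x => E₀.symm_apply_apply x
  have hadd : ∀ x y, E₀.symm (x + y) = E₀.symm x + E₀.symm y := by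
    intro x y
    apply hE.1
    rw [hE₀, map_add E, hE₀, hE₀]
  have hsmul : ∀ (c : L) x, E₀.symm (c • x) = σ c • E₀.symm x := by
    intro c x
    apply hE.1
    rw [hE₀, map_smulₛₗ E, hE₀, hσ]
  let F : (n → L) → (q → L) := fun v => h'.f (E (h.g v))
  let F' : (q → L) → (n → L) := fun v => h.f (E₀.symm (h'.g v))
  let V := (Matrix.of fun (i : q) (j : n) => F (Pi.single j 1) i)
  let U := (Matrix.of fun (i : n) (j : q) => F' (Pi.single j 1) i)
  have hF : ∀ v, F v = V.mulVec (σ ∘ v) := semi_mulVec σ F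
    (fun x y => by simp only [F, map_add]) (fun c x => by simp only [F, map_smul, map_smulₛₗ])
  have hF' : ∀ v, F' v = U.mulVec (σ ∘ v) := semi_mulVec σ F'
    (fun x y => by simp only [F', map_add, hadd]) (fun c x => by simp only [F', map_smul, hsmul])
  refine ⟨U, V.map σ, ?_, ?_⟩
  · apply Matrix.mulVec_injective
    ext1 v
    rw [← Matrix.mulVec_mulVec, map_mulVec_semi σ hσ, ← hF, ← hF']
    simp only [F, F', h'.gf]
    rw [hE₁, h.fg]
  · apply Matrix.mulVec_injective
    ext1 v
    have h1 : U.mulVec v = F' (σ ∘ v) := by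
      rw [hF']
      congr 1
      exact (funext fun i => hσ (v i)).symm
    rw [← Matrix.mulVec_mulVec, map_mulVec_semi σ hσ, map_mulVec_semi σ hσ, ← hF, h1]
    simp only [F, F', h.gf]
    rw [hE₀, h'.fg]

end Semi

/-- Gluing data give an extended module. -/
theorem extended_of_glue (A : Type u) [CommRing A] (M : Type u) [AddCommGroup M] [Module A[X] M]
    [Module.Finite A[X] M] [Module.Projective A[X] M]
    (N : Type u) [AddCommGroup N] [Module A[X] N] [Module.Finite A[X] N] [Module.Projective A[X] N]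
    (F : (A[T;T⁻¹] ⊗[A[X]] M) →ₛₗ[(LaurentPolynomial.invert (R := A)).toRingEquiv.toRingHom]
            (A[T;T⁻¹] ⊗[A[X]] N)) (hF : Function.Bijective F) :
    ∃ (P : Type u) (_ : AddCommGroup P) (_ : Module A P), Nonempty (M ≃ₗ[A[X]] (A[X] ⊗[A] P)) := by
  obtain ⟨n, e, ⟨hM⟩⟩ := exists_split (R := A[X]) M
  obtain ⟨q, f, ⟨hN⟩⟩ := exists_split (R := A[X]) N
  obtain ⟨u, v, huv, hvu⟩ := semi_matrices
    (LaurentPolynomial.invert (R := A)).toRingEquiv.toRingHom
    (LaurentPolynomial.involutive_invert (R := A)) (hM.baseChange (S := A[T;T⁻¹]))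
    (hN.baseChange (S := A[T;T⁻¹])) F hF
  have h1 : MvN (E e 0) e := by
    refine glue_global e hM.idem f hN.idem u v huv ?_
    rw [hvu, matrix_map_comp]
    rfl
  let e₀ : Matrix (Fin n) (Fin n) A := e.map (evalRingHom 0)
  have he₀ : e₀ * e₀ = e₀ := map_idem hM.idem _
  have h2 : E e 0 = e₀.map (algebraMap A A[X]) := by
    ext1 i j
    rw [E, Matrix.map_apply, scaleHom_apply, Polynomial.C_0, zero_mul]
    simp [e₀, comp_zero]
  rw [h2] at h1
  obtain ⟨u', v', h3, h4⟩ := h1
  exact ⟨LinearMap.range e₀.mulVecLin, inferInstance, inferInstance,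
    ⟨hM.equiv ((splitRange e₀ he₀).baseChange (S := A[X])) v' u' h4 h3⟩⟩

/-- The involution on an extended module. -/
theorem glue_of_extended (A : Type u) [CommRing A] (M : Type u) [AddCommGroup M] [Module A[X] M]
    (P : Type u) [AddCommGroup P] [Module A P] (φ : M ≃ₗ[A[X]] (A[X] ⊗[A] P)) :
    ∃ F : (A[T;T⁻¹] ⊗[A[X]] M) →ₛₗ[(LaurentPolynomial.invert (R := A)).toRingEquiv.toRingHom]
            (A[T;T⁻¹] ⊗[A[X]] M), Function.Bijective F := by
  let L := A[T;T⁻¹]
  have : IsScalarTower A A[X] L := IsScalarTower.of_algebraMap_eq fun x => by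
    change algebraMap A A[T;T⁻¹] x = toLaurent (Polynomial.C x)
    rw [Polynomial.toLaurent_C]
    rfl
  let ψ : (L ⊗[A[X]] M) ≃ₗ[L] (L ⊗[A] P) :=
    (LinearEquiv.baseChange A[X] L M (A[X] ⊗[A] P) φ).trans
      (TensorProduct.AlgebraTensorModule.cancelBaseChange A A[X] L L P)
  let σ : L →+* L := (LaurentPolynomial.invert (R := A)).toRingEquiv.toRingHom
  let τ : (L ⊗[A] P) →ₗ[A] (L ⊗[A] P) :=
    TensorProduct.map (LaurentPolynomial.invert (R := A)).toLinearMap LinearMap.id
  have hτ : ∀ x, τ (τ x) = x := by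
    intro x
    induction x using TensorProduct.induction_on with
    | zero => simp
    | tmul x p =>
      simp only [τ, TensorProduct.map_tmul, LinearMap.id_apply]
      congr 1
      exact LaurentPolynomial.involutive_invert x
    | add x y hx hy => rw [map_add, map_add, hx, hy]
  have hsemi : ∀ (c : L) x, τ (c • x) = σ c • τ x := by
    intro c x
    induction x using TensorProduct.induction_on with
    | zero => simp
    | tmul x p =>
      simp only [τ, TensorProduct.map_tmul, LinearMap.id_apply, TensorProduct.smul_tmul',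
        smul_eq_mul]
      congr 1
      exact map_mul (LaurentPolynomial.invert (R := A)) c x
    | add x y hx hy => rw [smul_add, map_add, hx, hy, map_add, smul_add]
  refine ⟨{ toFun := fun x => ψ.symm (τ (ψ x)), map_add' := ?_, map_smul' := ?_ }, ?_⟩
  · intro x y
    rw [map_add, map_add, map_add]
  · intro c x
    rw [map_smul, hsemi, map_smul]
  · refine Function.Involutive.bijective (f := fun x => ψ.symm (τ (ψ x))) fun x => ?_
    change ψ.symm (τ (ψ (ψ.symm (τ (ψ x))))) = x
    rw [LinearEquiv.apply_symm_apply, hτ, LinearEquiv.symm_apply_apply]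

end K92.Horrocks
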