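import Groth.Agent.CAlg.K91.Decay1
import Mathlib.RingTheory.AdicCompletion.Completeness
import Mathlib.LinearAlgebra.DirectSum.Finsupp
import Mathlib.LinearAlgebra.TensorProduct.Tower
import Mathlib.RingTheory.TensorProduct.Basic

/-!
# Completions of maps which are bijective modulo powers of an ideal

* `map_bijective`: if `f : M → N` is bijective modulo `I ^ n` for all `n` then its completion is
  bijective.
* `isAdicFree_iff`: `P` is `I`-adically free iff it is isomorphic to the completion of a free module.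
* `isAdicFree_of_bij`: criterion for the completion of a module to be adically free.
* `baseChange`: completed base change of an adically free module.
-/

set_option autoImplicit false
universe u v w

open W4c5adicflatcompl AdicCompletion TensorProduct

namespace K92.AdicBij

section Bij

variable {A : Type*} [CommRing A] (I : Ideal A) {M : Type*} [AddCommGroup M] [Module A M]
  {N : Type*} [AddCommGroup N] [Module A N]

theorem map_bijective (f : M →ₗ[A] N)
    (hs : ∀ (n : ℕ) (y : N), ∃ x : M, f x - y ∈ (I ^ n • ⊤ : Submodule A N))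
    (hi : ∀ (n : ℕ) (x : M), f x ∈ (I ^ n • ⊤ : Submodule A N) →
      x ∈ (I ^ n • ⊤ : Submodule A M)) :
    Function.Bijective (AdicCompletion.map I f) := by
  constructor
  · rw [injective_iff_map_eq_zero]
    intro x hx
    obtain ⟨a, rfl⟩ := AdicCompletion.mk_surjective I M x
    rw [AdicCompletion.map_mk] at hx
    ext n
    have h1 := congrArg (fun t => t.val n) hx
    refine (Submodule.Quotient.mk_eq_zero _).2 (hi n _ ?_)
    exact (Submodule.Quotient.mk_eq_zero _).1 h1
  · intro y
    obtain ⟨b, rfl⟩ := AdicCompletion.mk_surjective I N y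
    choose a ha using fun n => hs n (b n)
    have hcauchy : ∀ n, a n ≡ a (n + 1) [SMOD (I ^ n • ⊤ : Submodule A M)] := by
      intro n
      rw [SModEq.sub_mem]
      apply hi
      rw [map_sub]
      have h1 : f (a (n + 1)) - b (n + 1) ∈ (I ^ n • ⊤ : Submodule A N) :=
        Submodule.smul_mono_left (Ideal.pow_le_pow_right n.le_succ) (ha (n + 1))
      have h2 : b n - b (n + 1) ∈ (I ^ n • ⊤ : Submodule A N) := by
        rw [← SModEq.sub_mem]
        exact b.2 n.le_succ
      have h3 := Submodule.add_mem _ (Submodule.sub_mem _ (ha n) h1) h2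
      convert h3 using 1
      abel
    refine ⟨AdicCompletion.mk I M (AdicCompletion.AdicCauchySequence.mk I M a hcauchy), ?_⟩
    rw [AdicCompletion.map_mk]
    ext n
    refine (Submodule.Quotient.eq _).2 ?_
    exact ha n

end Bij

section Free

variable {A : Type u} [CommRing A] (I : Ideal A)

theorem isAdicFree_completion_finsupp (hI : I.FG) (Z : Type u) :
    IsAdicFree I (AdicCompletion I (Z →₀ A)) := by
  have : IsAdicComplete I (AdicCompletion I A) := AdicCompletion.isAdicComplete hI
  exact ⟨Z, ⟨K91.Decay.equiv I Z A⟩⟩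

theorem isAdicFree_congr {P Q : Type u} [AddCommGroup P] [Module A P] [AddCommGroup Q]
    [Module A Q] (e : P ≃ₗ[A] Q) (h : IsAdicFree I Q) : IsAdicFree I P := by
  obtain ⟨Z, ⟨e'⟩⟩ := h
  exact ⟨Z, ⟨e.trans e'⟩⟩

theorem isAdicFree_iff (hI : I.FG) (P : Type u) [AddCommGroup P] [Module A P] :
    IsAdicFree I P ↔ ∃ Z : Type u, Nonempty (P ≃ₗ[A] AdicCompletion I (Z →₀ A)) := by
  have : IsAdicComplete I (AdicCompletion I A) := AdicCompletion.isAdicComplete hI
  constructor
  · rintro ⟨Z, ⟨e⟩⟩
    exact ⟨Z, ⟨e.trans (K91.Decay.equiv I Z A).symm⟩⟩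
  · rintro ⟨Z, ⟨e⟩⟩
    exact ⟨Z, ⟨e.trans (K91.Decay.equiv I Z A)⟩⟩

/-- If `Z →₀ A → N` is bijective modulo all powers of `I` then the completion of `N` is adically
free. -/
theorem isAdicFree_of_bij (hI : I.FG) {Z : Type u} {N : Type u} [AddCommGroup N] [Module A N]
    (f : (Z →₀ A) →ₗ[A] N)
    (hs : ∀ (n : ℕ) (y : N), ∃ x, f x - y ∈ (I ^ n • ⊤ : Submodule A N))
    (hi : ∀ (n : ℕ) (x), f x ∈ (I ^ n • ⊤ : Submodule A N) →
      x ∈ (I ^ n • ⊤ : Submodule A (Z →₀ A))) :
    IsAdicFree I (AdicCompletion I N) := by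
  have h := map_bijective I f hs hi
  exact isAdicFree_congr I
    (LinearEquiv.ofBijective ((AdicCompletion.map I f).restrictScalars A) h).symm
    (isAdicFree_completion_finsupp I hI Z)

end Free

section BaseChange

variable {A B : Type u} [CommRing A] [CommRing B] [Algebra A B] (I : Ideal A) (J : Ideal B)

/-- Base change of a map which is bijective modulo powers of `I`, with a section-like family. -/
theorem baseChange_bij (hIJ : I.map (algebraMap A B) ≤ J) {F P : Type u} [AddCommGroup F]
    [Module A F] [AddCommGroup P] [Module A P] (f : F →ₗ[A] P)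
    (hs : ∀ (n : ℕ) (y : P), ∃ x : F, f x - y ∈ (I ^ n • ⊤ : Submodule A P))
    (ρ : ∀ n : ℕ, P →ₗ[A] F ⧸ (I ^ n • ⊤ : Submodule A F))
    (hρ : ∀ n x, ρ n (f x) = Submodule.Quotient.mk x) :
    (∀ (n : ℕ) (y : B ⊗[A] P), ∃ x : B ⊗[A] F,
      f.baseChange B x - y ∈ (J ^ n • ⊤ : Submodule B (B ⊗[A] P))) ∧
    (∀ (n : ℕ) (x : B ⊗[A] F), f.baseChange B x ∈ (J ^ n • ⊤ : Submodule B (B ⊗[A] P)) →
      x ∈ (J ^ n • ⊤ : Submodule B (B ⊗[A] F))) := by
  have hpow : ∀ n : ℕ, (I ^ n).map (algebraMap A B) ≤ J ^ n := fun n => by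
    rw [Ideal.map_pow]; exact Ideal.pow_right_mono hIJ n
  have hsmul : ∀ {M : Type u} [AddCommGroup M] [Module A M] (n : ℕ) (b : B) (m : M),
      m ∈ (I ^ n • ⊤ : Submodule A M) → b ⊗ₜ[A] m ∈ (J ^ n • ⊤ : Submodule B (B ⊗[A] M)) := by
    intro M _ _ n b m hm
    induction hm using Submodule.smul_induction_on' with
    | smul a ha m _ =>
      rw [TensorProduct.tmul_smul, ← algebraMap_smul B a (b ⊗ₜ[A] m)]
      exact Submodule.smul_mem_smul (hpow n (Ideal.mem_map_of_mem _ ha)) trivial
    | add x _ y _ hx hy => rw [TensorProduct.tmul_add]; exact add_mem hx hy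
  constructor
  · intro n y
    induction y with
    | zero => exact ⟨0, by simp⟩
    | tmul b p =>
      obtain ⟨x, hx⟩ := hs n p
      refine ⟨b ⊗ₜ x, ?_⟩
      rw [LinearMap.baseChange_tmul, ← TensorProduct.tmul_sub]
      exact hsmul n b _ hx
    | add y₁ y₂ h₁ h₂ =>
      obtain ⟨x₁, h₁⟩ := h₁
      obtain ⟨x₂, h₂⟩ := h₂
      refine ⟨x₁ + x₂, ?_⟩
      have := add_mem h₁ h₂
      rw [map_add]
      convert this using 1
      abel
  · intro n x hx
    let T := (B ⊗[A] F) ⧸ (J ^ n • ⊤ : Submodule B (B ⊗[A] F))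
    let q : (B ⊗[A] F) →ₗ[B] T := Submodule.mkQ _
    let g₀ : F →ₗ[A] T := (q.restrictScalars A) ∘ₗ (TensorProduct.mk A B F 1)
    have hg₀ : (I ^ n • ⊤ : Submodule A F) ≤ LinearMap.ker g₀ := by
      intro m hm
      rw [LinearMap.mem_ker]
      change q ((1 : B) ⊗ₜ[A] m) = 0
      rw [Submodule.mkQ_apply, Submodule.Quotient.mk_eq_zero]
      exact hsmul n 1 m hm
    let g₁ : (F ⧸ (I ^ n • ⊤ : Submodule A F)) →ₗ[A] T := Submodule.liftQ _ g₀ hg₀
    let g : B ⊗[A] P →ₗ[B] T := LinearMap.liftBaseChange B (g₁ ∘ₗ ρ n)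
    have hg : ∀ z : B ⊗[A] F, g (f.baseChange B z) = q z := by
      intro z
      induction z with
      | zero => simp
      | tmul b m =>
        rw [LinearMap.baseChange_tmul, LinearMap.liftBaseChange_tmul, LinearMap.comp_apply, hρ]
        change b • q ((1 : B) ⊗ₜ[A] m) = _
        rw [← map_smul, TensorProduct.smul_tmul', smul_eq_mul, mul_one]
      | add z₁ z₂ h₁ h₂ => rw [map_add, map_add, map_add, h₁, h₂]
    have h1 : g (f.baseChange B x) ∈ (J ^ n • ⊤ : Submodule B T) := by
      have := Submodule.mem_map_of_mem (f := g) hx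
      rw [Submodule.map_smul''] at this
      exact Submodule.smul_mono le_rfl le_top this
    have h2 : (J ^ n • ⊤ : Submodule B T) = ⊥ := by
      have : (⊤ : Submodule B T) = Submodule.map q ⊤ := by
        rw [Submodule.map_top, Submodule.range_mkQ]
      rw [this, ← Submodule.map_smul'', eq_bot_iff]
      rintro _ ⟨y, hy, rfl⟩
      rw [Submodule.mem_bot]
      exact (Submodule.Quotient.mk_eq_zero _).2 hy
    rw [h2, Submodule.mem_bot, hg, Submodule.mkQ_apply, Submodule.Quotient.mk_eq_zero] at h1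
    exact h1

theorem baseChange [IsNoetherianRing A] [IsNoetherianRing B] (hIJ : I.map (algebraMap A B) ≤ J)
    (P : Type u) [AddCommGroup P] [Module A P] (hP : IsAdicFree I P) :
    IsAdicFree J (AdicCompletion J (B ⊗[A] P)) := by
  classical
  have hI : I.FG := (isNoetherianRing_iff_ideal_fg A).1 inferInstance I
  have hJ : J.FG := (isNoetherianRing_iff_ideal_fg B).1 inferInstance J
  obtain ⟨Z, ⟨e⟩⟩ := (isAdicFree_iff I hI P).1 hP
  have : IsAdicComplete I (AdicCompletion I (Z →₀ A)) := AdicCompletion.isAdicComplete hI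
  let F := Z →₀ A
  let f : F →ₗ[A] P := e.symm.toLinearMap ∘ₗ AdicCompletion.of I F
  have hs : ∀ (n : ℕ) (y : P), ∃ x : F, f x - y ∈ (I ^ n • ⊤ : Submodule A P) := by
    intro n y
    obtain ⟨x, hx⟩ := K91.Compl.exists_sub_of_mem I F n (e y)
    refine ⟨x, ?_⟩
    have h1 := Submodule.mem_map_of_mem (f := e.symm.toLinearMap) hx
    rw [Submodule.map_smul''] at h1
    have h2 := Submodule.smul_mono (le_refl (I ^ n)) (le_top (a := Submodule.map
      e.symm.toLinearMap ⊤)) h1
    have h3 := Submodule.neg_mem _ h2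
    convert h3 using 1
    simp [f]
  obtain ⟨h1, h2⟩ := baseChange_bij I J hIJ f hs
    (fun n => (AdicCompletion.eval I F n) ∘ₗ e.toLinearMap) (by
      intro n x
      simp [f])
  let eF : B ⊗[A] F ≃ₗ[B] (Z →₀ B) := TensorProduct.finsuppScalarRight A B B Z
  refine isAdicFree_of_bij J hJ ((f.baseChange B) ∘ₗ eF.symm.toLinearMap) ?_ ?_
  · intro n y
    obtain ⟨x, hx⟩ := h1 n y
    exact ⟨eF x, by simpa using hx⟩
  · intro n x hx
    have h3 := h2 n _ hx
    have h4 := Submodule.mem_map_of_mem (f := eF.toLinearMap) h3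
    rw [Submodule.map_smul''] at h4
    have h5 := Submodule.smul_mono (le_refl (J ^ n)) (le_top (a := Submodule.map
      eF.toLinearMap ⊤)) h4
    simpa using h5

end BaseChange

end K92.AdicBij
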