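import Groth.Agent.CAlg.K92.AdicSys
import Groth.Agent.CAlg.K91.Decay2
import Groth.Agent.CAlg.K91.Decay3
import Mathlib.LinearAlgebra.TensorProduct.Quotient
import Mathlib.RingTheory.Flat.Stability

/-!
# Adically free = flat and complete over a complete Noetherian local ring
-/

set_option autoImplicit false
universe u v w

open W4c5adicflatcompl IsLocalRing TensorProduct

namespace K92.AdicFlat

variable {A : Type u} [CommRing A]

/-- Functoriality of decaying functions for linear equivalences. -/
noncomputable def congr (I : Ideal A) (Z : Type v) {M N : Type w} [AddCommGroup M] [Module A M]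
    [AddCommGroup N] [Module A N] (e : M ≃ₗ[A] N) : decaying I Z M ≃ₗ[A] decaying I Z N where
  toFun f := ⟨fun z => e ((f : Z → M) z), K91.Decay.comp_mem I e.toLinearMap f.2⟩
  invFun f := ⟨fun z => e.symm ((f : Z → N) z), K91.Decay.comp_mem I e.symm.toLinearMap f.2⟩
  map_add' f g := Subtype.ext (funext fun z => map_add e _ _)
  map_smul' a f := Subtype.ext (funext fun z => map_smul e _ _)
  left_inv f := Subtype.ext (funext fun z => e.symm_apply_apply _)
  right_inv f := Subtype.ext (funext fun z => e.apply_symm_apply _)

theorem flat_quotient (I : Ideal A) (M : Type u) [AddCommGroup M] [Module A M] [Module.Flat A M] :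
    Module.Flat (A ⧸ I) (M ⧸ (I • ⊤ : Submodule A M)) := by
  have e := quotTensorEquivQuotSMul M I
  have e' : ((A ⧸ I) ⊗[A] M) ≃ₗ[A ⧸ I] M ⧸ (I • (⊤ : Submodule A M)) :=
    e.extendScalarsOfSurjective (R := A) (S := A ⧸ I) Ideal.Quotient.mk_surjective
  exact Module.Flat.of_linearEquiv e'.symm

theorem iff [IsNoetherianRing A] [IsLocalRing A] [IsAdicComplete (maximalIdeal A) A]
    (M : Type u) [AddCommGroup M] [Module A M] :
    IsAdicFree (maximalIdeal A) M ↔
      Module.Flat A M ∧ IsAdicComplete (maximalIdeal A) M := by
  constructor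
  · rintro ⟨Z, ⟨e⟩⟩
    let e' : M ≃ₗ[A] decaying (maximalIdeal A) Z A :=
      e.trans (congr (maximalIdeal A) Z (AdicCompletion.ofLinearEquiv (maximalIdeal A) A)).symm
    have h1 : Module.Flat A (decaying (maximalIdeal A) Z A) := K91.Decay.flat _ Z
    have h2 : IsAdicComplete (maximalIdeal A) (decaying (maximalIdeal A) Z A) :=
      K91.Decay.isAdicComplete _ Z
    exact ⟨Module.Flat.of_linearEquiv e', K91.Decay.isAdicComplete_congr _ e'⟩
  · rintro ⟨h1, h2⟩
    let m := maximalIdeal A
    let N : ℕ → Type u := fun n => M ⧸ (m ^ (n + 1) • ⊤ : Submodule A M)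
    let ψ : ∀ n, N (n + 1) →ₗ[A] N n := fun n =>
      Submodule.factor (Submodule.smul_mono_left (Ideal.pow_le_pow_right (n + 1).le_succ))
    have hψ : ∀ n, Function.Surjective (ψ n) := fun n => Submodule.factor_surjective _
    have hker : ∀ n, LinearMap.ker (ψ n) = (m ^ (n + 1) • ⊤ : Submodule A (N (n + 1))) := by
      intro n
      have h3 : (⊤ : Submodule A (N (n + 1))) = Submodule.map (Submodule.mkQ _) ⊤ := by
        rw [Submodule.map_top, Submodule.range_mkQ]
      rw [h3, ← Submodule.map_smul'']
      ext x
      obtain ⟨x, rfl⟩ := Submodule.mkQ_surjective _ x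
      rw [LinearMap.mem_ker]
      have h4 : ψ n (Submodule.mkQ _ x) = Submodule.mkQ _ x := rfl
      rw [h4]
      constructor
      · intro h
        exact ⟨x, (Submodule.Quotient.mk_eq_zero _).1 h, rfl⟩
      · rintro ⟨y, hy, hyx⟩
        rw [Submodule.mkQ_apply, Submodule.Quotient.mk_eq_zero]
        have h5 : y - x ∈ (m ^ (n + 1 + 1) • ⊤ : Submodule A M) :=
          (Submodule.Quotient.eq _).1 hyx
        have h6 : y - x ∈ (m ^ (n + 1) • ⊤ : Submodule A M) :=
          Submodule.smul_mono_left (Ideal.pow_le_pow_right (n + 1).le_succ) h5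
        have h7 := sub_mem (show y ∈ (m ^ (n + 1) • ⊤ : Submodule A M) from hy) h6
        simpa using h7
    have hflat : ∀ n, Module.Flat (A ⧸ m ^ (n + 1)) (N n) := fun n => flat_quotient _ M
    have hmain := (K92.AdicSys.main N ψ hψ hker).1
    -- `M` is the limit
    let φ : M →ₗ[A] sysLim N ψ :=
      LinearMap.codRestrict _ (LinearMap.pi fun n => Submodule.mkQ _) (fun x n => rfl)
    have hφ : Function.Bijective φ := by
      constructor
      · rw [injective_iff_map_eq_zero]
        intro x hx
        refine IsHausdorff.haus (I := m) inferInstance x fun n => ?_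
        rw [SModEq.zero]
        have h3 : ((φ x : sysLim N ψ) : ∀ k, N k) n = 0 := by rw [hx]; rfl
        have h4 : x ∈ (m ^ (n + 1) • ⊤ : Submodule A M) := (Submodule.Quotient.mk_eq_zero _).1 h3
        exact Submodule.smul_mono_left (Ideal.pow_le_pow_right n.le_succ) h4
      · intro y
        choose f hf using fun n => Submodule.mkQ_surjective _ ((y : ∀ k, N k) n)
        have hc : ∀ {a b : ℕ}, a ≤ b → f a ≡ f b [SMOD (m ^ (a + 1) • ⊤ : Submodule A M)] := by
          intro a b hab
          induction hab with
          | refl => exact SModEq.rfl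
          | step hab ih =>
            rename_i k
            have hab' : a ≤ k := hab
            refine ih.trans ?_
            have h3 : f k ≡ f (k + 1) [SMOD (m ^ (k + 1) • ⊤ : Submodule A M)] := by
              have h4 : Submodule.mkQ (m ^ (k + 1) • ⊤ : Submodule A M) (f (k + 1)) =
                  ψ k (Submodule.mkQ _ (f (k + 1))) := rfl
              change Submodule.mkQ _ (f k) = Submodule.mkQ _ (f (k + 1))
              rw [hf, h4, hf, y.2 k]
            rw [SModEq.sub_mem] at h3 ⊢
            exact Submodule.smul_mono_left (Ideal.pow_le_pow_right (by omega)) h3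
        obtain ⟨L, hL⟩ := IsPrecomplete.prec (I := m) (M := M) inferInstance (f := f) (by
          intro a b hab
          have h3 := hc hab
          rw [SModEq.sub_mem] at h3 ⊢
          exact Submodule.smul_mono_left (Ideal.pow_le_pow_right (by omega)) h3)
        refine ⟨L, Subtype.ext (funext fun n => ?_)⟩
        change Submodule.mkQ _ L = _
        rw [← hf n]
        have h3 := (hc n.le_succ).trans (hL (n + 1))
        exact h3.symm
    exact K92.AdicBij.isAdicFree_congr _ (LinearEquiv.ofBijective φ hφ) hmain

end K92.AdicFlat
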