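import Groth.Agent.CAlg.K92.AdicBij
import Groth.Agent.CAlg.K82.FlatKer
import Mathlib.Algebra.Module.Torsion.Basic
import Mathlib.RingTheory.LocalRing.MaximalIdeal.Basic
import Mathlib.LinearAlgebra.FreeModule.Basic
import Mathlib.LinearAlgebra.Basis.VectorSpace

/-!
# Adic systems of flat modules over a local ring

`main`: the limit of an `m`-adic system of flat modules over the quotients of a Noetherian local
ring is adically free, and projects onto the terms with the expected kernels.
-/

set_option autoImplicit false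
universe u v w

open W4c5adicflatcompl IsLocalRing

namespace K92.AdicSys

variable {A : Type u} [CommRing A]

/-- A family inducing a basis of a module killed by the maximal ideal. -/
theorem exists_family [IsLocalRing A] (V : Type u) [AddCommGroup V] [Module A V]
    (hV : ∀ a ∈ maximalIdeal A, ∀ x : V, a • x = 0) :
    ∃ (Z : Type u) (b : Z → V),
      (∀ y : V, ∃ c : Z →₀ A, Finsupp.linearCombination A b c = y) ∧
      (∀ x : Z →₀ A, Finsupp.linearCombination A b x = 0 → ∀ z, x z ∈ maximalIdeal A) := by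
  classical
  have htor : Module.IsTorsionBySet A V (maximalIdeal A : Set A) := fun x a => hV a a.2 x
  let _ : Field (A ⧸ maximalIdeal A) := Ideal.Quotient.field _
  let _ : Module (A ⧸ maximalIdeal A) V := htor.module
  have hsm : ∀ (a : A) (x : V), (Ideal.Quotient.mk (maximalIdeal A) a) • x = a • x := fun a x => rfl
  let b := Module.Free.chooseBasis (A ⧸ maximalIdeal A) V
  have key : ∀ c : Module.Free.ChooseBasisIndex (A ⧸ maximalIdeal A) V →₀ A,
      Finsupp.linearCombination A b c = Finsupp.linearCombination (A ⧸ maximalIdeal A) b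
        (Finsupp.mapRange (Ideal.Quotient.mk (maximalIdeal A)) (map_zero _) c) := by
    intro c
    rw [Finsupp.linearCombination_apply, Finsupp.linearCombination_apply,
      Finsupp.sum_mapRange_index (by intro z; exact zero_smul _ _)]
    rfl
  refine ⟨Module.Free.ChooseBasisIndex (A ⧸ maximalIdeal A) V, b, ?_, ?_⟩
  · intro y
    have hsurj : Function.Surjective (Ideal.Quotient.mk (maximalIdeal A)) :=
      Ideal.Quotient.mk_surjective
    obtain ⟨c, hc⟩ := Finsupp.mapRange_surjective _ (map_zero _) hsurj (b.repr y)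
    refine ⟨c, ?_⟩
    rw [key, hc]
    exact b.linearCombination_repr y
  · intro x hx z
    rw [key] at hx
    have h1 := (linearIndependent_iff.1 b.linearIndependent) _ hx
    have h2 := DFunLike.congr_fun h1 z
    rw [Finsupp.mapRange_apply, Finsupp.zero_apply] at h2
    exact Ideal.Quotient.eq_zero_iff_mem.1 h2

section Sys

variable [IsNoetherianRing A] [IsLocalRing A]
  (M : ℕ → Type u) [∀ n, AddCommGroup (M n)] [∀ n, Module A (M n)]
  [∀ n, Module (A ⧸ maximalIdeal A ^ (n + 1)) (M n)]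
  [∀ n, IsScalarTower A (A ⧸ maximalIdeal A ^ (n + 1)) (M n)]
  [∀ n, Module.Flat (A ⧸ maximalIdeal A ^ (n + 1)) (M n)]
  (ψ : ∀ n, M (n + 1) →ₗ[A] M n) (hψ : ∀ n, Function.Surjective (ψ n))
  (hker : ∀ n, LinearMap.ker (ψ n) =
    (maximalIdeal A ^ (n + 1) • ⊤ : Submodule A (M (n + 1))))

omit [IsNoetherianRing A] [∀ n, Module.Flat (A ⧸ maximalIdeal A ^ (n + 1)) (M n)] in
theorem smul_eq_zero (n : ℕ) {a : A} (ha : a ∈ maximalIdeal A ^ (n + 1)) (x : M n) :
    a • x = 0 := by
  rw [← algebraMap_smul (A ⧸ maximalIdeal A ^ (n + 1)) a x]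
  have : algebraMap A (A ⧸ maximalIdeal A ^ (n + 1)) a = 0 := Ideal.Quotient.eq_zero_iff_mem.2 ha
  rw [this, zero_smul]

omit [IsNoetherianRing A] [∀ n, Module.Flat (A ⧸ maximalIdeal A ^ (n + 1)) (M n)] in
theorem pow_smul_top_eq_bot (n : ℕ) :
    (maximalIdeal A ^ (n + 1) • ⊤ : Submodule A (M n)) = ⊥ := by
  rw [eq_bot_iff, Submodule.smul_le]
  intro a ha x _
  exact (Submodule.mem_bot A).2 (smul_eq_zero M n ha x)

omit [IsNoetherianRing A] [IsLocalRing A] in
include hψ in
theorem exists_lift_zero (y : M 0) : ∃ x : sysLim M ψ, (x : ∀ k, M k) 0 = y := by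
  let s : ∀ n, M n := fun n => Nat.rec y (fun n x => Function.surjInv (hψ n) x) n
  exact ⟨⟨s, fun n => Function.surjInv_eq (hψ n) (s n)⟩, rfl⟩

/-- The composite `M n → M 0`. -/
noncomputable def toZero : ∀ n, M n →ₗ[A] M 0
  | 0 => LinearMap.id
  | n + 1 => (toZero n) ∘ₗ ψ n

omit [IsNoetherianRing A] [IsLocalRing A] in
theorem toZero_apply (x : sysLim M ψ) (n : ℕ) :
    toZero M ψ n ((x : ∀ k, M k) n) = (x : ∀ k, M k) 0 := by
  induction n with
  | zero => rfl
  | succ n ih =>
    change toZero M ψ n (ψ n ((x : ∀ k, M k) (n + 1))) = _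
    rw [x.2 n, ih]

omit [IsNoetherianRing A] [∀ n, Module (A ⧸ maximalIdeal A ^ (n + 1)) (M n)]
  [∀ n, IsScalarTower A (A ⧸ maximalIdeal A ^ (n + 1)) (M n)]
  [∀ n, Module.Flat (A ⧸ maximalIdeal A ^ (n + 1)) (M n)] in
include hψ hker in
theorem mem_of_toZero_eq_zero (n : ℕ) (y : M n) (hy : toZero M ψ n y = 0) :
    y ∈ (maximalIdeal A • ⊤ : Submodule A (M n)) := by
  induction n with
  | zero =>
    have : y = 0 := hy
    rw [this]; exact zero_mem _
  | succ n ih =>
    have h1 := ih (ψ n y) hy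
    have h2 : (maximalIdeal A • ⊤ : Submodule A (M n)) =
        Submodule.map (ψ n) (maximalIdeal A • ⊤) := by
      rw [Submodule.map_smul'', Submodule.map_top, LinearMap.range_eq_top.2 (hψ n)]
    rw [h2] at h1
    obtain ⟨z, hz, hzy⟩ := h1
    have h3 : y - z ∈ LinearMap.ker (ψ n) := by
      rw [LinearMap.mem_ker, map_sub, hzy, sub_self]
    rw [hker] at h3
    have h4 : y - z ∈ (maximalIdeal A • ⊤ : Submodule A (M (n + 1))) :=
      Submodule.smul_mono_left (Ideal.pow_le_self (Nat.succ_ne_zero n)) h3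
    have := add_mem h4 hz
    simpa using this

variable {M ψ} {Z : Type u} (e : Z → sysLim M ψ)

/-- The map from the free module to the terms. -/
noncomputable def θ (n : ℕ) : (Z →₀ A) →ₗ[A] M n :=
  sysProj M ψ n ∘ₗ Finsupp.linearCombination A e

omit [IsNoetherianRing A] [IsLocalRing A] in
theorem θ_apply (n : ℕ) (x : Z →₀ A) :
    θ e n x = Finsupp.linearCombination A (fun z => (e z : ∀ k, M k) n) x := by
  rw [θ, LinearMap.comp_apply, Finsupp.linearCombination_apply, Finsupp.linearCombination_apply,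
    map_finsuppSum]
  rfl

omit [IsNoetherianRing A] [IsLocalRing A] in
theorem ψ_θ (n : ℕ) (x : Z →₀ A) : ψ n (θ e (n + 1) x) = θ e n x :=
  (Finsupp.linearCombination A e x).2 n

omit [IsNoetherianRing A] [IsLocalRing A] in
theorem toZero_θ (n : ℕ) (x : Z →₀ A) :
    toZero M ψ n (θ e n x) =
      Finsupp.linearCombination A (fun z => (e z : ∀ k, M k) 0) x := by
  rw [← θ_apply e 0]
  exact toZero_apply M ψ _ n

variable
  (he : ∀ y : M 0, ∃ c : Z →₀ A,
    Finsupp.linearCombination A (fun z => (e z : ∀ k, M k) 0) c = y)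
  (he' : ∀ x : Z →₀ A, Finsupp.linearCombination A (fun z => (e z : ∀ k, M k) 0) x = 0 →
    ∀ z, x z ∈ maximalIdeal A)

omit [IsNoetherianRing A] [∀ n, Module.Flat (A ⧸ maximalIdeal A ^ (n + 1)) (M n)] in
include hψ hker he in
theorem θ_surjective (n : ℕ) : Function.Surjective (θ e n) := by
  have h1 : (⊤ : Submodule A (M n)) ≤ LinearMap.range (θ e n) ⊔ maximalIdeal A • ⊤ := by
    intro y _
    obtain ⟨c, hc⟩ := he (toZero M ψ n y)
    have h2 : toZero M ψ n (y - θ e n c) = 0 := by
      rw [map_sub, toZero_θ, hc, sub_self]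
    have h3 := mem_of_toZero_eq_zero M ψ hψ hker n _ h2
    have h4 := add_mem (Submodule.mem_sup_right h3 :
        y - θ e n c ∈ LinearMap.range (θ e n) ⊔ maximalIdeal A • ⊤)
      (Submodule.mem_sup_left ⟨c, rfl⟩ :
        θ e n c ∈ LinearMap.range (θ e n) ⊔ maximalIdeal A • ⊤)
    simpa using h4
  have h2 : ∀ k : ℕ, (⊤ : Submodule A (M n)) ≤ LinearMap.range (θ e n) ⊔
      maximalIdeal A ^ k • ⊤ := by
    intro k
    induction k with
    | zero => rw [pow_zero, Submodule.one_smul]; exact le_sup_right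
    | succ k ih =>
      refine ih.trans (sup_le le_sup_left ?_)
      calc (maximalIdeal A ^ k • ⊤ : Submodule A (M n))
          ≤ maximalIdeal A ^ k • (LinearMap.range (θ e n) ⊔ maximalIdeal A • ⊤) :=
            Submodule.smul_mono le_rfl h1
        _ = maximalIdeal A ^ k • LinearMap.range (θ e n) ⊔ maximalIdeal A ^ (k + 1) • ⊤ := by
            rw [Submodule.smul_sup, ← Submodule.mul_smul, pow_succ]
        _ ≤ _ := sup_le_sup_right Submodule.smul_le_right _
  have h3 := h2 (n + 1)
  rw [pow_smul_top_eq_bot M n, sup_bot_eq] at h3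
  exact LinearMap.range_eq_top.1 (top_le_iff.1 h3)

omit [IsNoetherianRing A] in
include hψ hker he he' in
theorem mem_of_θ_eq_zero (n : ℕ) (x : Z →₀ A) (hx : θ e n x = 0) :
    x ∈ (maximalIdeal A ^ (n + 1) • ⊤ : Submodule A (Z →₀ A)) := by
  classical
  let Ā := A ⧸ maximalIdeal A ^ (n + 1)
  let q : A →+* Ā := Ideal.Quotient.mk _
  let f : (Z →₀ Ā) →ₗ[Ā] M n := Finsupp.linearCombination Ā (fun z => (e z : ∀ k, M k) n)
  have hq : ∀ x : Z →₀ A, f (Finsupp.mapRange q (map_zero _) x) = θ e n x := by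
    intro x
    rw [θ_apply, Finsupp.linearCombination_apply, Finsupp.linearCombination_apply,
      Finsupp.sum_mapRange_index (by intro z; exact zero_smul _ _)]
    refine Finsupp.sum_congr fun z _ => ?_
    exact algebraMap_smul Ā (x z) ((e z : ∀ k, M k) n)
  have hqs : Function.Surjective (Finsupp.mapRange (α := Z) q (map_zero _)) :=
    Finsupp.mapRange_surjective _ (map_zero _) Ideal.Quotient.mk_surjective
  have hf : Function.Surjective f := by
    intro y
    obtain ⟨x, rfl⟩ := θ_surjective hψ hker e he n y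
    exact ⟨_, hq x⟩
  let J : Ideal Ā := (maximalIdeal A).map q
  have hJ : J ^ (n + 1) = ⊥ := by
    rw [← Ideal.map_pow, Ideal.map_quotient_self]
  have hkerf : LinearMap.ker f ≤ ⊥ := by
    refine K82.FlatKer.le_of_le_sup_smul hJ ?_
    rw [bot_sup_eq]
    intro x hx
    refine K82.FlatKer.mem_smul_ker hf hx ?_
    obtain ⟨x, rfl⟩ := hqs x
    rw [LinearMap.mem_ker, hq] at hx
    have h1 : toZero M ψ n (θ e n x) = 0 := by rw [hx, map_zero]
    rw [toZero_θ] at h1
    rw [K91.Decay.finsupp_mem_smul_top_iff]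
    intro z
    rw [Finsupp.mapRange_apply, smul_eq_mul, Ideal.mul_top]
    exact Ideal.mem_map_of_mem q (he' x h1 z)
  have h2 : Finsupp.mapRange q (map_zero _) x = 0 := by
    have := hkerf (show Finsupp.mapRange q (map_zero _) x ∈ LinearMap.ker f by
      rw [LinearMap.mem_ker, hq, hx])
    simpa using this
  rw [K91.Decay.finsupp_mem_smul_top_iff]
  intro z
  have h3 := DFunLike.congr_fun h2 z
  rw [Finsupp.mapRange_apply, Finsupp.zero_apply] at h3
  rw [smul_eq_mul, Ideal.mul_top]
  exact Ideal.Quotient.eq_zero_iff_mem.1 h3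

omit [IsNoetherianRing A] [∀ n, Module.Flat (A ⧸ maximalIdeal A ^ (n + 1)) (M n)] in
theorem θ_eq_zero_of_mem (n : ℕ) (x : Z →₀ A)
    (hx : x ∈ (maximalIdeal A ^ (n + 1) • ⊤ : Submodule A (Z →₀ A))) : θ e n x = 0 := by
  have h1 := Submodule.mem_map_of_mem (f := θ e n) hx
  rw [Submodule.map_smul''] at h1
  have h2 := Submodule.smul_mono (le_refl (maximalIdeal A ^ (n + 1)))
    (le_top (a := Submodule.map (θ e n) ⊤)) h1
  rw [pow_smul_top_eq_bot M n] at h2
  exact (Submodule.mem_bot A).1 h2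

/-- The comparison of the completion of the free module with the limit. -/
noncomputable def E : AdicCompletion (maximalIdeal A) (Z →₀ A) →ₗ[A] sysLim M ψ :=
  LinearMap.codRestrict _ (LinearMap.pi fun n =>
    (Submodule.liftQ (maximalIdeal A ^ (n + 1) • ⊤ : Submodule A (Z →₀ A)) (θ e n)
      (fun x hx => θ_eq_zero_of_mem e n x hx)) ∘ₗ AdicCompletion.eval (maximalIdeal A) _ (n + 1))
    (by
      intro x n
      obtain ⟨a, rfl⟩ := AdicCompletion.mk_surjective _ _ x
      change ψ n (θ e (n + 1) (a (n + 1 + 1))) = θ e n (a (n + 1))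
      rw [ψ_θ, ← sub_eq_zero, ← map_sub]
      apply θ_eq_zero_of_mem
      rw [← SModEq.sub_mem]
      exact (a.2 (n + 1).le_succ).symm)

omit [IsNoetherianRing A] [∀ n, Module.Flat (A ⧸ maximalIdeal A ^ (n + 1)) (M n)] in
theorem E_mk (a : AdicCompletion.AdicCauchySequence (maximalIdeal A) (Z →₀ A)) (n : ℕ) :
    ((E e (AdicCompletion.mk _ _ a) : sysLim M ψ) : ∀ k, M k) n = θ e n (a (n + 1)) := rfl

include hψ hker he he' in
theorem E_bijective : Function.Bijective (E e) := by
  constructor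
  · rw [injective_iff_map_eq_zero]
    intro x hx
    obtain ⟨a, rfl⟩ := AdicCompletion.mk_surjective _ _ x
    ext n
    refine (Submodule.Quotient.mk_eq_zero _).2 ?_
    have h1 : θ e n (a (n + 1)) = 0 := by
      rw [← E_mk, hx]; rfl
    have h2 := mem_of_θ_eq_zero hψ hker e he he' n _ h1
    have h3 : a (n + 1) ∈ (maximalIdeal A ^ n • ⊤ : Submodule A (Z →₀ A)) :=
      Submodule.smul_mono_left (Ideal.pow_le_pow_right n.le_succ) h2
    have h4 : a n - a (n + 1) ∈ (maximalIdeal A ^ n • ⊤ : Submodule A (Z →₀ A)) := by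
      rw [← SModEq.sub_mem]
      exact a.2 n.le_succ
    simpa using add_mem h4 h3
  · intro y
    choose a ha using fun n => θ_surjective hψ hker e he n ((y : ∀ k, M k) n)
    have hc : ∀ n, a n ≡ a (n + 1) [SMOD (maximalIdeal A ^ n • ⊤ : Submodule A (Z →₀ A))] := by
      intro n
      rw [SModEq.sub_mem]
      refine Submodule.smul_mono_left (Ideal.pow_le_pow_right n.le_succ)
        (mem_of_θ_eq_zero hψ hker e he he' n _ ?_)
      rw [map_sub, ha, ← ψ_θ, ha, y.2 n, sub_self]
    refine ⟨AdicCompletion.mk _ _ (AdicCompletion.AdicCauchySequence.mk _ _ a hc), ?_⟩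
    apply Subtype.ext
    funext n
    rw [E_mk]
    change θ e n (a (n + 1)) = _
    rw [← ψ_θ, ha, y.2 n]

end Sys

/-- The main theorem. -/
theorem main [IsNoetherianRing A] [IsLocalRing A]
    (M : ℕ → Type u) [∀ n, AddCommGroup (M n)] [∀ n, Module A (M n)]
    [∀ n, Module (A ⧸ maximalIdeal A ^ (n + 1)) (M n)]
    [∀ n, IsScalarTower A (A ⧸ maximalIdeal A ^ (n + 1)) (M n)]
    [∀ n, Module.Flat (A ⧸ maximalIdeal A ^ (n + 1)) (M n)]
    (ψ : ∀ n, M (n + 1) →ₗ[A] M n) (hψ : ∀ n, Function.Surjective (ψ n))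
    (hker : ∀ n, LinearMap.ker (ψ n) =
      (maximalIdeal A ^ (n + 1) • ⊤ : Submodule A (M (n + 1)))) :
    IsAdicFree (maximalIdeal A) (sysLim M ψ) ∧
      ∀ n, Function.Surjective (sysProj M ψ n) ∧
        LinearMap.ker (sysProj M ψ n) =
          (maximalIdeal A ^ (n + 1) • ⊤ : Submodule A (sysLim M ψ)) := by
  have hm : (maximalIdeal A).FG := (isNoetherianRing_iff_ideal_fg A).1 inferInstance _
  obtain ⟨Z, b, hb, hb'⟩ := exists_family (A := A) (M 0) (fun a ha x =>
    smul_eq_zero M 0 (by rw [zero_add, pow_one]; exact ha) x)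
  choose e he0 using fun z => exists_lift_zero M ψ hψ (b z)
  have hfun : (fun z => (e z : ∀ k, M k) 0) = b := funext he0
  have he : ∀ y : M 0, ∃ c : Z →₀ A,
      Finsupp.linearCombination A (fun z => (e z : ∀ k, M k) 0) c = y := by rw [hfun]; exact hb
  have he' : ∀ x : Z →₀ A, Finsupp.linearCombination A (fun z => (e z : ∀ k, M k) 0) x = 0 →
      ∀ z, x z ∈ maximalIdeal A := by rw [hfun]; exact hb'
  have hE := E_bijective hψ hker e he he'
  have hcompl : IsAdicComplete (maximalIdeal A) (AdicCompletion (maximalIdeal A) (Z →₀ A)) :=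
    AdicCompletion.isAdicComplete hm
  refine ⟨K92.AdicBij.isAdicFree_congr _ (LinearEquiv.ofBijective (E e) hE).symm
    (K92.AdicBij.isAdicFree_completion_finsupp _ hm Z), fun n => ⟨?_, ?_⟩⟩
  · intro y
    obtain ⟨x, rfl⟩ := θ_surjective hψ hker e he n y
    exact ⟨Finsupp.linearCombination A e x, rfl⟩
  · apply le_antisymm
    · intro x hx
      obtain ⟨y, rfl⟩ := hE.2 x
      obtain ⟨a, rfl⟩ := AdicCompletion.mk_surjective _ _ y
      have h1 : θ e n (a (n + 1)) = 0 := hx
      have h2 : (AdicCompletion.mk (maximalIdeal A) _ a).val (n + 1) = 0 :=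
        (Submodule.Quotient.mk_eq_zero _).2 (mem_of_θ_eq_zero hψ hker e he he' n _ h1)
      have h3 := (K91.Compl.mem_pow_smul_top_iff (maximalIdeal A) (Z →₀ A)).2 h2
      have h4 := Submodule.mem_map_of_mem (f := E e) h3
      rw [Submodule.map_smul''] at h4
      exact Submodule.smul_mono le_rfl le_top h4
    · intro x hx
      have h4 := Submodule.mem_map_of_mem (f := sysProj M ψ n) hx
      rw [Submodule.map_smul''] at h4
      have h5 := Submodule.smul_mono (le_refl (maximalIdeal A ^ (n + 1)))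
        (le_top (a := Submodule.map (sysProj M ψ n) ⊤)) h4
      rw [pow_smul_top_eq_bot M n] at h5
      exact h5

end K92.AdicSys
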