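import Groth.Agent.CycA.TorShift
import Mathlib.Algebra.Homology.ShortComplex.ModuleCat
import Mathlib.Algebra.Homology.QuasiIso
import Mathlib.Algebra.Homology.SingleHomology

/-!
# Tor through flat resolutions

`nonempty_homology_iso`: if `F → M` is a flat resolution then `H_i(F ⊗ N) ≅ Tor_i(M, N)`.
-/

set_option autoImplicit false

universe u

open CategoryTheory CategoryTheory.Limits MonoidalCategory TensorProduct

namespace K92.FlatRes

open Groth.Agent.CycA.TorBasic Groth.Agent.CycA.DerShift Groth.Agent.CycA.TorShift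

variable {A : Type u} [CommRing A]

/-- Dimension shifting along a flat resolution, elementary form. -/
theorem shift (N : Type u) [AddCommGroup N] [Module A N] (n : ℕ) :
    ∀ (X : ℕ → Type u) [∀ i, AddCommGroup (X i)] [∀ i, Module A (X i)]
      [∀ i, Module.Flat A (X i)] (d : ∀ i, X (i + 1) →ₗ[A] X i)
      (_ : ∀ i, Function.Exact (d (i + 1)) (d i)) (M : Type u) [AddCommGroup M] [Module A M]
      (ε : X 0 →ₗ[A] M) (_ : Function.Surjective ε) (_ : Function.Exact (d 0) ε),
      Nonempty (DRing.Tor A (n + 1) M N ≃ₗ[A]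
        LinearMap.ker (LinearMap.rTensor N (LinearMap.range (d n)).subtype)) := by
  induction n with
  | zero =>
    intro X _ _ _ d hd M _ _ ε hε h0
    refine shiftL_one (LinearMap.range (d 0)).subtype ε Subtype.val_injective ?_ hε N
    intro x
    rw [h0 x]
    simp
  | succ n ih =>
    intro X _ _ _ d hd M _ _ ε hε h0
    obtain ⟨e1⟩ := shiftL (LinearMap.range (d 0)).subtype ε Subtype.val_injective (by
      intro x
      rw [h0 x]
      simp) hε n N
    obtain ⟨e2⟩ := ih (fun i => X (i + 1)) (fun i => d (i + 1)) (fun i => hd (i + 1))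
      (LinearMap.range (d 0)) (d 0).rangeRestrict (d 0).surjective_rangeRestrict (by
        intro x
        rw [← hd 0 x]
        constructor
        · intro h; simpa using congrArg Subtype.val h
        · intro h; exact Subtype.ext h)
    exact ⟨e1.trans e2⟩

/-- The middle homology of `X₂ ⊗ N → X₁ ⊗ N → X₀ ⊗ N` when `X₂ → X₁ → X₀` is exact. -/
theorem mid {X₂ X₁ X₀ N : Type u} [AddCommGroup X₂] [Module A X₂] [AddCommGroup X₁] [Module A X₁]
    [AddCommGroup X₀] [Module A X₀] [AddCommGroup N] [Module A N]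
    (a : X₂ →ₗ[A] X₁) (b : X₁ →ₗ[A] X₀) (hab : Function.Exact a b) :
    ∃ θ : LinearMap.ker (b.rTensor N) →ₗ[A]
        LinearMap.ker (LinearMap.rTensor N (LinearMap.range b).subtype),
      Function.Surjective θ ∧
      ∀ x : LinearMap.ker (b.rTensor N), θ x = 0 ↔ ∃ y, a.rTensor N y = x := by
  have hfac : (LinearMap.range b).subtype ∘ₗ b.rangeRestrict = b := rfl
  have hfac' : ∀ x, (LinearMap.range b).subtype.rTensor N (b.rangeRestrict.rTensor N x) =
      b.rTensor N x := by
    intro x
    rw [← LinearMap.comp_apply, ← LinearMap.rTensor_comp, hfac]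
  have hex : Function.Exact a b.rangeRestrict := by
    intro x
    rw [← hab x]
    constructor
    · intro h; simpa using congrArg Subtype.val h
    · intro h; exact Subtype.ext h
  have hex' : Function.Exact (a.rTensor N) (b.rangeRestrict.rTensor N) :=
    rTensor_exact N hex b.surjective_rangeRestrict
  have hsurj : Function.Surjective (b.rangeRestrict.rTensor N) :=
    LinearMap.rTensor_surjective N b.surjective_rangeRestrict
  refine ⟨(b.rangeRestrict.rTensor N).restrict (fun x hx => ?_), ?_, ?_⟩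
  · rw [LinearMap.mem_ker] at hx ⊢
    rw [hfac', hx]
  · rintro ⟨y, hy⟩
    obtain ⟨x, rfl⟩ := hsurj y
    refine ⟨⟨x, ?_⟩, rfl⟩
    rw [LinearMap.mem_ker] at hy ⊢
    rw [← hfac', hy]
  · intro x
    rw [← Set.mem_range, ← hex' (x : X₁ ⊗[A] N)]
    constructor
    · intro h; exact congrArg Subtype.val h
    · intro h; exact Subtype.ext h

section Cx

variable (F : ChainComplex (ModuleCat.{u} A) ℕ) {M : ModuleCat.{u} A}
  (φ : F ⟶ (ChainComplex.single₀ (ModuleCat.{u} A)).obj M)

lemma d_comp : F.d 1 0 ≫ φ.f 0 = 0 := by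
  rw [← φ.comm 1 0, HomologicalComplex.single_obj_d, comp_zero]

set_option backward.isDefEq.respectTransparency.types false in
set_option backward.defeqAttrib.useBackward true in
/-- `M` is the cokernel of `F.X 1 ⟶ F.X 0`. -/
noncomputable def isColimitCofork [QuasiIso φ] :
    IsColimit (CokernelCofork.ofπ (f := F.d 1 0) _ (d_comp F φ)) := by
  refine IsColimit.ofIsoColimit (F.opcyclesIsCokernel 1 0 (by simp)) ?_
  refine Cofork.ext (F.isoHomologyι₀.symm ≪≫ isoOfQuasiIsoAt φ 0 ≪≫
    HomologicalComplex.singleObjHomologySelfIso _ _ _) ?_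
  rw [← cancel_mono (HomologicalComplex.singleObjHomologySelfIso (ComplexShape.down ℕ) 0 _).inv,
    ← cancel_mono (ChainComplex.isoHomologyι₀ _).hom]
  dsimp
  simp only [ChainComplex.isoHomologyι₀_inv_naturality_assoc,
    HomologicalComplex.p_opcyclesMap_assoc, ChainComplex.single₀_obj_zero, Category.assoc,
    Iso.hom_inv_id, Category.comp_id, HomologicalComplex.isoHomologyι_inv_hom_id,
    HomologicalComplex.singleObjHomologySelfIso_inv_homologyι,
    HomologicalComplex.singleObjOpcyclesSelfIso_hom, ChainComplex.single₀ObjXSelf,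
    Iso.refl_inv, Category.id_comp]

include φ in
lemma exactAt_succ [QuasiIso φ] (n : ℕ) :
    (ShortComplex.mk _ _ (F.d_comp_d (n + 2) (n + 1) n)).Exact := by
  have h : F.ExactAt (n + 1) := by
    rw [← quasiIsoAt_iff_exactAt' φ (n + 1) (ChainComplex.exactAt_succ_single_obj _ _)]
    infer_instance
  exact ((HomologicalComplex.exactAt_iff' _ (n + 2) (n + 1) n) (by simp only [ChainComplex.prev]; rfl)
    (by simp)).1 h

lemma epi_f_zero [QuasiIso φ] : Epi (φ.f 0) :=
  epi_of_isColimit_cofork (isColimitCofork F φ)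

lemma exact_zero [QuasiIso φ] : (ShortComplex.mk _ _ (d_comp F φ)).Exact :=
  ShortComplex.exact_of_g_is_cokernel _ (isColimitCofork F φ)

omit F φ in
theorem homology_iso_of_surjective (S : ShortComplex (ModuleCat.{u} A)) (T : Type u)
    [AddCommGroup T] [Module A T] (θ : LinearMap.ker S.g.hom →ₗ[A] T)
    (hθ : Function.Surjective θ)
    (hθ0 : ∀ x : LinearMap.ker S.g.hom, θ x = 0 ↔ ∃ y, S.f.hom y = x) :
    Nonempty (S.homology ≅ ModuleCat.of A T) := by
  have hker : LinearMap.range S.moduleCatToCycles = LinearMap.ker θ := by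
    apply le_antisymm
    · rintro _ ⟨y, rfl⟩
      exact (hθ0 _).2 ⟨y, rfl⟩
    · intro x hx
      obtain ⟨y, hy⟩ := (hθ0 x).1 hx
      exact ⟨y, Subtype.ext hy⟩
  let e2 : (LinearMap.ker S.g.hom ⧸ LinearMap.range S.moduleCatToCycles) ≃ₗ[A] T :=
    (Submodule.quotEquivOfEq _ _ hker).trans (θ.quotKerEquivOfSurjective hθ)
  exact ⟨S.moduleCatLeftHomologyData.homologyIso ≪≫ e2.toModuleIso⟩

omit F φ in
/-- The middle homology in `ModuleCat`. -/
theorem mid_iso {X₂ X₁ X₀ N : Type u} [AddCommGroup X₂] [Module A X₂] [AddCommGroup X₁]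
    [Module A X₁] [AddCommGroup X₀] [Module A X₀] [AddCommGroup N] [Module A N]
    (a : X₂ →ₗ[A] X₁) (b : X₁ →ₗ[A] X₀) (hab : Function.Exact a b)
    (hz : ModuleCat.ofHom (a.rTensor N) ≫ ModuleCat.ofHom (b.rTensor N) = 0) :
    Nonempty ((ShortComplex.mk (ModuleCat.ofHom (a.rTensor N)) (ModuleCat.ofHom (b.rTensor N))
      hz).homology ≅ ModuleCat.of A
        (LinearMap.ker (LinearMap.rTensor N (LinearMap.range b).subtype))) := by
  obtain ⟨θ, hθ, hθ0⟩ := mid (N := N) a b hab
  exact homology_iso_of_surjective (ShortComplex.mk (ModuleCat.ofHom (a.rTensor N))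
    (ModuleCat.ofHom (b.rTensor N)) hz) _ θ hθ hθ0

/-- Homology of the tensor product of a flat resolution is Tor. -/
theorem nonempty_homology_iso [QuasiIso φ] (hF : ∀ i, Module.Flat A (F.X i))
    (N : ModuleCat.{u} A) (i : ℕ) :
    Nonempty ((((tensorRight N).mapHomologicalComplex (ComplexShape.down ℕ)).obj F).homology i ≅
      ModuleCat.of A (DRing.Tor A i M N)) := by
  cases i with
  | zero =>
    have : PreservesFiniteColimits (tensorRight N) :=
      have : PreservesFiniteColimits (tensorLeft N) :=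
        inferInstanceAs (PreservesFiniteColimits ((tensoringLeft (ModuleCat.{u} A)).obj N))
      preservesFiniteColimits_of_natIso (BraidedCategory.tensorLeftIsoTensorRight N)
    have h1 := exact_zero F φ
    have hepi := epi_f_zero F φ
    have hepi' : Epi (ShortComplex.mk _ _ (d_comp F φ)).g := hepi
    let c := CokernelCofork.mapIsColimit _ h1.gIsCokernel (tensorRight N)
    let K : ChainComplex (ModuleCat.{u} A) ℕ :=
      ((tensorRight N).mapHomologicalComplex (ComplexShape.down ℕ)).obj F
    let c' := K.opcyclesIsCokernel 1 0 (by simp)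
    let e : K.opcycles 0 ≅ (tensorRight N).obj M := c'.coconePointUniqueUpToIso c
    exact ⟨ChainComplex.isoHomologyι₀ K ≪≫ e ≪≫ (zeroEquiv A M N).symm.toModuleIso⟩
  | succ n =>
    have hex : ∀ i, Function.Exact (F.d (i + 2) (i + 1)).hom (F.d (i + 1) i).hom := fun i =>
      (ShortComplex.ShortExact.moduleCat_exact_iff_function_exact _).1 (exactAt_succ F φ i)
    have hepi := epi_f_zero F φ
    have hsurj : Function.Surjective (φ.f 0).hom := (ModuleCat.epi_iff_surjective _).1 hepi
    have hex0 : Function.Exact (F.d 1 0).hom (φ.f 0).hom :=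
      (ShortComplex.ShortExact.moduleCat_exact_iff_function_exact _).1 (exact_zero F φ)
    obtain ⟨e1⟩ := shift (A := A) N n (fun i => F.X i) (fun i => (F.d (i + 1) i).hom) hex M
      (φ.f 0).hom hsurj hex0
    have hz : ModuleCat.ofHom ((F.d (n + 2) (n + 1)).hom.rTensor N) ≫
        ModuleCat.ofHom ((F.d (n + 1) n).hom.rTensor N) = 0 := by
      ext1
      change ((F.d (n + 1) n).hom.rTensor N) ∘ₗ ((F.d (n + 2) (n + 1)).hom.rTensor N) = 0
      rw [← LinearMap.rTensor_comp, ← ModuleCat.hom_comp, F.d_comp_d]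
      simp
    obtain ⟨e2⟩ := mid_iso (N := N) (F.d (n + 2) (n + 1)).hom (F.d (n + 1) n).hom (hex n) hz
    let K : ChainComplex (ModuleCat.{u} A) ℕ :=
      ((tensorRight N).mapHomologicalComplex (ComplexShape.down ℕ)).obj F
    let e3 : (ShortComplex.mk _ _ (K.d_comp_d (n + 2) (n + 1) n)) ≅
        (ShortComplex.mk (ModuleCat.ofHom ((F.d (n + 2) (n + 1)).hom.rTensor N))
          (ModuleCat.ofHom ((F.d (n + 1) n).hom.rTensor N)) hz) :=
      Iso.refl _
    exact ⟨homologySuccIso K n ≪≫ ShortComplex.homologyMapIso e3 ≪≫ e2 ≪≫ e1.symm.toModuleIso⟩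

end Cx

end K92.FlatRes
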