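import Mathlib.RingTheory.PowerSeries.Basic
import Mathlib.RingTheory.UniqueFactorizationDomain.Basic
import Mathlib.Algebra.Prime.Lemmas

/-!
# Gauss lemma for power series with constant product

`dvd_of_mul_eq_C`: if `g * f = C d` with `d ≠ 0` over a domain and `π` is a prime element whose
powers do not divide non-zero elements, then the exact power of `π` dividing `f₀` divides all `fᵢ`.
-/

set_option autoImplicit false

namespace K92.GaussIdx

open PowerSeries

variable {R : Type*} [CommRing R] [IsDomain R]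

omit [IsDomain R] in
/-- For a non-zero sequence, the exact power of `π` dividing all terms, and the first index where
it is attained. -/
theorem exists_idx (π : R) (hfin : ∀ a : R, a ≠ 0 → ∃ n, ¬ π ^ n ∣ a) (f : ℕ → R)
    (hf : ∃ i, f i ≠ 0) :
    ∃ s i₀ : ℕ, (∀ i, π ^ s ∣ f i) ∧ ¬ π ^ (s + 1) ∣ f i₀ ∧ ∀ i, i < i₀ → π ^ (s + 1) ∣ f i := by
  classical
  have h1 : ∃ n, ∃ i, ¬ π ^ n ∣ f i := by
    obtain ⟨i, hi⟩ := hf
    obtain ⟨n, hn⟩ := hfin _ hi
    exact ⟨n, i, hn⟩
  have hpos : Nat.find h1 ≠ 0 := by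
    intro h0
    obtain ⟨i, hi⟩ := Nat.find_spec h1
    rw [h0, pow_zero] at hi
    exact hi (one_dvd _)
  obtain ⟨s, hs⟩ := Nat.exists_eq_succ_of_ne_zero hpos
  have h2 : ∃ i, ¬ π ^ (s + 1) ∣ f i := by
    have := Nat.find_spec h1
    rwa [hs] at this
  refine ⟨s, Nat.find h2, ?_, Nat.find_spec h2, ?_⟩
  · have := Nat.find_min h1 (m := s) (by omega)
    push Not at this
    exact this
  · intro i hi
    have := Nat.find_min h2 hi
    push Not at this
    exact this

/-- If `g * f` is a non-zero constant, then the first index where the exact power of `π` is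
attained is zero. -/
theorem dvd_of_mul_eq_C (π : R) (hπ : Prime π) (hfin : ∀ a : R, a ≠ 0 → ∃ n, ¬ π ^ n ∣ a)
    (f g : PowerSeries R) (d : R) (hd : d ≠ 0) (hgf : g * f = PowerSeries.C d) :
    ∃ s : ℕ, (∀ i, π ^ s ∣ coeff i f) ∧ ¬ π ^ (s + 1) ∣ coeff 0 f := by
  classical
  have hCd : (PowerSeries.C d : PowerSeries R) ≠ 0 := by
    intro h
    apply hd
    have := congrArg (coeff 0) h
    simpa using this
  have hf0 : f ≠ 0 := by rintro rfl; rw [mul_zero] at hgf; exact hCd hgf.symm
  have hg0 : g ≠ 0 := by rintro rfl; rw [zero_mul] at hgf; exact hCd hgf.symm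
  have hf : ∃ i, coeff i f ≠ 0 := by
    by_contra h; push Not at h; exact hf0 (PowerSeries.ext (by simpa using h))
  have hg : ∃ i, coeff i g ≠ 0 := by
    by_contra h; push Not at h; exact hg0 (PowerSeries.ext (by simpa using h))
  obtain ⟨s, i₀, hs, hi₀, hlt⟩ := exists_idx π hfin (fun i => coeff i f) hf
  obtain ⟨t, j₀, ht, hj₀, hlt'⟩ := exists_idx π hfin (fun i => coeff i g) hg
  have key : ¬ π ^ (t + s + 1) ∣ coeff (j₀ + i₀) (g * f) := by
    rw [coeff_mul]
    intro hdvd
    rw [← Finset.add_sum_erase _ _ (show (j₀, i₀) ∈ Finset.antidiagonal (j₀ + i₀) by simp)] at hdvd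
    have h1 : π ^ (t + s + 1) ∣ ∑ x ∈ (Finset.antidiagonal (j₀ + i₀)).erase (j₀, i₀),
        coeff x.1 g * coeff x.2 f := by
      refine Finset.dvd_sum fun x hx => ?_
      obtain ⟨hne, hx⟩ := Finset.mem_erase.1 hx
      rw [Finset.mem_antidiagonal] at hx
      have h2 : x.1 < j₀ ∨ x.2 < i₀ := by
        by_contra h
        push Not at h
        apply hne
        ext <;> simp <;> omega
      rcases h2 with h2 | h2
      · rw [show t + s + 1 = (t + 1) + s by ring, pow_add]
        exact mul_dvd_mul (hlt' _ h2) (hs _)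
      · rw [show t + s + 1 = t + (s + 1) by ring, pow_add]
        exact mul_dvd_mul (ht _) (hlt _ h2)
    have h3 := (dvd_add_left h1).1 hdvd
    obtain ⟨u, hu⟩ := ht j₀
    obtain ⟨w, hw⟩ := hs i₀
    rw [hu, hw, show π ^ t * u * (π ^ s * w) = π ^ (t + s) * (u * w) by rw [pow_add]; ring,
      pow_succ] at h3
    have h4 := (mul_dvd_mul_iff_left (pow_ne_zero _ hπ.ne_zero)).1 h3
    rcases hπ.dvd_or_dvd h4 with h5 | h5
    · apply hj₀; rw [hu, pow_succ]; exact mul_dvd_mul_left _ h5
    · apply hi₀; rw [hw, pow_succ]; exact mul_dvd_mul_left _ h5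
  have h0 : j₀ + i₀ = 0 := by
    by_contra hne
    apply key
    rw [hgf, coeff_C, if_neg hne]
    exact dvd_zero _
  have hi0 : i₀ = 0 := by omega
  subst hi0
  exact ⟨s, hs, hi₀⟩

end K92.GaussIdx
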