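import Mathlib.Algebra.Polynomial.Lifts
import Mathlib.Algebra.Polynomial.AlgebraMap
import Mathlib.RingTheory.Nakayama
import Mathlib.RingTheory.LocalRing.ResidueField.Basic
import Mathlib.RingTheory.LocalRing.ResidueField.Ideal
import Mathlib.RingTheory.Jacobson.Ideal
import Mathlib.LinearAlgebra.Matrix.Charpoly.LinearMap
import Mathlib.Algebra.Polynomial.Div
import Mathlib.LinearAlgebra.Pi
import Mathlib.Order.Preorder.Finite
import Mathlib.Data.Set.Finite.Lattice

/-!
# The core of the local Horrocks theorem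

`core`: over a local ring `R`, a submodule `N` of `R[X]^n` containing `g R[X]^n` for a monic `g` and
with `𝔪R[X]^n ∩ N = 𝔪N` is generated by `n` elements.
-/

set_option autoImplicit false

namespace K92.Horrocks

open Polynomial

section Stable

variable (R : Type*) [CommRing R] {n : Type*}

/-- Vectors of polynomials whose `i`-th coordinate has degree `< d i`. -/
def G (d : n → ℕ) : Submodule R (n → R[X]) where
  carrier := {γ | ∀ i j, d i ≤ j → (γ i).coeff j = 0}
  zero_mem' := fun i j _ => by simp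
  add_mem' := fun {a b} ha hb i j hj => by
    rw [Pi.add_apply, coeff_add, ha i j hj, hb i j hj, add_zero]
  smul_mem' := fun c a ha i j hj => by
    rw [Pi.smul_apply, coeff_smul, ha i j hj, smul_zero]

variable {R}

theorem mem_G {d : n → ℕ} {γ : n → R[X]} :
    γ ∈ G R d ↔ ∀ i j, d i ≤ j → (γ i).coeff j = 0 := Iff.rfl

variable [DecidableEq n]

theorem single_mem_G {d : n → ℕ} {i : n} {q : R[X]} (h : ∀ j, d i ≤ j → q.coeff j = 0) :
    Pi.single i q ∈ G R d := by
  intro l j hj
  by_cases hl : l = i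
  · subst hl
    rw [Pi.single_eq_same]
    exact h j hj
  · rw [Pi.single_eq_of_ne hl, coeff_zero]

variable [Fintype n]

theorem stable (d : n → ℕ) (L : Submodule R[X] (n → R[X]))
    (h : ∀ i, ∃ p ∈ G R d, Pi.single i (X ^ d i) - p ∈ L) :
    G R d ⊔ L.restrictScalars R = ⊤ := by
  set S := G R d ⊔ L.restrictScalars R with hS
  have hGS : G R d ≤ S := le_sup_left
  have hLS : ∀ x ∈ L, x ∈ S := fun x hx =>
    (le_sup_right : L.restrictScalars R ≤ S) ((Submodule.restrictScalars_mem R L _).2 hx)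
  have h0 : ∀ i, Pi.single i (X ^ d i : R[X]) ∈ S := by
    intro i
    obtain ⟨p, hp, hpL⟩ := h i
    have := S.add_mem (hLS _ hpL) (hGS hp)
    rwa [sub_add_cancel] at this
  have hXG : ∀ γ ∈ G R d, (X : R[X]) • γ ∈ S := by
    intro γ hγ
    have h1 : (X : R[X]) • γ = ∑ i, Pi.single i (X * γ i) := by
      ext1 i
      simp [Finset.sum_apply, Pi.single_apply]
    rw [h1]
    refine S.sum_mem fun i _ => ?_
    have h2 : (Pi.single i (X * γ i) : n → R[X]) =
        (X * γ i).coeff (d i) • (Pi.single i (X ^ d i : R[X]) : n → R[X]) +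
          (Pi.single i (X * γ i - (X * γ i).coeff (d i) • (X ^ d i : R[X])) : n → R[X]) := by
      ext1 l
      by_cases hl : l = i
      · subst hl; simp
      · simp [Pi.single_apply, hl]
    rw [h2]
    refine S.add_mem (S.smul_mem _ (h0 i)) (hGS (single_mem_G fun j hj => ?_))
    rw [coeff_sub, coeff_smul, coeff_X_pow, smul_eq_mul]
    rcases hj.eq_or_lt with rfl | hj'
    · simp
    · rw [if_neg (by omega), mul_zero, sub_zero]
      obtain ⟨j', rfl⟩ : ∃ j', j = j' + 1 := ⟨j - 1, by omega⟩
      rw [coeff_X_mul]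
      exact hγ i j' (by omega)
  have hX : ∀ γ ∈ S, (X : R[X]) • γ ∈ S := by
    intro γ hγ
    obtain ⟨y, hy, z, hz, rfl⟩ := Submodule.mem_sup.1 hγ
    rw [smul_add]
    exact S.add_mem (hXG y hy) (hLS _ (L.smul_mem _ hz))
  have hq : ∀ (q : R[X]), ∀ γ ∈ S, q • γ ∈ S := by
    intro q
    induction q using Polynomial.induction_on' with
    | add p q hp hq =>
      intro γ hγ
      rw [add_smul]
      exact S.add_mem (hp γ hγ) (hq γ hγ)
    | monomial m a =>
      intro γ hγ
      have h2 : ∀ m : ℕ, (X ^ m : R[X]) • γ ∈ S := by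
        intro m
        induction m with
        | zero => simpa using hγ
        | succ m ih => rw [pow_succ', mul_smul]; exact hX _ ih
      rw [← C_mul_X_pow_eq_monomial, mul_smul]
      have : (C a : R[X]) • ((X ^ m : R[X]) • γ) = a • ((X ^ m : R[X]) • γ) := by
        ext i j
        simp
      rw [this]
      exact S.smul_mem _ (h2 m)
  have h1 : ∀ i, Pi.single i (1 : R[X]) ∈ S := by
    intro i
    rcases Nat.eq_zero_or_pos (d i) with hd | hd
    · have := h0 i
      rwa [hd, pow_zero] at this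
    · refine hGS (single_mem_G fun j hj => ?_)
      rw [coeff_one, if_neg (by omega)]
  rw [eq_top_iff]
  intro γ _
  have h2 : γ = ∑ i, γ i • (Pi.single i (1 : R[X]) : n → R[X]) := by
    ext1 i
    simp [Finset.sum_apply, Pi.single_apply]
  rw [h2]
  exact S.sum_mem fun i _ => hq _ _ (h1 i)

end Stable

section Field

variable {k : Type*} [Field k] {n : Type*} [Fintype n] [DecidableEq n]

theorem exists_compl (L : Submodule k[X] (n → k[X])) (g : k[X]) (hg : g ≠ 0)
    (hgL : ∀ γ : n → k[X], g • γ ∈ L) :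
    ∃ d : n → ℕ, G k d ⊓ L.restrictScalars k = ⊥ ∧
      ∀ i, ∃ p ∈ G k d, Pi.single i (X ^ d i) - p ∈ L := by
  classical
  let S : Set (n → ℕ) := {d | G k d ⊓ L.restrictScalars k = ⊥}
  have hSfin : S.Finite := by
    refine (Set.Finite.pi' (fun _ : n => Set.finite_Iic g.natDegree)).subset ?_
    intro d hd i
    rw [Set.mem_Iic]
    by_contra hlt
    simp only [not_le] at hlt
    have h1 : (Pi.single i g : n → k[X]) ∈ G k d ⊓ L.restrictScalars k := by
      constructor
      · exact single_mem_G fun j hj => coeff_eq_zero_of_natDegree_lt (hlt.trans_le hj)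
      · have := hgL (Pi.single i 1)
        rwa [← Pi.single_smul, smul_eq_mul, mul_one] at this
    rw [show G k d ⊓ L.restrictScalars k = ⊥ from hd] at h1
    have h2 := congrFun ((Submodule.mem_bot k).1 h1) i
    rw [Pi.single_eq_same] at h2
    exact hg h2
  have hSne : S.Nonempty := ⟨0, by
    rw [Set.mem_ofPred_eq, eq_bot_iff]
    rintro γ ⟨h1, -⟩
    rw [Submodule.mem_bot]
    ext i j
    rw [h1 i j (Nat.zero_le _)]; simp⟩
  obtain ⟨d, hd, hmax⟩ := hSfin.exists_maximal hSne
  refine ⟨d, hd, fun i => ?_⟩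
  have h1 : (d + Pi.single i 1) ∉ S := by
    intro h
    have := hmax h (fun l => Nat.le_add_right _ _) i
    simp at this
  obtain ⟨γ, ⟨hγ, hγL⟩, hγ0⟩ := (Submodule.ne_bot_iff _).1 h1
  have hγ' : ∀ l j, d l + (if l = i then 1 else 0) ≤ j → (γ l).coeff j = 0 := by
    intro l j hj
    refine hγ l j ?_
    rwa [Pi.add_apply, Pi.single_apply]
  set c := (γ i).coeff (d i) with hcdef
  have hc : c ≠ 0 := by
    intro hc
    apply hγ0
    have : γ ∈ G k d ⊓ L.restrictScalars k := by
      refine ⟨fun l j hj => ?_, hγL⟩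
      by_cases hl : l = i
      · subst hl
        rcases hj.eq_or_lt with rfl | hj'
        · exact hc
        · exact hγ' l j (by rw [if_pos rfl]; omega)
      · exact hγ' l j (by rw [if_neg hl]; omega)
    rw [show G k d ⊓ L.restrictScalars k = ⊥ from hd] at this
    exact this
  refine ⟨Pi.single i (X ^ d i) - c⁻¹ • γ, ?_, ?_⟩
  · intro l j hj
    rw [Pi.sub_apply, coeff_sub, Pi.smul_apply, coeff_smul, smul_eq_mul]
    by_cases hl : l = i
    · subst hl
      rw [Pi.single_eq_same, coeff_X_pow]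
      rcases hj.eq_or_lt with rfl | hj'
      · rw [if_pos rfl, ← hcdef, inv_mul_cancel₀ hc, sub_self]
      · rw [if_neg (by omega), hγ' l j (by rw [if_pos rfl]; omega), mul_zero, sub_self]
    · rw [Pi.single_eq_of_ne hl, coeff_zero, hγ' l j (by rw [if_neg hl]; omega), mul_zero, sub_self]
  · rw [sub_sub_cancel]
    exact L.smul_of_tower_mem c⁻¹ hγL

end Field

section FG

variable {R : Type*} [CommRing R]

/-- A finitely generated `R[X]`-submodule of a module killed by a monic polynomial is finitely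
generated over `R`. -/
theorem fg_of_monic_smul {M : Type*} [AddCommGroup M] [Module R[X] M] [Module R M]
    [IsScalarTower R R[X] M] (f : R[X]) (hf : f.Monic) (hfM : ∀ m : M, f • m = 0)
    (N : Submodule R[X] M) (hN : N.FG) : (N.restrictScalars R).FG := by
  classical
  obtain ⟨s, rfl⟩ := hN
  rw [Submodule.fg_def]
  refine ⟨(fun p : M × ℕ => (X ^ p.2 : R[X]) • p.1) '' ((s : Set M) ×ˢ Set.Iic f.natDegree),
    (s.finite_toSet.prod (Set.finite_Iic _)).image _, le_antisymm ?_ ?_⟩
  · rw [Submodule.span_le]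
    rintro _ ⟨⟨m, j⟩, ⟨hm, -⟩, rfl⟩
    exact Submodule.smul_mem _ _ (Submodule.subset_span hm)
  · intro x hx
    rw [Submodule.restrictScalars_mem] at hx
    set T := Submodule.span R
      ((fun p : M × ℕ => (X ^ p.2 : R[X]) • p.1) '' ((s : Set M) ×ˢ Set.Iic f.natDegree)) with hT
    have h1 : ∀ m ∈ s, ∀ q : R[X], q • m ∈ T := by
      intro m hm q
      have h2 : q • m = (q %ₘ f) • m := by
        conv_lhs => rw [← modByMonic_add_div q f]
        rw [add_smul, mul_smul, hfM, add_zero]
      rw [h2, (q %ₘ f).as_sum_range, Finset.sum_smul]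
      refine T.sum_mem fun j hj => ?_
      rw [← C_mul_X_pow_eq_monomial, mul_smul, ← algebraMap_eq, algebraMap_smul]
      refine T.smul_mem _ (Submodule.subset_span ⟨(m, j), ⟨hm, ?_⟩, rfl⟩)
      rw [Finset.mem_range] at hj
      exact (Nat.lt_succ_iff.1 hj).trans (natDegree_modByMonic_le q hf)
    have h2 : ∀ q : R[X], q • x ∈ T := by
      refine Submodule.span_induction (p := fun x _ => ∀ q : R[X], q • x ∈ T) ?_ ?_ ?_ ?_ hx
      · intro m hm q; exact h1 m hm q
      · intro q; rw [smul_zero]; exact T.zero_mem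
      · intro x y _ _ hx hy q; rw [smul_add]; exact T.add_mem (hx q) (hy q)
      · intro a x _ hx q; rw [← mul_smul]; exact hx _
    simpa using h2 1

end FG

section Core

variable {R : Type*} [CommRing R] [IsLocalRing R] {n : Type*} [Fintype n] [DecidableEq n]

open IsLocalRing

omit [IsLocalRing R] in
theorem decomp (γ : n → R[X]) : γ = ∑ i, ∑ j ∈ (γ i).support,
      (γ i).coeff j • (Pi.single i (X ^ j : R[X]) : n → R[X]) := by
    ext1 l
    rw [Finset.sum_apply, Finset.sum_eq_single l]
    · conv_lhs => rw [(γ l).as_sum_support]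
      rw [Finset.sum_apply]
      refine Finset.sum_congr rfl fun j _ => ?_
      rw [Pi.smul_apply, Pi.single_eq_same, smul_eq_C_mul, C_mul_X_pow_eq_monomial]
    · intro i _ hi
      rw [Finset.sum_apply]
      refine Finset.sum_eq_zero fun j _ => ?_
      rw [Pi.smul_apply, Pi.single_eq_of_ne hi.symm, smul_zero]
    · intro h; exact absurd (Finset.mem_univ _) h

omit [IsLocalRing R] in
theorem mem_smul_top (γ : n → R[X]) (I : Ideal R) (h : ∀ i j, (γ i).coeff j ∈ I) :
    γ ∈ I • (⊤ : Submodule R (n → R[X])) := by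
  rw [decomp γ]
  exact Submodule.sum_mem _ fun i _ => Submodule.sum_mem _ fun j _ =>
    Submodule.smul_mem_smul (h i j) trivial

/-- Reduction modulo the maximal ideal. -/
noncomputable def red (γ : n → R[X]) : n → (ResidueField R)[X] :=
  fun i => (γ i).map (residue R)

theorem red_add (γ δ : n → R[X]) : red (γ + δ) = red γ + red δ := by
  ext1 i; simp [red]

theorem red_sub (γ δ : n → R[X]) : red (γ - δ) = red γ - red δ := by
  ext1 i; simp [red]

theorem red_smul (q : R[X]) (γ : n → R[X]) : red (q • γ) = q.map (residue R) • red γ := by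
  ext1 i; simp [red]

theorem red_surj (x : n → (ResidueField R)[X]) : ∃ γ : n → R[X], red γ = x := by
  choose γ hγ using fun i => Polynomial.map_surjective (residue R) residue_surjective (x i)
  exact ⟨γ, funext hγ⟩

theorem red_eq_zero (γ : n → R[X]) : red γ = 0 ↔ ∀ i j, (γ i).coeff j ∈ maximalIdeal R := by
  constructor
  · intro h i j
    rw [← residue_eq_zero_iff, ← coeff_map]
    have := congrFun h i
    rw [show (γ i).map (residue R) = 0 from this, coeff_zero]
  · intro h
    ext i j
    rw [Pi.zero_apply, coeff_zero, red, coeff_map, residue_eq_zero_iff]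
    exact h i j

theorem red_mem_G {d : n → ℕ} {γ : n → R[X]} (h : γ ∈ G R d) :
    red γ ∈ G (ResidueField R) d := by
  intro i j hj
  rw [red, coeff_map, h i j hj, map_zero]

theorem exists_red_mem_G {d : n → ℕ} {x : n → (ResidueField R)[X]}
    (h : x ∈ G (ResidueField R) d) : ∃ γ ∈ G R d, red γ = x := by
  have h1 : ∀ i, ∃ q : R[X], q.map (residue R) = x i ∧ q.degree = (x i).degree := by
    intro i
    refine exists_degree_eq_of_mem_lifts ?_
    rw [mem_lifts]
    exact Polynomial.map_surjective (residue R) residue_surjective (x i)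
  choose γ hγ hdeg using h1
  refine ⟨γ, fun i j hj => ?_, funext hγ⟩
  have h2 : (x i).degree < d i := (degree_lt_iff_coeff_zero _ _).2 (h i)
  rw [← hdeg] at h2
  exact (degree_lt_iff_coeff_zero _ _).1 h2 j hj

theorem core (N : Submodule R[X] (n → R[X])) (hfg : N.FG)
    (g : R[X]) (hg : g.Monic) (hgN : ∀ γ : n → R[X], g • γ ∈ N)
    (hstar : ∀ γ ∈ N, (∀ i j, (γ i).coeff j ∈ maximalIdeal R) →
      γ ∈ maximalIdeal R • (N.restrictScalars R)) :
    ∃ w : n → (n → R[X]), Submodule.span R[X] (Set.range w) = N := by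
  let k := ResidueField R
  let Nbar : Submodule k[X] (n → k[X]) :=
    { carrier := {x | ∃ γ ∈ N, red γ = x}
      zero_mem' := ⟨0, N.zero_mem, by ext1 i; simp [red]⟩
      add_mem' := by
        rintro _ _ ⟨γ, hγ, rfl⟩ ⟨δ, hδ, rfl⟩
        exact ⟨γ + δ, N.add_mem hγ hδ, red_add _ _⟩
      smul_mem' := by
        rintro c _ ⟨γ, hγ, rfl⟩
        obtain ⟨c', rfl⟩ := Polynomial.map_surjective (residue R) residue_surjective c
        exact ⟨c' • γ, N.smul_mem _ hγ, red_smul _ _⟩ }
  obtain ⟨d, hd, hp⟩ := exists_compl Nbar (g.map (residue R)) (hg.map _).ne_zero (fun x => by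
    obtain ⟨γ, rfl⟩ := red_surj x
    exact ⟨g • γ, hgN γ, red_smul _ _⟩)
  have htop := stable d Nbar hp
  have hjac : maximalIdeal R ≤ (⊥ : Ideal R).jacobson := IsLocalRing.maximalIdeal_le_jacobson _
  -- Nakayama 1
  have h1 : G R d ⊔ N.restrictScalars R = ⊤ := by
    let π : (n → R[X]) →ₗ[R] ((n → R[X]) ⧸ N) := (N.mkQ).restrictScalars R
    have hfin : (⊤ : Submodule R ((n → R[X]) ⧸ N)).FG := by
      have := fg_of_monic_smul (M := (n → R[X]) ⧸ N) g hg (fun m => by
        obtain ⟨γ, rfl⟩ := N.mkQ_surjective m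
        rw [← map_smul, Submodule.mkQ_apply, Submodule.Quotient.mk_eq_zero]
        exact hgN γ) ⊤ Module.Finite.fg_top
      simpa using this
    have h2 : (⊤ : Submodule R ((n → R[X]) ⧸ N)) ≤ (G R d).map π := by
      refine Submodule.le_of_le_smul_of_le_jacobson_bot hfin hjac ?_
      intro m _
      obtain ⟨γ, rfl⟩ := N.mkQ_surjective m
      have h3 : red γ ∈ (⊤ : Submodule k (n → k[X])) := trivial
      rw [← htop] at h3
      obtain ⟨y, hy, z, ⟨ν, hν, rfl⟩, hyz⟩ := Submodule.mem_sup.1 h3
      obtain ⟨γ', hγ', rfl⟩ := exists_red_mem_G hy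
      have h4 : red (γ - γ' - ν) = 0 := by
        rw [red_sub, red_sub, ← hyz]; abel
      have h5 := mem_smul_top _ _ ((red_eq_zero _).1 h4)
      have h6 : π γ = π γ' + π (γ - γ' - ν) := by
        have h7 : π ν = 0 := by
          change N.mkQ ν = 0
          rw [Submodule.mkQ_apply, Submodule.Quotient.mk_eq_zero]
          exact hν
        rw [map_sub, map_sub, h7]; abel
      change π γ ∈ _
      rw [h6]
      refine Submodule.add_mem_sup (Submodule.mem_map_of_mem hγ') ?_
      have h8 := Submodule.mem_map_of_mem (f := π) h5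
      rw [Submodule.map_smul''] at h8
      exact Submodule.smul_mono le_rfl le_top h8
    rw [eq_top_iff]
    intro γ _
    obtain ⟨γ', hγ', h3⟩ := h2 (show π γ ∈ _ from trivial)
    have h4 : γ - γ' ∈ N := by
      rw [← Submodule.Quotient.mk_eq_zero, ← Submodule.mkQ_apply, map_sub, sub_eq_zero]
      exact h3.symm
    have h5 := Submodule.add_mem_sup hγ' ((Submodule.restrictScalars_mem R N _).2 h4)
    rwa [add_sub_cancel] at h5
  -- the elements w
  have h2 : ∀ i, ∃ p ∈ G R d, Pi.single i (X ^ d i) - p ∈ N := by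
    intro i
    have h3 : (Pi.single i (X ^ d i) : n → R[X]) ∈ (⊤ : Submodule R (n → R[X])) := trivial
    rw [← h1] at h3
    obtain ⟨y, hy, z, hz, hyz⟩ := Submodule.mem_sup.1 h3
    exact ⟨y, hy, by rw [← hyz, add_sub_cancel_left]; exact hz⟩
  choose p hpG hpN using h2
  let w : n → (n → R[X]) := fun i => Pi.single i (X ^ d i) - p i
  refine ⟨w, ?_⟩
  set W := Submodule.span R[X] (Set.range w) with hW
  have hWN : W ≤ N := by
    rw [hW, Submodule.span_le]
    rintro _ ⟨i, rfl⟩
    exact hpN i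
  have h3 : G R d ⊔ W.restrictScalars R = ⊤ :=
    stable d W fun i => ⟨p i, hpG i, Submodule.subset_span ⟨i, rfl⟩⟩
  let π : (n → R[X]) →ₗ[R] ((n → R[X]) ⧸ W) := (W.mkQ).restrictScalars R
  have hGfg : (G R d).FG := by
    rw [Submodule.fg_def]
    refine ⟨⋃ i : n, (fun j => (Pi.single i (X ^ j : R[X]) : n → R[X])) '' (Set.Iio (d i)),
      Set.finite_iUnion fun i => (Set.finite_Iio _).image _, le_antisymm ?_ ?_⟩
    · rw [Submodule.span_le]
      rintro _ ⟨_, ⟨i, rfl⟩, j, hj, rfl⟩
      refine single_mem_G fun l hl => ?_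
      rw [Set.mem_Iio] at hj
      rw [coeff_X_pow, if_neg (by omega)]
    · intro γ hγ
      rw [decomp γ]
      refine Submodule.sum_mem _ fun i _ => Submodule.sum_mem _ fun j hj =>
        Submodule.smul_mem _ _ (Submodule.subset_span ?_)
      refine Set.mem_iUnion.2 ⟨i, j, ?_, rfl⟩
      rw [Set.mem_Iio]
      by_contra hlt
      exact (mem_support_iff.1 hj) (hγ i j (not_lt.1 hlt))
  have hfin : Module.Finite R ((n → R[X]) ⧸ W) := by
    refine ⟨?_⟩
    have h4 : (G R d).map π = ⊤ := by
      rw [eq_top_iff]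
      intro m _
      obtain ⟨γ, rfl⟩ := W.mkQ_surjective m
      have h3' : γ ∈ (⊤ : Submodule R (n → R[X])) := trivial
      rw [← h3] at h3'
      obtain ⟨y, hy, z, hz, rfl⟩ := Submodule.mem_sup.1 h3'
      refine ⟨y, hy, ?_⟩
      change W.mkQ y = W.mkQ (y + z)
      rw [map_add, (W.mkQ_apply z), (Submodule.Quotient.mk_eq_zero W).2 hz, add_zero]
    rw [← h4]
    exact hGfg.map π
  obtain ⟨f, hf, hf0⟩ := LinearMap.exists_monic_and_aeval_eq_zero R
    (Algebra.lsmul R R ((n → R[X]) ⧸ W) (X : R[X]))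
  rw [aeval_algHom_apply, aeval_X_left, AlgHom.id_apply] at hf0
  have hfM : ∀ m : (n → R[X]) ⧸ W, f • m = 0 := fun m => LinearMap.congr_fun hf0 m
  let N' := N.map W.mkQ
  have hN'fg : (N'.restrictScalars R).FG := fg_of_monic_smul f hf hfM N' (hfg.map _)
  have hN' : N'.restrictScalars R = ⊥ := by
    refine Submodule.eq_bot_of_le_smul_of_le_jacobson_bot (maximalIdeal R) _ hN'fg ?_ hjac
    rintro _ ⟨ν, hν, rfl⟩
    have h4 : ν ∈ (⊤ : Submodule R (n → R[X])) := trivial
    rw [← h3] at h4
    obtain ⟨γ, hγ, z, hz, rfl⟩ := Submodule.mem_sup.1 h4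
    have hγN : γ ∈ N := by
      have := N.sub_mem hν (hWN hz)
      rwa [add_sub_cancel_right] at this
    have h5 : red γ ∈ G k d ⊓ Nbar.restrictScalars k := ⟨red_mem_G hγ, γ, hγN, rfl⟩
    rw [hd, Submodule.mem_bot, red_eq_zero] at h5
    have h6 := Submodule.mem_map_of_mem (f := π) (hstar γ hγN h5)
    rw [Submodule.map_smul''] at h6
    have h7 : W.mkQ (γ + z) = π γ := by
      rw [map_add, W.mkQ_apply z, (Submodule.Quotient.mk_eq_zero W).2 hz, add_zero]
      rfl
    rw [h7]
    refine Submodule.smul_mono le_rfl ?_ h6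
    rintro _ ⟨δ, hδ, rfl⟩
    exact ⟨δ, hδ, rfl⟩
  refine le_antisymm hWN fun ν hν => ?_
  have h4 : W.mkQ ν ∈ N'.restrictScalars R := ⟨ν, hν, rfl⟩
  rw [hN', Submodule.mem_bot, Submodule.mkQ_apply, Submodule.Quotient.mk_eq_zero] at h4
  exact h4

end Core

end K92.Horrocks
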