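import Groth.Agent.CAlg.K92.MatEquiv
import Mathlib.RingTheory.Ideal.Maximal
import Mathlib.RingTheory.Nilpotent.Lemmas

/-!
# Quillen patching for idempotent matrices

`quillen`: if the idempotent matrix `e(t)` over `A[t]` is equivalent to `e(0)` over `A_a[t]` for
elements `a` not all in a maximal ideal, then `e(t)` is equivalent to `e(0)`.
-/

set_option autoImplicit false

namespace K92.MatEquiv

open Polynomial

section Shift

/-- The map `A[X] → A[X][w]`, `X ↦ X + w`. -/
noncomputable def shiftHom (A : Type*) [CommRing A] : A[X] →+* A[X][X] :=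
  eval₂RingHom (C.comp C) (C X + X)

variable {A A' : Type*} [CommRing A] [CommRing A']

@[simp] theorem shiftHom_C (x : A) : shiftHom A (C x) = C (C x) := by
  simp [shiftHom]

@[simp] theorem shiftHom_X : shiftHom A X = C X + X := by
  simp [shiftHom]

theorem mapRingHom_comp_shiftHom (φ : A →+* A') :
    (mapRingHom (mapRingHom φ)).comp (shiftHom A) = (shiftHom A').comp (mapRingHom φ) := by
  ext
  · simp
  · simp

theorem eval_zero_comp_shiftHom : (evalRingHom (0 : A[X])).comp (shiftHom A) = RingHom.id _ := by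
  ext
  · simp
  · simp

theorem scaleHom_comp_C (c : A) : (scaleHom A c).comp C = C := by
  ext; simp

theorem scaleHom_one : scaleHom A 1 = RingHom.id _ := by
  ext
  · simp
  · simp

theorem scaleHom_mul (c d : A) : (scaleHom A c).comp (scaleHom A d) = scaleHom A (c * d) := by
  ext
  · simp
  · simp [mul_comm c, mul_assoc]

theorem mapRingHom_comp_scaleHom (φ : A →+* A') (c : A) :
    (mapRingHom φ).comp (scaleHom A c) = (scaleHom A' (φ c)).comp (mapRingHom φ) := by
  ext
  · simp
  · simp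

end Shift

section Patch

variable {A A' : Type*} [CommRing A] [CommRing A'] {m : Type*} [Fintype m]

theorem matrix_map_comp {R S T : Type*} [CommRing R] [CommRing S] [CommRing T] {m n : Type*}
    (M : Matrix m n R) (f : R →+* S) (g : S →+* T) : (M.map f).map g = M.map (g.comp f) := by
  ext i j; rfl

/-- The family `e(cX)`. -/
noncomputable def E (e : Matrix m m A[X]) (c : A) : Matrix m m A[X] := e.map (scaleHom A c)

theorem E_idem {e : Matrix m m A[X]} (he : e * e = e) (c : A) : E e c * E e c = E e c :=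
  map_idem he _

theorem E_one (e : Matrix m m A[X]) : E e 1 = e := by
  rw [E, scaleHom_one]; ext i j; rfl

theorem patch {e : Matrix m m A[X]} (he : e * e = e) (φ : A →+* A') (S : Submonoid A)
    (hφ : LocLike φ S)
    (h : MvN (e.map (mapRingHom φ)) ((E e 0).map (mapRingHom φ))) :
    ∃ a ∈ S, ∀ c r : A, MvN (E e c) (E e (c + a * r)) := by
  classical
  obtain ⟨u, v, huv, hvu⟩ := h
  let Φ := mapRingHom φ
  have hΦ : LocLike Φ (S.map (C : A →+* A[X])) := hφ.polynomial
  let U : Matrix m m A'[X][X] := u.map (C : A'[X] →+* A'[X][X]) * v.map (shiftHom A')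
  let V : Matrix m m A'[X][X] := u.map (shiftHom A') * v.map (C : A'[X] →+* A'[X][X])
  have hee : e.map Φ * e.map Φ = e.map Φ := map_idem he Φ
  -- constants
  have hconst : ((E e 0).map Φ).map (C : A'[X] →+* A'[X][X]) = ((E e 0).map Φ).map (shiftHom A') := by
    ext1 i j
    simp only [Matrix.map_apply, E, Φ, coe_mapRingHom, scaleHom_apply, map_zero, zero_mul, comp_zero]
    simp
  have hUV : U * V = (e.map Φ).map (C : A'[X] →+* A'[X][X]) := by
    calc U * V = u.map (C : A'[X] →+* A'[X][X]) * (v.map (shiftHom A') * u.map (shiftHom A')) *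
          v.map (C : A'[X] →+* A'[X][X]) := by simp only [U, V, Matrix.mul_assoc]
      _ = u.map (C : A'[X] →+* A'[X][X]) * ((v * u).map (C : A'[X] →+* A'[X][X])) *
          v.map (C : A'[X] →+* A'[X][X]) := by rw [← Matrix.map_mul, hvu, hconst]
      _ = (u * (v * u) * v).map (C : A'[X] →+* A'[X][X]) := by
          simp only [Matrix.map_mul]
      _ = _ := by
          rw [show u * (v * u) * v = (u * v) * (u * v) by simp only [Matrix.mul_assoc], huv, hee]
  have hVU : V * U = (e.map Φ).map (shiftHom A') := by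
    calc V * U = u.map (shiftHom A') * (v.map (C : A'[X] →+* A'[X][X]) *
          u.map (C : A'[X] →+* A'[X][X])) * v.map (shiftHom A') := by
            simp only [U, V, Matrix.mul_assoc]
      _ = u.map (shiftHom A') * ((v * u).map (shiftHom A')) * v.map (shiftHom A') := by
          rw [← Matrix.map_mul, hvu, hconst]
      _ = (u * (v * u) * v).map (shiftHom A') := by
          simp only [Matrix.map_mul]
      _ = _ := by
          rw [show u * (v * u) * v = (u * v) * (u * v) by simp only [Matrix.mul_assoc], huv, hee]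
  -- values at zero
  have hev : ∀ (w : Matrix m m A'[X]),
      (w.map (C : A'[X] →+* A'[X][X])).map (evalRingHom (0 : A'[X])) = w := by
    intro w; ext1 i j; simp
  have hev' : ∀ (w : Matrix m m A'[X]),
      (w.map (shiftHom A')).map (evalRingHom (0 : A'[X])) = w := by
    intro w
    rw [matrix_map_comp, eval_zero_comp_shiftHom]; ext1 i j; rfl
  have hU0 : U.map (evalRingHom (0 : A'[X])) = e.map Φ := by
    rw [← huv]
    simp only [U, Matrix.map_mul, hev, hev']
  have hV0 : V.map (evalRingHom (0 : A'[X])) = e.map Φ := by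
    rw [← huv]
    simp only [V, Matrix.map_mul, hev, hev']
  obtain ⟨_, ⟨s₁, hs₁, rfl⟩, hN₁⟩ := exists_lift_scale_matrix hΦ U e (fun i j => by
    have := congrFun (congrFun hU0 i) j
    rw [coeff_zero_eq_eval_zero]; exact this.symm)
  obtain ⟨_, ⟨s₂, hs₂, rfl⟩, hN₂⟩ := exists_lift_scale_matrix hΦ V e (fun i j => by
    have := congrFun (congrFun hV0 i) j
    rw [coeff_zero_eq_eval_zero]; exact this.symm)
  obtain ⟨U₁, hU₁0, hU₁⟩ := hN₁ (C (s₁ * s₂)) (by rw [C_mul]; exact dvd_mul_right _ _)
  obtain ⟨V₁, hV₁0, hV₁⟩ := hN₂ (C (s₁ * s₂)) (by rw [C_mul]; exact dvd_mul_left _ _)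
  have hU₁0' : U₁.map (evalRingHom (0 : A[X])) = e := by
    ext1 i j
    rw [Matrix.map_apply, coe_evalRingHom, ← coeff_zero_eq_eval_zero, hU₁0]
  have hV₁0' : V₁.map (evalRingHom (0 : A[X])) = e := by
    ext1 i j
    rw [Matrix.map_apply, coe_evalRingHom, ← coeff_zero_eq_eval_zero, hV₁0]
  let s : A[X][X] →+* A[X][X] := scaleHom A[X] (C (s₁ * s₂))
  let s' : A'[X][X] →+* A'[X][X] := scaleHom A'[X] (Φ (C (s₁ * s₂)))
  have hs : (mapRingHom Φ).comp s = s'.comp (mapRingHom Φ) := mapRingHom_comp_scaleHom Φ _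
  -- first relation
  let W₁ := U₁ * V₁ - e.map (C : A[X] →+* A[X][X])
  let W₂ := V₁ * U₁ - (e.map (shiftHom A)).map s
  have hW₁0 : ∀ i j, (W₁ i j).coeff 0 = 0 := by
    have h1 : W₁.map (evalRingHom (0 : A[X])) = 0 := by
      rw [Matrix.map_sub _ (map_sub _), Matrix.map_mul, hU₁0', hV₁0', he]
      ext1 i j
      simp
    intro i j
    rw [coeff_zero_eq_eval_zero]
    exact congrFun (congrFun h1 i) j
  have hW₂0 : ∀ i j, (W₂ i j).coeff 0 = 0 := by
    have h2 : ((evalRingHom (0 : A[X])).comp s).comp (shiftHom A) = RingHom.id _ := by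
      ext
      · simp [s]
      · simp [s]
    have h1 : W₂.map (evalRingHom (0 : A[X])) = 0 := by
      rw [Matrix.map_sub _ (map_sub _), Matrix.map_mul, hU₁0', hV₁0', he, matrix_map_comp,
        matrix_map_comp, h2]
      ext1 i j
      simp
    intro i j
    rw [coeff_zero_eq_eval_zero]
    exact congrFun (congrFun h1 i) j
  have hW₁ : W₁.map (mapRingHom Φ) = 0 := by
    rw [Matrix.map_sub _ (map_sub _), Matrix.map_mul, hU₁, hV₁, ← Matrix.map_mul, hUV]
    have h1 : ((e.map Φ).map (C : A'[X] →+* A'[X][X])).map (scaleHom A'[X] (Φ (C (s₁ * s₂)))) =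
        (e.map (C : A[X] →+* A[X][X])).map (mapRingHom Φ) := by
      ext1 i j
      simp
    rw [h1, sub_self]
  have hW₂ : W₂.map (mapRingHom Φ) = 0 := by
    rw [Matrix.map_sub _ (map_sub _), Matrix.map_mul, hU₁, hV₁, ← Matrix.map_mul, hVU]
    have h1 : ((e.map Φ).map (shiftHom A')).map (scaleHom A'[X] (Φ (C (s₁ * s₂)))) =
        ((e.map (shiftHom A)).map s).map (mapRingHom Φ) := by
      have h5 : (s'.comp (shiftHom A')).comp Φ = ((mapRingHom Φ).comp s).comp (shiftHom A) := by
        rw [hs, RingHom.comp_assoc, RingHom.comp_assoc, mapRingHom_comp_shiftHom]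
      rw [matrix_map_comp, matrix_map_comp, matrix_map_comp, matrix_map_comp]
      exact congrArg (fun F : A[X] →+* A'[X][X] => e.map F) h5
    rw [h1, sub_self]
  obtain ⟨_, ⟨s₃, hs₃, rfl⟩, hN₃⟩ := exists_scale_eq_zero_matrix hΦ W₁ hW₁0 hW₁
  obtain ⟨_, ⟨s₄, hs₄, rfl⟩, hN₄⟩ := exists_scale_eq_zero_matrix hΦ W₂ hW₂0 hW₂
  have h3 := hN₃ (C (s₃ * s₄)) (by rw [C_mul]; exact dvd_mul_right _ _)
  have h4 := hN₄ (C (s₃ * s₄)) (by rw [C_mul]; exact dvd_mul_left _ _)
  refine ⟨(s₁ * s₂) * (s₃ * s₄), S.mul_mem (S.mul_mem hs₁ hs₂) (S.mul_mem hs₃ hs₄),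
    fun c r => ?_⟩
  let t : A[X][X] →+* A[X][X] := scaleHom A[X] (C (s₃ * s₄))
  let χ : A[X][X] →+* A[X] := eval₂RingHom (scaleHom A c) (C r * X)
  refine ⟨(U₁.map t).map χ, (V₁.map t).map χ, ?_, ?_⟩
  · rw [Matrix.map_sub _ (map_sub _), sub_eq_zero, Matrix.map_mul] at h3
    rw [← Matrix.map_mul, h3]
    ext1 i j
    simp [E, χ]
  · rw [Matrix.map_sub _ (map_sub _), sub_eq_zero, Matrix.map_mul] at h4
    rw [← Matrix.map_mul, h4]
    simp only [matrix_map_comp, E]
    refine congrArg (fun F : A[X] →+* A[X] => e.map F) ?_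
    refine Polynomial.ringHom_ext (fun x => ?_) ?_
    · simp [χ, s]
    · have e1 : s (C X + X) = C X + C (C (s₁ * s₂)) * X := by simp [s]
      have e2 : t (C X + C (C (s₁ * s₂)) * X) = C X + C (C (s₁ * s₂)) * (C (C (s₃ * s₄)) * X) := by
        simp [t]
      have e3 : ∀ z : A[X], χ (C z) = z.comp (C c * X) := by
        intro z; simp [χ]
      have e4 : χ X = C r * X := by simp [χ]
      have e5 : χ (C X + C (C (s₁ * s₂)) * (C (C (s₃ * s₄)) * X)) =
          C c * X + C (s₁ * s₂) * (C (s₃ * s₄) * (C r * X)) := by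
        rw [map_add χ, map_mul χ, map_mul χ, e3, e3, e3, e4, X_comp, C_comp, C_comp]
      rw [RingHom.comp_apply, RingHom.comp_apply, RingHom.comp_apply, shiftHom_X, e1, e2, e5,
        scaleHom_apply, X_comp]
      simp only [C_add, C_mul]
      ring

theorem quillen {e : Matrix m m A[X]} (he : e * e = e)
    (h : ∀ p : Ideal A, p.IsMaximal → ∃ a, a ∉ p ∧
      ∀ c r : A, MvN (E e c) (E e (c + a * r))) :
    MvN (E e 0) e := by
  let J : Ideal A :=
    { carrier := {d | ∀ c r : A, MvN (E e c) (E e (c + d * r))}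
      zero_mem' := fun c r => by
        rw [zero_mul, add_zero]; exact MvN.refl (E_idem he c)
      add_mem' := fun {d d'} hd hd' c r => by
        have h1 := (hd c r).trans (E_idem he _) (E_idem he _) (hd' (c + d * r) r)
        rwa [add_assoc, ← add_mul] at h1
      smul_mem' := fun x d hd c r => by
        have := hd c (x * r)
        rwa [← mul_assoc, mul_comm d x] at this }
  have hJ : J = ⊤ := by
    by_contra hne
    obtain ⟨p, hp, hJp⟩ := Ideal.exists_le_maximal J hne
    obtain ⟨a, ha, hK⟩ := h p hp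
    have h1 : a ∈ J := hK
    exact ha (hJp h1)
  have h1 : (1 : A) ∈ J := by rw [hJ]; trivial
  have h2 : MvN (E e 0) (E e (0 + 1 * 1)) := h1 0 1
  rwa [zero_add, one_mul, E_one] at h2

end Patch

end K92.MatEquiv
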