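import Groth.Agent.CAlg.K92.HorrocksGlue
import Groth.Agent.CAlg.K92.QuillenMat

/-!
# The global Horrocks theorem for idempotent matrices
-/

set_option autoImplicit false

namespace K92.Horrocks

open Polynomial K92.MatEquiv IsLocalRing LaurentPolynomial

/-- Base change of Laurent polynomials. -/
noncomputable def lmap {A B : Type*} [CommRing A] [CommRing B] (φ : A →+* B) :
    A[T;T⁻¹] →+* B[T;T⁻¹] := AddMonoidAlgebra.mapRingHom ℤ φ

theorem lmap_C {A B : Type*} [CommRing A] [CommRing B] (φ : A →+* B) (a : A) :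
    lmap φ (LaurentPolynomial.C a) = LaurentPolynomial.C (φ a) := by
  rw [← single_eq_C, ← single_eq_C, lmap, AddMonoidAlgebra.coe_mapRingHom]
  exact AddMonoidAlgebra.map_single ..

theorem lmap_T {A B : Type*} [CommRing A] [CommRing B] (φ : A →+* B) (n : ℤ) :
    lmap φ (T n) = T n := by
  simp [lmap, T, -single_eq_C_mul_T]

theorem lmap_toLaurent {A B : Type*} [CommRing A] [CommRing B] (φ : A →+* B) (p : A[X]) :
    lmap φ (toLaurent p) = toLaurent (p.map φ) := by
  have : (lmap φ).comp (toLaurent : A[X] →+* A[T;T⁻¹]) = (toLaurent : B[X] →+* B[T;T⁻¹]).comp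
      (mapRingHom φ) := by
    refine Polynomial.ringHom_ext (fun x => ?_) ?_
    · simp [lmap_C]
    · simp [lmap_T]
  exact RingHom.congr_fun this p

theorem lmap_tli {A B : Type*} [CommRing A] [CommRing B] (φ : A →+* B) (p : A[X]) :
    lmap φ (tli A p) = tli B (p.map φ) := by
  have : (lmap φ).comp (tli A) = (tli B).comp (mapRingHom φ) := by
    refine Polynomial.ringHom_ext (fun x => ?_) ?_
    · simp [tli_apply, lmap_C]
    · simp [tli_apply, lmap_T]
  exact RingHom.congr_fun this p

theorem glue_global {A : Type*} [CommRing A] {m q : Type*} [Fintype m] [Fintype q]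
    [DecidableEq m] [DecidableEq q] (e : Matrix m m A[X]) (he : e * e = e) (f : Matrix q q A[X])
    (hf : f * f = f) (u : Matrix m q A[T;T⁻¹]) (v : Matrix q m A[T;T⁻¹])
    (huv : u * v = e.map (toLaurent : A[X] →+* A[T;T⁻¹])) (hvu : v * u = f.map (tli A)) :
    MvN (E e 0) e := by
  refine quillen he fun p hp => ?_
  have hp' : p.IsPrime := hp.isPrime
  let R := Localization.AtPrime p
  let φ : A →+* R := algebraMap A R
  have hloc : LocLike φ p.primeCompl := locLike_of_isLocalization _
  obtain ⟨r, hr⟩ := glue_local (e.map (mapRingHom φ)) (map_idem he _) (f.map (mapRingHom φ))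
    (map_idem hf _) (u.map (lmap φ)) (v.map (lmap φ))
    (by
      rw [← Matrix.map_mul, huv]
      ext1 i j
      exact lmap_toLaurent φ _)
    (by
      rw [← Matrix.map_mul, hvu]
      ext1 i j
      exact lmap_tli φ _)
  have h0 := hr.map (scaleHom R 0)
  rw [map_one_ringHom] at h0
  have h1 : (e.map (mapRingHom φ)).map (scaleHom R 0) = (E e 0).map (mapRingHom φ) := by
    rw [E, matrix_map_comp, matrix_map_comp, mapRingHom_comp_scaleHom, map_zero]
  rw [h1] at h0
  have h2 : MvN (e.map (mapRingHom φ)) ((E e 0).map (mapRingHom φ)) :=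
    hr.trans (map_idem he _) (map_idem (E_idem he _) _) h0.symm
  obtain ⟨a, ha, h3⟩ := patch he φ p.primeCompl hloc h2
  exact ⟨a, ha, h3⟩

end K92.Horrocks
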