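import Groth.Agent.CAlg.K92.HorrocksLocal
import Mathlib.Algebra.Polynomial.Laurent
import Mathlib.RingTheory.LocalRing.Module
import Mathlib.RingTheory.Localization.AtPrime.Basic
import Mathlib.LinearAlgebra.FreeModule.Basic
import Mathlib.LinearAlgebra.Dimension.Free

/-!
# From gluing data on the projective line to the hypotheses of the local Horrocks theorem
-/

set_option autoImplicit false

namespace K92.Horrocks

open Polynomial K92.MatEquiv IsLocalRing LaurentPolynomial

/-- Over a local ring an idempotent matrix is equivalent to an identity matrix. -/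
theorem idem_local {S : Type*} [CommRing S] [IsLocalRing S] {q : Type*} [Fintype q] [DecidableEq q]
    (f : Matrix q q S) (hf : f * f = f) :
    ∃ r : ℕ, MvN f (1 : Matrix (Fin r) (Fin r) S) := by
  let P : Submodule S (q → S) := LinearMap.range f.mulVecLin
  let π : (q → S) →ₗ[S] P := f.mulVecLin.rangeRestrict
  have hπ : ∀ x : P, π x.1 = x := by
    rintro ⟨_, v, rfl⟩
    ext1
    change f.mulVec (f.mulVec v) = f.mulVec v
    rw [Matrix.mulVec_mulVec, hf]
  have hproj : Module.Projective S P :=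
    Module.Projective.of_split P.subtype π (LinearMap.ext hπ)
  have hfin : Module.Finite S P := Module.Finite.range _
  have hfree : Module.Free S P := Module.free_of_flat_of_isLocalRing
  let B := Module.finBasis S P
  let x : Matrix q (Fin (Module.finrank S P)) S := Matrix.of fun i j => (B j).1 i
  let y : Matrix (Fin (Module.finrank S P)) q S := Matrix.of fun i j => B.repr (π (Pi.single j 1)) i
  have hx : ∀ c, x.mulVec c = (∑ j, c j • B j : P).1 := by
    intro c
    ext1 i
    simp only [Matrix.mulVec, dotProduct, x, Matrix.of_apply]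
    rw [Submodule.coe_sum, Finset.sum_apply]
    refine Finset.sum_congr rfl fun j _ => ?_
    rw [Submodule.coe_smul, Pi.smul_apply, smul_eq_mul, mul_comm]
  have hy : ∀ v, y.mulVec v = B.repr (π v) := by
    intro v
    ext1 i
    have h1 : v = ∑ j, v j • (Pi.single j (1 : S) : q → S) := by
      ext1 i
      simp [Finset.sum_apply, Pi.single_apply]
    conv_rhs => rw [h1]
    rw [map_sum, map_sum, Finsupp.finsetSum_apply]
    simp only [Matrix.mulVec, dotProduct, y, Matrix.of_apply]
    refine Finset.sum_congr rfl fun j _ => ?_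
    rw [map_smul, map_smul, Finsupp.smul_apply, smul_eq_mul, mul_comm]
  refine ⟨_, x, y, ?_, ?_⟩
  · apply Matrix.mulVec_injective
    ext1 v
    rw [← Matrix.mulVec_mulVec, hx, hy]
    rw [B.sum_repr]
    rfl
  · apply Matrix.mulVec_injective
    ext1 v
    rw [← Matrix.mulVec_mulVec, hx, hy, hπ, Matrix.one_mulVec]
    ext i
    rw [map_sum, Finsupp.finsetSum_apply]
    simp [Finsupp.single_apply]

theorem map_smul_ringHom {R S : Type*} [CommRing R] [CommRing S] (φ : R →+* S) {m n : Type*}
    (r : R) (M : Matrix m n R) : (r • M).map φ = φ r • M.map φ := by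
  ext i j
  simp

theorem map_one_ringHom {R S : Type*} [CommRing R] [CommRing S] (φ : R →+* S) {m : Type*}
    [DecidableEq m] : (1 : Matrix m m R).map φ = 1 :=
  Matrix.map_one _ (map_zero _) (map_one _)

/-- An idempotent matrix over `R[s]`, `R` local, becomes trivial after inverting `h` with
`h(0) = 1`. -/
theorem exists_clear {R : Type*} [CommRing R] [IsLocalRing R] {q : Type*} [Fintype q]
    [DecidableEq q] (f : Matrix q q R[X]) (hf : f * f = f) :
    ∃ (r : ℕ) (x : Matrix q (Fin r) R[X]) (y : Matrix (Fin r) q R[X]) (h : R[X]),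
      h.coeff 0 = 1 ∧ x * y = h • f ∧ y * x = h • (1 : Matrix (Fin r) (Fin r) R[X]) := by
  let 𝔫 : Ideal R[X] := (maximalIdeal R).comap constantCoeff
  have h𝔫 : 𝔫.IsPrime := Ideal.comap_isPrime _ _
  let S := Localization.AtPrime 𝔫
  let φ : R[X] →+* S := algebraMap R[X] S
  have hloc : LocLike φ 𝔫.primeCompl := locLike_of_isLocalization _
  obtain ⟨r, x₀, y₀, hx₀, hy₀⟩ := idem_local (f.map φ) (map_idem hf φ)
  obtain ⟨s₁, hs₁, h1⟩ := hloc.exists_matrix x₀
  obtain ⟨s₂, hs₂, h2⟩ := hloc.exists_matrix y₀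
  obtain ⟨x₁, hx₁⟩ := h1 (s₁ * s₂) (dvd_mul_right _ _)
  obtain ⟨y₁, hy₁⟩ := h2 (s₁ * s₂) (dvd_mul_left _ _)
  set s := s₁ * s₂ with hs
  have h3 : (x₁ * y₁ - (s * s) • f).map φ = 0 := by
    rw [Matrix.map_sub _ (map_sub _), Matrix.map_mul, hx₁, hy₁, map_smul_ringHom, map_mul φ s s,
      Matrix.smul_mul, Matrix.mul_smul, hx₀, smul_smul, sub_self]
  have h4 : (y₁ * x₁ - (s * s) • (1 : Matrix (Fin r) (Fin r) R[X])).map φ = 0 := by
    rw [Matrix.map_sub _ (map_sub _), Matrix.map_mul, hx₁, hy₁, map_smul_ringHom, map_mul φ s s,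
      Matrix.smul_mul, Matrix.mul_smul, hy₀, smul_smul, map_one_ringHom, sub_self]
  obtain ⟨t₁, ht₁, h5⟩ := hloc.exists_matrix_zero _ h3
  obtain ⟨t₂, ht₂, h6⟩ := hloc.exists_matrix_zero _ h4
  have h5' := h5 (t₁ * t₂) (dvd_mul_right _ _)
  have h6' := h6 (t₁ * t₂) (dvd_mul_left _ _)
  set t := t₁ * t₂ with ht
  rw [smul_sub, sub_eq_zero, smul_smul] at h5' h6'
  have hmem : t * (s * s) ∈ 𝔫.primeCompl :=
    mul_mem (mul_mem ht₁ ht₂) (mul_mem (mul_mem hs₁ hs₂) (mul_mem hs₁ hs₂))
  have hunit : IsUnit ((t * (s * s)).coeff 0) := by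
    by_contra hcon
    exact hmem ((mem_maximalIdeal _).2 hcon)
  obtain ⟨c, hc⟩ := hunit.exists_left_inv
  refine ⟨r, Polynomial.C c • (t • x₁), y₁, Polynomial.C c * (t * (s * s)), ?_, ?_, ?_⟩
  · rw [coeff_C_mul, hc]
  · rw [Matrix.smul_mul, Matrix.smul_mul, h5', smul_smul]
  · rw [Matrix.mul_smul, Matrix.mul_smul, h6', smul_smul]

/-- The map `R[X] → R[T;T⁻¹]`, `X ↦ T⁻¹`. -/
noncomputable def tli (R : Type*) [CommRing R] : R[X] →+* R[T;T⁻¹] :=
  (LaurentPolynomial.invert (R := R)).toRingEquiv.toRingHom.comp toLaurent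

theorem tli_apply {R : Type*} [CommRing R] (p : R[X]) :
    tli R p = LaurentPolynomial.invert (toLaurent p) := rfl

theorem glue_local {R : Type*} [CommRing R] [IsLocalRing R] {m q : Type*} [Fintype m] [Fintype q]
    [DecidableEq m] [DecidableEq q] (e : Matrix m m R[X]) (he : e * e = e) (f : Matrix q q R[X])
    (hf : f * f = f) (u : Matrix m q R[T;T⁻¹]) (v : Matrix q m R[T;T⁻¹])
    (huv : u * v = e.map (toLaurent : R[X] →+* R[T;T⁻¹])) (hvu : v * u = f.map (tli R)) :
    ∃ r : ℕ, MvN e (1 : Matrix (Fin r) (Fin r) R[X]) := by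
  obtain ⟨r, x, y, h, h0, hxy, hyx⟩ := exists_clear f hf
  refine ⟨r, ?_⟩
  let tl : R[X] →+* R[T;T⁻¹] := toLaurent
  have hloc : LocLike tl (Submonoid.powers (X : R[X])) :=
    locLike_of_isLocalization (B' := R[T;T⁻¹]) (Submonoid.powers (X : R[X]))
  obtain ⟨_, ⟨j₁, rfl⟩, h1⟩ := hloc.exists_matrix (u * x.map (tli R))
  obtain ⟨_, ⟨j₂, rfl⟩, h2⟩ := hloc.exists_matrix (y.map (tli R) * v)
  let j := j₁ + j₂ + h.natDegree
  obtain ⟨a, ha⟩ := h1 (X ^ j) (pow_dvd_pow _ (by omega))
  obtain ⟨b, hb⟩ := h2 (X ^ j) (pow_dvd_pow _ (by omega))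
  let g : R[X] := X ^ (2 * j - h.natDegree) * h.reverse
  have hrev : h.reverse.Monic := by
    have h3 : h.trailingCoeff = 1 := by
      rw [trailingCoeff, natTrailingDegree_eq_zero.2 (Or.inr (by rw [h0]; exact one_ne_zero)), h0]
    rw [Monic, reverse_leadingCoeff, h3]
  have hg : g.Monic := (monic_X_pow _).mul hrev
  set τ : R[T;T⁻¹] := tl (X ^ j) with hτ
  have hgτ : tl g = τ * τ * tli R h := by
    have h3 : tl h.reverse = tli R h * tl (X ^ h.natDegree) := by
      have := LaurentPolynomial.toLaurent_reverse h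
      rw [← Polynomial.toLaurent_X_pow] at this
      exact this
    rw [map_mul, h3, ← mul_assoc, mul_right_comm, ← map_mul, ← pow_add,
      show 2 * j - h.natDegree + h.natDegree = j + j by omega, pow_add, map_mul]
  have hxy' : x.map (tli R) * y.map (tli R) = tli R h • f.map (tli R) := by
    rw [← Matrix.map_mul, hxy, map_smul_ringHom]
  have hyx' : y.map (tli R) * x.map (tli R) =
      tli R h • (1 : Matrix (Fin r) (Fin r) R[T;T⁻¹]) := by
    rw [← Matrix.map_mul, hyx, map_smul_ringHom, map_one_ringHom]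
  have hee : e.map tl * e.map tl = e.map tl := map_idem he tl
  have huv' : u * v = e.map tl := huv
  have hab : a * b = g • e := by
    ext1 i i'
    apply toLaurent_injective
    refine congrFun (congrFun (?_ : (a * b).map tl = (g • e).map tl) i) i'
    rw [Matrix.map_mul, ha, hb, map_smul_ringHom, hgτ]
    calc τ • (u * x.map (tli R)) * τ • (y.map (tli R) * v)
        = (τ * τ) • (u * (x.map (tli R) * y.map (tli R)) * v) := by
          rw [Matrix.smul_mul, Matrix.mul_smul, smul_smul]
          simp only [Matrix.mul_assoc]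
      _ = (τ * τ * tli R h) • ((u * v) * (u * v)) := by
          rw [hxy', Matrix.mul_smul, Matrix.smul_mul, smul_smul, ← hvu]
          simp only [Matrix.mul_assoc]
      _ = _ := by rw [huv', hee]
  have hba : b * a = g • (1 : Matrix (Fin r) (Fin r) R[X]) := by
    apply smul_cancel hg
    ext1 i i'
    apply toLaurent_injective
    refine congrFun (congrFun (?_ : (g • (b * a)).map tl = (g • g • (1 : Matrix (Fin r) (Fin r)
      R[X])).map tl) i) i'
    rw [map_smul_ringHom, map_smul_ringHom, map_smul_ringHom, map_one_ringHom, Matrix.map_mul, ha,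
      hb, hgτ]
    calc (τ * τ * tli R h) • (τ • (y.map (tli R) * v) * τ • (u * x.map (tli R)))
        = (τ * τ * (τ * τ)) • (y.map (tli R) * (tli R h • (v * u)) * x.map (tli R)) := by
          rw [Matrix.smul_mul, Matrix.mul_smul, Matrix.mul_smul, Matrix.smul_mul, smul_smul,
            smul_smul, smul_smul]
          simp only [Matrix.mul_assoc]
          refine congrArg₂ (· • ·) ?_ rfl
          ring
      _ = (τ * τ * (τ * τ)) • ((y.map (tli R) * x.map (tli R)) *
            (y.map (tli R) * x.map (tli R))) := by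
          rw [hvu, ← hxy']
          simp only [Matrix.mul_assoc]
      _ = _ := by
          rw [hyx', Matrix.smul_mul, Matrix.one_mul, smul_smul, smul_smul, smul_smul]
          refine congrArg₂ (· • ·) ?_ rfl
          ring
  exact local_horrocks e he a b g hg hab hba

end K92.Horrocks
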