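import Mathlib.LinearAlgebra.Matrix.Defs
import Mathlib.Data.Matrix.Mul
import Mathlib.Data.Matrix.Basic
import Mathlib.Algebra.Polynomial.AlgebraMap
import Mathlib.Algebra.Polynomial.Inductions
import Mathlib.Algebra.Polynomial.Eval.Degree
import Mathlib.RingTheory.Localization.Away.Basic
import Mathlib.RingTheory.Localization.AtPrime.Basic
import Mathlib.RingTheory.Ideal.Operations
import Mathlib.Tactic.LinearCombination

/-!
# Equivalence of idempotent matrices and Quillen patching

* `MvN e f`: there are `u`, `v` with `u * v = e` and `v * u = f` (isomorphism of the images).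
* `quillen`: an idempotent matrix `e(t)` over `A[t]` which is locally on `Spec A` equivalent to `e(0)`
  is equivalent to `e(0)`.
-/

set_option autoImplicit false

namespace K92.MatEquiv

open Polynomial

/-- Equivalence of (idempotent) matrices. -/
def MvN {S : Type*} [CommRing S] {m n : Type*} [Fintype m] [Fintype n]
    (e : Matrix m m S) (f : Matrix n n S) : Prop :=
  ∃ (u : Matrix m n S) (v : Matrix n m S), u * v = e ∧ v * u = f

section Basic

variable {S T : Type*} [CommRing S] [CommRing T] {m n l : Type*} [Fintype m] [Fintype n] [Fintype l]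

theorem MvN.symm {e : Matrix m m S} {f : Matrix n n S} (h : MvN e f) : MvN f e := by
  obtain ⟨u, v, h1, h2⟩ := h
  exact ⟨v, u, h2, h1⟩

theorem MvN.refl {e : Matrix m m S} (he : e * e = e) : MvN e e := ⟨e, e, he, he⟩

theorem MvN.trans {e : Matrix m m S} {f : Matrix n n S} {g : Matrix l l S} (he : e * e = e)
    (hg : g * g = g) (h : MvN e f) (h' : MvN f g) : MvN e g := by
  obtain ⟨u, v, h1, h2⟩ := h
  obtain ⟨u', v', h3, h4⟩ := h'
  refine ⟨u * u', v' * v, ?_, ?_⟩
  · calc u * u' * (v' * v) = u * (u' * v') * v := by simp only [Matrix.mul_assoc]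
      _ = u * (v * u) * v := by rw [h3, h2]
      _ = (u * v) * (u * v) := by simp only [Matrix.mul_assoc]
      _ = e := by rw [h1, he]
  · calc v' * v * (u * u') = v' * (v * u) * u' := by simp only [Matrix.mul_assoc]
      _ = v' * (u' * v') * u' := by rw [h2, h3]
      _ = (v' * u') * (v' * u') := by simp only [Matrix.mul_assoc]
      _ = g := by rw [h4, hg]

theorem MvN.map {e : Matrix m m S} {f : Matrix n n S} (h : MvN e f) (φ : S →+* T) :
    MvN (e.map φ) (f.map φ) := by
  obtain ⟨u, v, h1, h2⟩ := h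
  exact ⟨u.map φ, v.map φ, by rw [← Matrix.map_mul, h1], by rw [← Matrix.map_mul, h2]⟩

/-- if `e ~ f` and `f` comes from constants compatible ... : idempotents equivalent to the same
matrix over which everything can be evaluated. -/
theorem map_idem {e : Matrix m m S} (he : e * e = e) (φ : S →+* T) :
    e.map φ * e.map φ = e.map φ := by
  rw [← Matrix.map_mul, he]

end Basic

/-- The properties of a localization map `B → S⁻¹B` used below. -/
structure LocLike {B B' : Type*} [CommRing B] [CommRing B'] (φ : B →+* B') (S : Submonoid B) :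
    Prop where
  surj : ∀ x : B', ∃ s ∈ S, ∃ y : B, φ y = φ s * x
  zero : ∀ y : B, φ y = 0 → ∃ s ∈ S, s * y = 0

section Away

variable {B B' : Type*} [CommRing B] [CommRing B']

theorem locLike_of_isLocalization [Algebra B B'] (S : Submonoid B) [IsLocalization S B'] :
    LocLike (algebraMap B B') S := by
  refine ⟨fun x => ?_, fun y hy => ?_⟩
  · obtain ⟨⟨y, s⟩, h⟩ := IsLocalization.surj S x
    exact ⟨s, s.2, y, by rw [← h, mul_comm]⟩
  · rw [IsLocalization.map_eq_zero_iff S] at hy
    obtain ⟨s, hs⟩ := hy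
    exact ⟨s, s.2, hs⟩

theorem LocLike.exists_finset {φ : B →+* B'} {S : Submonoid B} (h : LocLike φ S) {ι : Type*}
    (F : Finset ι) (x : ι → B') :
    ∃ s ∈ S, ∀ s', s ∣ s' → ∀ i ∈ F, ∃ y : B, φ y = φ s' * x i := by
  classical
  choose s hs y hy using fun i => h.surj (x i)
  refine ⟨∏ i ∈ F, s i, Submonoid.prod_mem _ fun i _ => hs i, fun s' hs' i hi => ?_⟩
  obtain ⟨d, hd⟩ := (Finset.dvd_prod_of_mem s hi).trans hs'
  refine ⟨d * y i, ?_⟩
  rw [map_mul, hy, hd, map_mul]
  ring

theorem LocLike.exists_finset_zero {φ : B →+* B'} {S : Submonoid B} (h : LocLike φ S) {ι : Type*}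
    (F : Finset ι) (x : ι → B) (hx : ∀ i ∈ F, φ (x i) = 0) :
    ∃ s ∈ S, ∀ s', s ∣ s' → ∀ i ∈ F, s' * x i = 0 := by
  classical
  have h1 : ∀ i, ∃ s ∈ S, i ∈ F → s * x i = 0 := by
    intro i
    by_cases hi : i ∈ F
    · obtain ⟨s, hs, h1⟩ := h.zero _ (hx i hi)
      exact ⟨s, hs, fun _ => h1⟩
    · exact ⟨1, S.one_mem, fun h => absurd h hi⟩
  choose s hs hy using h1
  refine ⟨∏ i ∈ F, s i, Submonoid.prod_mem _ fun i _ => hs i, fun s' hs' i hi => ?_⟩
  obtain ⟨d, hd⟩ := (Finset.dvd_prod_of_mem s hi).trans hs'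
  rw [hd, mul_comm (s i), mul_assoc, hy i hi, mul_zero]

/-- Clearing denominators of a matrix. -/
theorem LocLike.exists_matrix {φ : B →+* B'} {S : Submonoid B} (h : LocLike φ S) {m n : Type*}
    [Fintype m] [Fintype n] (M : Matrix m n B') :
    ∃ s ∈ S, ∀ s', s ∣ s' → ∃ N : Matrix m n B, N.map φ = φ s' • M := by
  classical
  obtain ⟨s, hs, h1⟩ := h.exists_finset (Finset.univ : Finset (m × n)) (fun p => M p.1 p.2)
  refine ⟨s, hs, fun s' hs' => ?_⟩
  choose N hN using fun i j => h1 s' hs' (i, j) (Finset.mem_univ _)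
  exact ⟨N, by ext i j; exact hN i j⟩

theorem LocLike.exists_matrix_zero {φ : B →+* B'} {S : Submonoid B} (h : LocLike φ S) {m n : Type*}
    [Fintype m] [Fintype n] (M : Matrix m n B) (hM : M.map φ = 0) :
    ∃ s ∈ S, ∀ s', s ∣ s' → s' • M = 0 := by
  classical
  obtain ⟨s, hs, h1⟩ := h.exists_finset_zero (Finset.univ : Finset (m × n)) (fun p => M p.1 p.2)
    (fun p _ => congrFun (congrFun hM p.1) p.2)
  refine ⟨s, hs, fun s' hs' => ?_⟩
  ext i j
  exact h1 s' hs' (i, j) (Finset.mem_univ _)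

theorem LocLike.polynomial {φ : B →+* B'} {S : Submonoid B} (h : LocLike φ S) :
    LocLike (mapRingHom φ) (S.map (C : B →+* B[X])) := by
  classical
  refine ⟨fun p => ?_, fun q hq => ?_⟩
  · obtain ⟨s, hs, hk⟩ := h.exists_finset p.support p.coeff
    have hk' := hk s dvd_rfl
    choose! y hy using hk'
    refine ⟨C s, ⟨s, hs, rfl⟩, ∑ i ∈ p.support, monomial i (y i), ?_⟩
    rw [map_sum]
    conv_rhs => rw [p.as_sum_support, Finset.mul_sum]
    refine Finset.sum_congr rfl fun i hi => ?_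
    rw [coe_mapRingHom, map_monomial, hy i hi, map_C, C_mul_monomial]
  · obtain ⟨s, hs, hk⟩ := h.exists_finset_zero q.support q.coeff (fun i _ => by
      rw [← coeff_map, ← coe_mapRingHom, hq, coeff_zero])
    refine ⟨C s, ⟨s, hs, rfl⟩, ?_⟩
    ext i
    rw [coeff_C_mul, coeff_zero]
    by_cases hi : i ∈ q.support
    · exact hk s dvd_rfl i hi
    · rw [notMem_support_iff.1 hi, mul_zero]

/-- Lifting a rescaled polynomial. -/
theorem exists_lift_scale {φ : B →+* B'} {S : Submonoid B} (h : LocLike φ S) (p : B'[X]) (c : B)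
    (hc : φ c = p.coeff 0) :
    ∃ s ∈ S, ∀ s', s ∣ s' → ∃ q : B[X], q.coeff 0 = c ∧
      q.map φ = p.comp (C (φ s') * X) := by
  obtain ⟨_, ⟨s, hs, rfl⟩, q', hq'⟩ := h.polynomial.surj p.divX
  rw [coe_mapRingHom] at hq'
  erw [map_C] at hq'
  refine ⟨s, hs, ?_⟩
  rintro _ ⟨d, rfl⟩
  refine ⟨C c + C d * X * q'.comp (C (s * d) * X), ?_, ?_⟩
  · rw [mul_assoc, coeff_add, coeff_C_zero, coeff_C_mul, mul_comm X, coeff_mul_X_zero, mul_zero,
      add_zero]
  · simp only [Polynomial.map_add, Polynomial.map_mul, map_C, map_X, Polynomial.map_comp, hq']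
    conv_rhs => rw [← divX_mul_X_add p]
    simp only [add_comp, mul_comp, X_comp, C_comp, hc]
    generalize p.divX.comp (C (φ (s * d)) * X) = D
    rw [map_mul, C_mul]
    ring

/-- A polynomial with zero constant term killed by the localization is killed by rescaling. -/
theorem exists_comp_scale_eq_zero {φ : B →+* B'} {S : Submonoid B} (h : LocLike φ S) (p : B[X])
    (h0 : p.coeff 0 = 0) (hp : p.map φ = 0) :
    ∃ s ∈ S, ∀ s', s ∣ s' → p.comp (C s' * X) = 0 := by
  obtain ⟨s, hs, hk⟩ := h.exists_finset_zero p.support p.coeff (fun i _ => by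
      rw [← coeff_map, hp, coeff_zero])
  refine ⟨s, hs, fun s' hs' => ?_⟩
  ext i
  rw [comp_C_mul_X_coeff, coeff_zero]
  rcases Nat.eq_zero_or_pos i with rfl | hi
  · rw [h0, zero_mul]
  · by_cases hi' : i ∈ p.support
    · rw [mul_comm]
      exact hk _ (hs'.trans (dvd_pow_self _ hi.ne')) i hi'
    · rw [notMem_support_iff.1 hi', zero_mul]

/-- The substitution `X ↦ cX` as a ring homomorphism. -/
noncomputable def scaleHom (R : Type*) [CommRing R] (c : R) : R[X] →+* R[X] :=
  eval₂RingHom C (C c * X)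

@[simp] theorem scaleHom_apply (R : Type*) [CommRing R] (c : R) (p : R[X]) :
    scaleHom R c p = p.comp (C c * X) := rfl

/-- Matrix version of `exists_lift_scale`. -/
theorem exists_lift_scale_matrix {φ : B →+* B'} {S : Submonoid B} (h : LocLike φ S) {m n : Type*}
    [Fintype m] [Fintype n] (U : Matrix m n B'[X]) (U₀ : Matrix m n B)
    (hU : ∀ i j, φ (U₀ i j) = (U i j).coeff 0) :
    ∃ s ∈ S, ∀ s', s ∣ s' → ∃ V : Matrix m n B[X], (∀ i j, (V i j).coeff 0 = U₀ i j) ∧
      V.map (mapRingHom φ) = U.map (scaleHom B' (φ s')) := by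
  classical
  choose s hs hN using fun (p : m × n) => exists_lift_scale h (U p.1 p.2) (U₀ p.1 p.2)
    (hU p.1 p.2)
  refine ⟨∏ p, s p, Submonoid.prod_mem _ fun i _ => hs i, fun s' hs' => ?_⟩
  have h1 : ∀ p, s p ∣ s' := fun p => (Finset.dvd_prod_of_mem s (Finset.mem_univ p)).trans hs'
  choose V hV using fun i j => hN (i, j) s' (h1 (i, j))
  refine ⟨V, fun i j => (hV i j).1, ?_⟩
  ext1 i j
  exact (hV i j).2

theorem exists_scale_eq_zero_matrix {φ : B →+* B'} {S : Submonoid B} (h : LocLike φ S)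
    {m n : Type*}
    [Fintype m] [Fintype n] (W : Matrix m n B[X]) (h0 : ∀ i j, (W i j).coeff 0 = 0)
    (hW : W.map (mapRingHom φ) = 0) :
    ∃ s ∈ S, ∀ s', s ∣ s' → W.map (scaleHom B s') = 0 := by
  classical
  choose s hs hN using fun (p : m × n) => exists_comp_scale_eq_zero h (W p.1 p.2) (h0 p.1 p.2)
    (congrFun (congrFun hW p.1) p.2)
  refine ⟨∏ p, s p, Submonoid.prod_mem _ fun i _ => hs i, fun s' hs' => ?_⟩
  have h1 : ∀ p, s p ∣ s' := fun p => (Finset.dvd_prod_of_mem s (Finset.mem_univ p)).trans hs'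
  ext1 i j
  exact hN (i, j) s' (h1 (i, j))

end Away

end K92.MatEquiv
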