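import Groth.Agent.CAlg.K92.HorrocksCore
import Groth.Agent.CAlg.K92.MatEquiv
import Mathlib.LinearAlgebra.Matrix.NonsingularInverse
import Mathlib.Algebra.Polynomial.Monic
import Mathlib.LinearAlgebra.Matrix.ToLin

/-!
# The local Horrocks theorem for idempotent matrices
-/

set_option autoImplicit false

namespace K92.Horrocks

open Polynomial K92.MatEquiv IsLocalRing

theorem smul_cancel {R : Type*} [CommRing R] {m n : Type*} {g : R[X]} (hg : g.Monic)
    {M M' : Matrix m n R[X]} (h : g • M = g • M') : M = M' := by
  ext1 i j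
  have h1 := congrFun (congrFun h i) j
  exact hg.isRegular.left h1

theorem local_horrocks {R : Type*} [CommRing R] [IsLocalRing R] {m n : Type*} [Fintype m]
    [Fintype n] [DecidableEq m] [DecidableEq n] (e : Matrix m m R[X]) (he : e * e = e)
    (a : Matrix m n R[X]) (b : Matrix n m R[X]) (g : R[X]) (hg : g.Monic)
    (hab : a * b = g • e) (hba : b * a = g • (1 : Matrix n n R[X])) :
    MvN e (1 : Matrix n n R[X]) := by
  -- normalize
  obtain ⟨a, b, hab, hba, hea, hbe⟩ : ∃ (a : Matrix m n R[X]) (b : Matrix n m R[X]),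
      a * b = g • e ∧ b * a = g • (1 : Matrix n n R[X]) ∧ e * a = a ∧ b * e = b := by
    refine ⟨e * a, b * e, ?_, ?_, ?_, ?_⟩
    · calc e * a * (b * e) = e * (a * b) * e := by simp only [Matrix.mul_assoc]
        _ = g • (e * e * e) := by rw [hab, Matrix.mul_smul, Matrix.smul_mul]
        _ = _ := by rw [he, he]
    · apply smul_cancel hg
      calc g • (b * e * (e * a)) = b * (g • (e * e)) * a := by
            simp only [Matrix.mul_assoc, Matrix.mul_smul, Matrix.smul_mul]
        _ = b * (a * b) * a := by rw [he, ← hab]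
        _ = (b * a) * (b * a) := by simp only [Matrix.mul_assoc]
        _ = _ := by rw [hba, Matrix.mul_smul, Matrix.mul_one]
    · rw [← Matrix.mul_assoc, he]
    · rw [Matrix.mul_assoc, he]
  let N : Submodule R[X] (n → R[X]) := LinearMap.range b.mulVecLin
  have hN : ∀ v, b.mulVec v ∈ N := fun v => ⟨v, rfl⟩
  have hfg : N.FG := by
    rw [show N = Submodule.map b.mulVecLin ⊤ from LinearMap.range_eq_map _]
    exact Module.Finite.fg_top.map _
  have hgN : ∀ γ : n → R[X], g • γ ∈ N := by
    intro γ
    have : g • γ = b.mulVec (a.mulVec γ) := by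
      rw [Matrix.mulVec_mulVec, hba, Matrix.smul_mulVec, Matrix.one_mulVec]
    rw [this]
    exact hN _
  have hstar : ∀ γ ∈ N, (∀ i j, (γ i).coeff j ∈ maximalIdeal R) →
      γ ∈ maximalIdeal R • (N.restrictScalars R) := by
    rintro _ ⟨v, rfl⟩ hγ
    rw [Matrix.mulVecLin_apply] at hγ ⊢
    have h1 : b.mulVec v = b.mulVec (e.mulVec v) := by rw [Matrix.mulVec_mulVec, hbe]
    have h2 : a.mulVec (b.mulVec v) = g • e.mulVec v := by
      rw [Matrix.mulVec_mulVec, hab, Matrix.smul_mulVec]
    have h3 : red (e.mulVec v) = 0 := by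
      have h4 := (red_eq_zero _).2 hγ
      have h5 : red (a.mulVec (b.mulVec v)) = 0 := by
        ext1 i
        simp only [red, Matrix.mulVec, dotProduct, Pi.zero_apply]
        rw [Polynomial.map_sum]
        refine Finset.sum_eq_zero fun j _ => ?_
        rw [Polynomial.map_mul]
        have := congrFun h4 j
        simp only [red, Matrix.mulVec, dotProduct, Pi.zero_apply] at this
        rw [this, mul_zero]
      rw [h2, red_smul] at h5
      exact (smul_eq_zero.1 h5).resolve_left (hg.map _).ne_zero
    have h4 := mem_smul_top _ _ ((red_eq_zero _).1 h3)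
    have h5 := Submodule.mem_map_of_mem (f := b.mulVecLin.restrictScalars R) h4
    rw [Submodule.map_smul''] at h5
    rw [h1]
    refine Submodule.smul_mono le_rfl ?_ h5
    rintro _ ⟨δ, -, rfl⟩
    exact ⟨δ, rfl⟩
  obtain ⟨w, hw⟩ := core N hfg g hg hgN hstar
  have hwN : ∀ j, ∃ v : m → R[X], b.mulVec v = w j := by
    intro j
    have : w j ∈ N := hw ▸ Submodule.subset_span ⟨j, rfl⟩
    exact this
  choose x' hx' using hwN
  have hbN : ∀ j, ∃ c : n → R[X], ∑ i, c i • w i = b.col j := by
    intro j
    have : b.col j ∈ N := by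
      rw [← Matrix.mulVec_single_one]
      exact hN _
    rw [← hw, Submodule.mem_span_range_iff_exists_fun] at this
    exact this
  choose y' hy' using hbN
  let X : Matrix n n R[X] := Matrix.of fun i j => w j i
  let x₁ : Matrix m n R[X] := Matrix.of fun i j => x' j i
  let y : Matrix n m R[X] := Matrix.of fun i j => y' j i
  have hX : b * x₁ = X := by
    ext1 i j
    exact congrFun (hx' j) i
  have hXy : X * y = b := by
    ext1 i j
    have := congrFun (hy' j) i
    rw [Finset.sum_apply] at this
    rw [Matrix.mul_apply]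
    simp only [X, y, Matrix.of_apply]
    rw [show b i j = b.col j i from rfl, ← this]
    refine Finset.sum_congr rfl fun l _ => ?_
    rw [Pi.smul_apply, smul_eq_mul, mul_comm]
  let x : Matrix m n R[X] := e * x₁
  have hbx : b * x = X := by
    rw [← hX, ← Matrix.mul_assoc, hbe]
  have hex : e * x = x := by rw [← Matrix.mul_assoc, he]
  refine ⟨x, y, ?_, ?_⟩
  · apply smul_cancel hg
    calc g • (x * y) = (g • e) * (x * y) := by
          rw [Matrix.smul_mul, ← Matrix.mul_assoc, hex]
      _ = a * (b * x) * y := by rw [← hab]; simp only [Matrix.mul_assoc]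
      _ = a * b := by rw [hbx, Matrix.mul_assoc, hXy]
      _ = _ := hab
  · have h1 : X * (y * x) = X := by rw [← Matrix.mul_assoc, hXy, hbx]
    have h2 : X * (y * a) = g • (1 : Matrix n n R[X]) := by rw [← Matrix.mul_assoc, hXy, hba]
    have h3 : X.det * (y * a).det = g ^ (Fintype.card n) := by
      rw [← Matrix.det_mul, h2, Matrix.det_smul, Matrix.det_one, mul_one]
    have h4 : X.det • (y * x) = X.det • (1 : Matrix n n R[X]) := by
      have := congrArg (fun M => X.adjugate * M) h1
      simp only [← Matrix.mul_assoc] at this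
      rwa [Matrix.adjugate_mul, Matrix.smul_mul, Matrix.smul_mul, Matrix.one_mul] at this
    apply smul_cancel (hg.pow (Fintype.card n))
    rw [← h3, mul_comm, mul_smul, mul_smul, h4]

end K92.Horrocks
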