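import Groth.Agent.CAlg.K92.HorrocksGlobal
import Mathlib.LinearAlgebra.TensorProduct.Pi
import Mathlib.RingTheory.Finiteness.Projective
import Mathlib.RingTheory.TensorProduct.Free

/-!
# Split submodules of free modules and idempotent matrices
-/

set_option autoImplicit false

namespace K92.Horrocks

open Polynomial K92.MatEquiv IsLocalRing LaurentPolynomial TensorProduct

/-- `X` is a retract of a free module with idempotent `e`. -/
structure Split {R : Type*} [CommRing R] {n : Type*} [Fintype n] (X : Type*) [AddCommGroup X]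
    [Module R X] (e : Matrix n n R) where
  /-- inclusion -/
  f : X →ₗ[R] (n → R)
  /-- projection -/
  g : (n → R) →ₗ[R] X
  gf : ∀ x, g (f x) = x
  fg : ∀ v, f (g v) = e.mulVec v

variable {R S : Type*} [CommRing R] [CommRing S] [Algebra R S] {n m : Type*} [Fintype n]
  [Fintype m]

theorem Split.idem {X : Type*} [AddCommGroup X] [Module R X] {e : Matrix n n R}
    (h : Split X e) : e * e = e := by
  classical
  apply Matrix.mulVec_injective
  ext1 v
  rw [← Matrix.mulVec_mulVec, ← h.fg, ← h.fg, h.gf]

/-- Equivalent idempotents have isomorphic images. -/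
noncomputable def Split.equiv {X Y : Type*} [AddCommGroup X] [Module R X] [AddCommGroup Y]
    [Module R Y] {e : Matrix n n R} {e' : Matrix m m R} (h : Split X e) (h' : Split Y e')
    (u : Matrix n m R) (v : Matrix m n R) (huv : u * v = e) (hvu : v * u = e') : X ≃ₗ[R] Y :=
  LinearEquiv.ofLinearMap (h'.g ∘ₗ v.mulVecLin ∘ₗ h.f) (h.g ∘ₗ u.mulVecLin ∘ₗ h'.f)
    (by
      ext1 y
      simp only [LinearMap.comp_apply, Matrix.mulVecLin_apply, LinearMap.id_apply]
      rw [h.fg, ← huv, Matrix.mulVec_mulVec, Matrix.mulVec_mulVec,
        show v * (u * v) * u = (v * u) * (v * u) by simp only [Matrix.mul_assoc], hvu,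
        h'.idem, ← h'.fg, h'.gf, h'.gf])
    (by
      ext1 y
      simp only [LinearMap.comp_apply, Matrix.mulVecLin_apply, LinearMap.id_apply]
      rw [h'.fg, ← hvu, Matrix.mulVec_mulVec, Matrix.mulVec_mulVec,
        show u * (v * u) * v = (u * v) * (u * v) by simp only [Matrix.mul_assoc], huv,
        h.idem, ← h.fg, h.gf, h.gf])

theorem exists_split (X : Type*) [AddCommGroup X] [Module R X] [Module.Finite R X]
    [Module.Projective R X] : ∃ (k : ℕ) (e : Matrix (Fin k) (Fin k) R), Nonempty (Split X e) := by
  obtain ⟨k, f, g, -, -, h⟩ := Module.Finite.exists_comp_eq_id_of_projective R X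
  refine ⟨k, LinearMap.toMatrix' (g ∘ₗ f), ⟨⟨g, f, fun x => LinearMap.congr_fun h x, fun v => ?_⟩⟩⟩
  rw [LinearMap.toMatrix'_mulVec]
  rfl

/-- The image of an idempotent matrix. -/
noncomputable def splitRange (e : Matrix n n R) (he : e * e = e) :
    Split (LinearMap.range e.mulVecLin) e where
  f := (LinearMap.range e.mulVecLin).subtype
  g := e.mulVecLin.rangeRestrict
  gf := by
    rintro ⟨_, v, rfl⟩
    ext1
    change e.mulVec (e.mulVec v) = e.mulVec v
    rw [Matrix.mulVec_mulVec, he]
  fg := fun v => rfl

/-- Base change of a split. -/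
noncomputable def Split.baseChange [DecidableEq n] {X : Type*} [AddCommGroup X] [Module R X]
    {e : Matrix n n R} (h : Split X e) : Split (S ⊗[R] X) (e.map (algebraMap R S)) where
  f := (TensorProduct.piScalarRight R S S n).toLinearMap ∘ₗ h.f.baseChange S
  g := h.g.baseChange S ∘ₗ (TensorProduct.piScalarRight R S S n).symm.toLinearMap
  gf := fun x => by
    simp only [LinearMap.comp_apply, LinearEquiv.coe_coe, LinearEquiv.symm_apply_apply]
    rw [← LinearMap.comp_apply, ← LinearMap.baseChange_comp]
    have : h.g ∘ₗ h.f = LinearMap.id := LinearMap.ext h.gf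
    rw [this, LinearMap.baseChange_id, LinearMap.id_apply]
  fg := fun v => by
    have h1 : (((TensorProduct.piScalarRight R S S n).toLinearMap ∘ₗ h.f.baseChange S) ∘ₗ
        (h.g.baseChange S ∘ₗ (TensorProduct.piScalarRight R S S n).symm.toLinearMap)) =
        (e.map (algebraMap R S)).mulVecLin := by
      apply LinearMap.pi_ext'
      intro j
      apply LinearMap.ext_ring
      simp only [LinearMap.comp_apply, LinearEquiv.coe_coe, LinearMap.coe_single,
        TensorProduct.piScalarRight_symm_single, LinearMap.baseChange_tmul, h.fg,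
        TensorProduct.piScalarRight_apply, TensorProduct.piScalarRightHom_tmul,
        Matrix.mulVecLin_apply, Matrix.mulVec_single_one]
      ext i
      simp [Algebra.smul_def]
    exact LinearMap.congr_fun h1 v

end K92.Horrocks
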