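import Groth.Agent.CAlg.K92.NodeMain

/-!
# Divisors of constants in the formal node: conclusion
-/

set_option autoImplicit false

namespace K92.Node

open K813.NF IsLocalRing MvPowerSeries

universe u

variable {R : Type u} [CommRing R]

theorem rd_sub (a b a' b' : ℕ → R) : rd a b - rd a' b' = rd (a - a') (b - b') := by
  ext e
  rw [map_sub, coeff_rd, coeff_rd, coeff_rd]
  by_cases h1 : e 1 = 0
  · simp [h1]
  · by_cases h0 : e 0 = 0 <;> simp [h1, h0]

/-- Uniqueness of reduced forms. -/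
theorem rd_unique [IsDomain R] [IsLocalRing R] [IsNoetherianRing R] {r : R} (hr0 : r ≠ 0)
    (hr : r ∈ maximalIdeal R)
    (a b a' b' : ℕ → R) (h0 : a 0 = b 0) (h0' : a' 0 = b' 0) (h : rd a b - rd a' b' ∈ rel r) :
    a = a' ∧ b = b' := by
  rw [rd_sub] at h
  have h1 := cf_eq_zero hr _ _ h
  constructor
  · ext i
    have := h1 (i : ℤ)
    rw [cf_natCast, Pi.sub_apply, sub_eq_zero] at this
    exact this
  · ext i
    have := h1 (-(i : ℤ))
    rw [cf_neg _ _ (by simp [h0, h0']), Pi.sub_apply] at this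
    exact sub_eq_zero.1 ((mul_eq_zero.1 this).resolve_left (pow_ne_zero _ hr0))

/-- The ideal of the node is prime. -/
theorem isPrime_rel [IsDomain R] [IsLocalRing R] [IsNoetherianRing R]
    [IsAdicComplete (maximalIdeal R) R] {r : R} (hr0 : r ≠ 0) (hr : r ∈ maximalIdeal R) :
    (rel r).IsPrime := by
  have h1 := isPrime_map (⊥ : Ideal R) (h𝔭 := Ideal.isPrime_bot) r hr (by simpa using hr0)
  rwa [Ideal.map_bot, bot_sup_eq] at h1

theorem X0_notMem [IsDomain R] [IsLocalRing R] [IsNoetherianRing R] {r : R}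
    (hr : r ∈ maximalIdeal R) : (X 0 : MvPowerSeries (Fin 2) R) ∉ rel r := by
  intro h
  have h1 : (X 0 : MvPowerSeries (Fin 2) R) = rd (fun i => if i = 1 then 1 else 0) 0 := by
    classical
    ext e
    rw [coeff_rd, MvPowerSeries.coeff_X]
    by_cases h1 : e 1 = 0
    · rw [if_pos h1]
      by_cases h0 : e 0 = 1
      · rw [if_pos h0, if_pos]
        ext i
        fin_cases i
        · simpa using h0
        · simpa using h1
      · rw [if_neg h0, if_neg]
        rintro rfl
        simp at h0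
    · rw [if_neg h1, if_neg]
      · simp
      · rintro rfl
        simp at h1
  rw [h1] at h
  have h2 := cf_eq_zero hr _ _ h ((1 : ℕ) : ℤ)
  rw [cf_natCast] at h2
  simp at h2

/-- Cancelling a constant. -/
theorem cancel [IsDomain R] [IsLocalRing R] [IsNoetherianRing R]
    [IsAdicComplete (maximalIdeal R) R] {r : R} (hr0 : r ≠ 0) (hr : r ∈ maximalIdeal R) {p c : R}
    (hp : p ≠ 0) (H : MvPowerSeries (Fin 2) R) (h : C p * H - C c ∈ rel r) :
    ∃ c', c = p * c' ∧ H - C c' ∈ rel r := by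
  obtain ⟨a, b, h0, h1⟩ := exists_rd (maximalIdeal R) r hr H
  have h2 : rd (fun i => p * a i) (fun i => p * b i) - rd (δ c) (δ c) ∈ rel r := by
    rw [← C_mul_rd, rd_δ]
    have : C p * rd a b - C c = (C p * H - C c) - C p * (H - rd a b) := by ring
    rw [this]
    exact Ideal.sub_mem _ h (Ideal.mul_mem_left _ _ h1)
  obtain ⟨h3, h4⟩ := rd_unique hr0 hr _ _ _ _ (by simp [h0]) rfl h2
  have h5 : p * a 0 = c := by
    have := congrFun h3 0
    simpa [δ] using this
  refine ⟨a 0, h5.symm, ?_⟩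
  have h6 : a = δ (a 0) := by
    ext i
    rcases i with _ | i
    · simp [δ]
    · have := congrFun h3 (i + 1)
      simp only [δ, Nat.succ_ne_zero, if_false, mul_eq_zero] at this
      rw [this.resolve_left hp]
      simp [δ]
  have h7 : b = δ (a 0) := by
    ext i
    rcases i with _ | i
    · simp [δ, h0]
    · have := congrFun h4 (i + 1)
      simp only [δ, Nat.succ_ne_zero, if_false, mul_eq_zero] at this
      rw [this.resolve_left hp]
      simp [δ]
  have h8 : rd a b = C (a 0) := by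
    rw [← rd_δ, ← h6, h7, ← h6]
  rwa [h8] at h1

variable [IsDomain R] [UniqueFactorizationMonoid R] [IsLocalRing R]
  [IsNoetherianRing R] [IsAdicComplete (maximalIdeal R) R]

theorem main {r : R} (hr0 : r ≠ 0) (hr : r ∈ maximalIdeal R) (c : R) (hc : c ≠ 0) :
    ∀ F G : MvPowerSeries (Fin 2) R, F * G - C c ∈ rel r →
      ∃ (s : R) (m n : ℕ) (U : MvPowerSeries (Fin 2) R), m * n = 0 ∧ IsUnit U ∧
        F - C s * X 0 ^ n * X 1 ^ m * U ∈ rel r := by
  induction c using WellFounded.induction (IsWellFounded.wf : WellFounded (DvdNotUnit : R → R → Prop)) with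
  | _ c ih =>
    intro F G hFG
    obtain ⟨a, b, h0, h⟩ := exists_rd (maximalIdeal R) r hr F
    obtain ⟨a', b', h0', h'⟩ := exists_rd (maximalIdeal R) r hr G
    -- dividing by a prime
    have hdiv : ∀ (a b : ℕ → R) (F : MvPowerSeries (Fin 2) R), a 0 = b 0 → F - rd a b ∈ rel r →
        ∀ p, Prime p → (∀ i, p ∣ a i) → (∀ i, p ∣ b i) →
        ∃ F', F - C p * F' ∈ rel r := by
      intro a b F h0 h p hp ha hb
      choose a₁ ha₁ using ha
      choose b₁ hb₁ using hb
      refine ⟨rd a₁ b₁, ?_⟩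
      rw [C_mul_rd]
      have e1 : (fun i => p * a₁ i) = a := funext fun i => (ha₁ i).symm
      have e2 : (fun i => p * b₁ i) = b := funext fun i => (hb₁ i).symm
      rwa [e1, e2]
    have hdn : ∀ p c', Prime p → c = p * c' → DvdNotUnit c' c := by
      intro p c' hp hcc
      refine ⟨?_, p, hp.not_isUnit, by rw [hcc, mul_comm]⟩
      rintro rfl
      rw [mul_zero] at hcc
      exact hc hcc
    by_cases hF : ∃ p, Prime p ∧ (∀ i, p ∣ a i) ∧ (∀ i, p ∣ b i)
    · obtain ⟨p, hp, hpa, hpb⟩ := hF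
      obtain ⟨F', hF'⟩ := hdiv a b F h0 h p hp hpa hpb
      have h1 : C p * (F' * G) - C c ∈ rel r := by
        have : C p * (F' * G) - C c = (F * G - C c) - (F - C p * F') * G := by ring
        rw [this]
        exact Ideal.sub_mem _ hFG (Ideal.mul_mem_right _ _ hF')
      obtain ⟨c', hcc, h2⟩ := cancel hr0 hr hp.ne_zero _ h1
      have hc' : c' ≠ 0 := (hdn p c' hp hcc).1
      obtain ⟨s, m, n, U, hmn, hU, h3⟩ := ih c' (hdn p c' hp hcc) hc' F' G h2
      refine ⟨p * s, m, n, U, hmn, hU, ?_⟩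
      have : F - C (p * s) * X 0 ^ n * X 1 ^ m * U = (F - C p * F') +
          C p * (F' - C s * X 0 ^ n * X 1 ^ m * U) := by rw [map_mul]; ring
      rw [this]
      exact Ideal.add_mem _ hF' (Ideal.mul_mem_left _ _ h3)
    by_cases hG : ∃ p, Prime p ∧ (∀ i, p ∣ a' i) ∧ (∀ i, p ∣ b' i)
    · obtain ⟨p, hp, hpa, hpb⟩ := hG
      obtain ⟨G', hG'⟩ := hdiv a' b' G h0' h' p hp hpa hpb
      have h1 : C p * (F * G') - C c ∈ rel r := by
        have : C p * (F * G') - C c = (F * G - C c) - F * (G - C p * G') := by ring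
        rw [this]
        exact Ideal.sub_mem _ hFG (Ideal.mul_mem_left _ _ hG')
      obtain ⟨c', hcc, h2⟩ := cancel hr0 hr hp.ne_zero _ h1
      have hc' : c' ≠ 0 := (hdn p c' hp hcc).1
      exact ih c' (hdn p c' hp hcc) hc' F G' h2
    push Not at hF hG
    have hF' : ∀ p, Prime p → ¬ ((∀ i, p ∣ a i) ∧ ∀ i, p ∣ b i) := by
      rintro p hp ⟨h1, h2⟩
      obtain ⟨i, hi⟩ := hF p hp h1
      exact hi (h2 i)
    have hG' : ∀ p, Prime p → ¬ ((∀ i, p ∣ a' i) ∧ ∀ i, p ∣ b' i) := by
      rintro p hp ⟨h1, h2⟩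
      obtain ⟨i, hi⟩ := hG p hp h1
      exact hi (h2 i)
    have hcr : ∀ p, Prime p → p ∣ c → p ∣ r := by
      intro p hp hpc
      by_contra hpr
      have hprime : (Ideal.span {p} : Ideal R).IsPrime := (Ideal.span_singleton_prime hp.ne_zero).2 hp
      have h1 := isPrime_map (Ideal.span {p}) (h𝔭 := hprime) r hr
        (by rwa [Ideal.mem_span_singleton])
      have h2 : F * G ∈ (Ideal.span {p}).map (C : R →+* MvPowerSeries (Fin 2) R) ⊔ rel r := by
        have h3 : C c ∈ (Ideal.span {p}).map (C : R →+* MvPowerSeries (Fin 2) R) :=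
          Ideal.mem_map_of_mem _ (Ideal.mem_span_singleton.2 hpc)
        have h4 : (F * G - C c) + C c ∈
            (Ideal.span {p}).map (C : R →+* MvPowerSeries (Fin 2) R) ⊔ rel r :=
          Ideal.add_mem _ (Ideal.mem_sup_right hFG) (Ideal.mem_sup_left h3)
        rwa [sub_add_cancel] at h4
      have h5 : ∀ (a b : ℕ → R) (F : MvPowerSeries (Fin 2) R), a 0 = b 0 → F - rd a b ∈ rel r →
          F ∈ (Ideal.span {p}).map (C : R →+* MvPowerSeries (Fin 2) R) ⊔ rel r →
          (∀ i, p ∣ a i) ∧ ∀ i, p ∣ b i := by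
        intro a b F h0 h hF
        obtain ⟨P, hP, Q, hQ, rfl⟩ := Submodule.mem_sup.1 hF
        obtain ⟨a₁, b₁, h01, ha₁, hb₁, h1⟩ := exists_rd_mem (maximalIdeal R) r hr _ P hP
        have h2 : rd a b - rd a₁ b₁ ∈ rel r := by
          have : rd a b - rd a₁ b₁ = (P - rd a₁ b₁) + Q - (P + Q - rd a b) := by ring
          rw [this]
          exact Ideal.sub_mem _ (Ideal.add_mem _ h1 hQ) h
        obtain ⟨rfl, rfl⟩ := rd_unique hr0 hr _ _ _ _ h0 h01 h2
        exact ⟨fun i => Ideal.mem_span_singleton.1 (ha₁ i), fun i =>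
          Ideal.mem_span_singleton.1 (hb₁ i)⟩
      rcases h1.mem_or_mem h2 with h3 | h3
      · exact hF' p hp (h5 a b F h0 h h3)
      · exact hG' p hp (h5 a' b' G h0' h' h3)
    have hab : rd a b * rd a' b' - C c ∈ rel r := by
      have : rd a b * rd a' b' - C c = (F * G - C c) - (F - rd a b) * G -
          rd a b * (G - rd a' b') := by ring
      rw [this]
      exact Ideal.sub_mem _ (Ideal.sub_mem _ hFG (Ideal.mul_mem_right _ _ h))
        (Ideal.mul_mem_left _ _ h')
    rcases lem_dich hr0 hr hc a b a' b' h0 h0' hab hF' hG' hcr with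
      ⟨M, U, hU, h1⟩ | ⟨M, d, U, hd, hU, h1, h2⟩
    · refine ⟨1, 0, M, U, by simp, hU, ?_⟩
      rw [map_one, one_mul, pow_zero, mul_one]
      have : F - X 0 ^ M * U = (F - rd a b) + (rd a b - X 0 ^ M * U) := by ring
      rw [this]
      exact Ideal.add_mem _ h h1
    · obtain ⟨V, hV⟩ := (hU.mul (hd.map (C : R →+* MvPowerSeries (Fin 2) R))).exists_left_inv
      refine ⟨1, M, 0, V, by simp, IsUnit.of_mul_eq_one _ hV, ?_⟩
      rw [map_one, one_mul, pow_zero, one_mul]
      have hpr := isPrime_rel hr0 hr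
      have hxy : ∀ k : ℕ, X 0 ^ k * X 1 ^ k - C (r ^ k) ∈ rel r := by
        intro k
        rw [← mul_pow, map_pow]
        have h3 : (X 0 * X 1 - C r : MvPowerSeries (Fin 2) R) ∈ rel r :=
          Ideal.subset_span rfl
        exact (rel r).mem_of_dvd (sub_dvd_pow_sub_pow _ _ k) h3
      have h3 : X 0 ^ M * (F * (U * C d) - X 1 ^ M) ∈ rel r := by
        have : X 0 ^ M * (F * (U * C d) - X 1 ^ M) =
            (F * G - C c) * C d - F * C d * ((G - rd a' b') + (rd a' b' - X 0 ^ M * U)) -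
              (X 0 ^ M * X 1 ^ M - C (r ^ M)) := by
          rw [h2, map_mul]; ring
        rw [this]
        exact Ideal.sub_mem _ (Ideal.sub_mem _ (Ideal.mul_mem_right _ _ hFG)
          (Ideal.mul_mem_left _ _ (Ideal.add_mem _ h' h1))) (hxy M)
      have h4 : F * (U * C d) - X 1 ^ M ∈ rel r :=
        (hpr.mem_or_mem h3).resolve_left fun h5 => X0_notMem hr (hpr.mem_of_pow_mem _ h5)
      have h5 : F - X 1 ^ M * V = (F * (U * C d) - X 1 ^ M) * V := by
        have : F = F * (V * (U * C d)) := by rw [hV, mul_one]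
        conv_lhs => rw [this]
        ring
      rw [h5]
      exact Ideal.mul_mem_right _ _ h4

end K92.Node
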