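import Mathlib.RingTheory.MvPowerSeries.Basic
import Mathlib.RingTheory.MvPowerSeries.Inverse
import Mathlib.RingTheory.PowerSeries.Basic
import Mathlib.RingTheory.PowerSeries.Inverse
import Mathlib.RingTheory.Filtration
import Mathlib.RingTheory.Noetherian.Basic
import Mathlib.RingTheory.LocalRing.Quotient
import Mathlib.RingTheory.Noetherian.Basic
import Mathlib.RingTheory.Ideal.Quotient.Noetherian

/-!
# Isomorphisms of formal nodes

`mem_of_surj`: if `ψ : A⟦x, y⟧ → (A/β)⟦t⟧` is a surjective `A`-algebra map and `ψ(x) ψ(y)` is the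
constant `α`, then `α ∈ βA`, for `A` Noetherian local and `β` in the maximal ideal.
-/

set_option autoImplicit false

namespace K92.NodeIso

open MvPowerSeries

section Axis

variable (R : Type*) [CommRing R]

/-- Restriction of a power series in two variables to the axis `y = 0`. -/
noncomputable def axis : MvPowerSeries (Fin 2) R →+* PowerSeries R where
  toFun f := PowerSeries.mk fun n => coeff (Finsupp.single 0 n) f
  map_one' := by
    classical
    ext n
    rw [PowerSeries.coeff_mk, MvPowerSeries.coeff_one, PowerSeries.coeff_one]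
    simp
  map_zero' := by ext n; simp
  map_add' f g := by ext n; simp
  map_mul' f g := by
    classical
    ext n
    rw [PowerSeries.coeff_mk, PowerSeries.coeff_mul, MvPowerSeries.coeff_mul,
      Finsupp.antidiagonal_single, Finset.sum_map]
    refine Finset.sum_congr rfl fun x _ => ?_
    simp

lemma coeff_axis (f : MvPowerSeries (Fin 2) R) (n : ℕ) :
    PowerSeries.coeff n (axis R f) = coeff (Finsupp.single 0 n) f := by
  simp [axis]

lemma axis_C (a : R) : axis R (C a) = PowerSeries.C a := by
  classical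
  ext n
  rw [coeff_axis, MvPowerSeries.coeff_C, PowerSeries.coeff_C]
  simp

lemma axis_X_zero : axis R (X 0) = PowerSeries.X := by
  classical
  ext n
  rw [coeff_axis, MvPowerSeries.coeff_X, PowerSeries.coeff_X]
  have h : (Finsupp.single (0 : Fin 2) n = Finsupp.single 0 1) ↔ n = 1 := by
    constructor
    · intro h
      have := DFunLike.congr_fun h 0
      simpa using this
    · rintro rfl; rfl
  simp only [h]

lemma axis_X_one : axis R (X 1) = 0 := by
  classical
  ext n
  rw [coeff_axis, MvPowerSeries.coeff_X, map_zero, if_neg]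
  intro h
  have := DFunLike.congr_fun h 1
  simp at this

lemma axis_surjective : Function.Surjective (axis R) := by
  intro g
  refine ⟨fun e => if e 1 = 0 then PowerSeries.coeff (e 0) g else 0, ?_⟩
  ext n
  rw [coeff_axis]
  change (if (Finsupp.single (0 : Fin 2) n) 1 = 0 then
    PowerSeries.coeff ((Finsupp.single (0 : Fin 2) n) 0) g else 0) = _
  simp

/-- A power series in two variables is its constant term plus an element of `(x, y)`. -/
lemma exists_decomp (f : MvPowerSeries (Fin 2) R) :
    ∃ g h : MvPowerSeries (Fin 2) R, f = C (constantCoeff f) + X 0 * g + X 1 * h := by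
  classical
  let f₁ : MvPowerSeries (Fin 2) R := fun e => if e 0 = 0 then f e else 0
  have h1 : X 0 ∣ f - f₁ := by
    rw [MvPowerSeries.X_dvd_iff]
    intro m hm
    rw [map_sub]
    change f m - (if m 0 = 0 then f m else 0) = 0
    rw [if_pos hm, sub_self]
  have h2 : X 1 ∣ f₁ - C (constantCoeff f) := by
    rw [MvPowerSeries.X_dvd_iff]
    intro m hm
    rw [map_sub, MvPowerSeries.coeff_C]
    change (if m 0 = 0 then f m else 0) - _ = 0
    by_cases h0 : m 0 = 0
    · have hm0 : m = 0 := by
        ext i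
        fin_cases i
        · exact h0
        · exact hm
      subst hm0
      rw [if_pos h0, if_pos rfl, sub_eq_zero]
      rfl
    · rw [if_neg h0, if_neg (by rintro rfl; exact h0 rfl), sub_zero]
  obtain ⟨g, hg⟩ := h1
  obtain ⟨h, hh⟩ := h2
  refine ⟨g, h, ?_⟩
  rw [← hg, ← hh]
  ring

end Axis

/-- A constant which is a multiple of a power series with constant term in the maximal ideal and
invertible linear term vanishes. -/
theorem eq_zero_of_mul_eq_C {A : Type*} [CommRing A] [IsLocalRing A] [IsNoetherianRing A]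
    (F G : PowerSeries A) (c : A) (h : F * G = PowerSeries.C c)
    (h0 : PowerSeries.coeff 0 F ∈ IsLocalRing.maximalIdeal A)
    (h1 : IsUnit (PowerSeries.coeff 1 F)) : c = 0 := by
  classical
  set a := PowerSeries.coeff 0 F with ha
  obtain ⟨u, hu⟩ := h1
  -- all coefficients of `G` are divisible by all powers of `a`
  have key : ∀ N j : ℕ, a ^ N ∣ PowerSeries.coeff j G := by
    intro N
    induction N with
    | zero => intro j; rw [pow_zero]; exact one_dvd _
    | succ N ih =>
      intro j
      induction j using Nat.strong_induction_on with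
      | _ j ihj =>
        have e : PowerSeries.coeff (j + 1) (F * G) = 0 := by
          rw [h, PowerSeries.coeff_C, if_neg (Nat.succ_ne_zero j)]
        rw [PowerSeries.coeff_mul, Finset.Nat.sum_antidiagonal_eq_sum_range_succ
          (fun i k => PowerSeries.coeff i F * PowerSeries.coeff k G),
          Finset.sum_range_succ', Finset.sum_range_succ'] at e
        simp only [Nat.sub_zero, zero_add] at e
        have e2 : (j + 1) - 1 = j := by omega
        rw [e2, ← ha, ← hu] at e
        have h2 : a ^ (N + 1) ∣ ∑ k ∈ Finset.range j, PowerSeries.coeff (k + 1 + 1) F *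
            PowerSeries.coeff (j + 1 - (k + 1 + 1)) G := by
          refine Finset.dvd_sum fun k hk => ?_
          exact (ihj _ (by rw [Finset.mem_range] at hk; omega)).mul_left _
        have h3 : a ^ (N + 1) ∣ a * PowerSeries.coeff (j + 1) G := by
          rw [pow_succ']; exact mul_dvd_mul_left _ (ih _)
        have h4 : (u : A) * PowerSeries.coeff j G =
            -(∑ k ∈ Finset.range j, PowerSeries.coeff (k + 1 + 1) F *
            PowerSeries.coeff (j + 1 - (k + 1 + 1)) G) - a * PowerSeries.coeff (j + 1) G := by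
          linear_combination e
        have h5 : a ^ (N + 1) ∣ (u : A) * PowerSeries.coeff j G := by
          rw [h4]; exact dvd_sub ((dvd_neg).2 h2) h3
        exact (Units.dvd_mul_left).1 h5
  have hy : PowerSeries.coeff 0 G = 0 := by
    have h2 : PowerSeries.coeff 0 G ∈ (⨅ i : ℕ, IsLocalRing.maximalIdeal A ^ i : Ideal A) := by
      rw [Submodule.mem_iInf]
      intro N
      obtain ⟨z, hz⟩ := key N 0
      rw [hz]
      exact Ideal.mul_mem_right _ _ (Ideal.pow_mem_pow h0 N)
    rw [Ideal.iInf_pow_eq_bot_of_isLocalRing _ (IsLocalRing.maximalIdeal.isMaximal A).ne_top] at h2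
    exact h2
  have h6 := congrArg (PowerSeries.coeff 0) h
  rw [PowerSeries.coeff_mul, Finset.Nat.antidiagonal_zero, Finset.sum_singleton, hy, mul_zero,
    PowerSeries.coeff_C, if_pos rfl] at h6
  exact h6.symm

open IsLocalRing in
/-- The key statement. -/
theorem mem_of_surj {A : Type*} [CommRing A] [IsLocalRing A] [IsNoetherianRing A] (α β : A)
    (hβ : β ∈ maximalIdeal A)
    (ψ : MvPowerSeries (Fin 2) A →+* PowerSeries (A ⧸ Ideal.span {β}))
    (hψ : Function.Surjective ψ)
    (hC : ∀ a, ψ (C a) = PowerSeries.C (Ideal.Quotient.mk _ a))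
    (hXY : ψ (X 0) * ψ (X 1) = PowerSeries.C (Ideal.Quotient.mk _ α)) :
    α ∈ Ideal.span {β} := by
  have hne : Ideal.span {β} ≠ ⊤ := by
    intro h
    rw [Ideal.span_singleton_eq_top] at h
    exact hβ h
  let A' := A ⧸ Ideal.span {β}
  have : Nontrivial A' := Ideal.Quotient.nontrivial_iff.2 hne
  have : IsLocalRing A' := IsLocalRing.of_surjective' (Ideal.Quotient.mk _)
    Ideal.Quotient.mk_surjective
  -- constant terms
  have hnon : ∀ i : Fin 2, PowerSeries.coeff 0 (ψ (X i)) ∈ maximalIdeal A' := by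
    intro i
    rw [mem_maximalIdeal, mem_nonunits_iff]
    intro hu
    have hu' : IsUnit (ψ (X i)) := by
      rw [PowerSeries.isUnit_iff_constantCoeff]
      rwa [PowerSeries.coeff_zero_eq_constantCoeff_apply] at hu
    obtain ⟨v, hv⟩ := hu'.exists_right_inv
    obtain ⟨w, rfl⟩ := hψ v
    have h1 : ψ (1 - X i * w) = 0 := by
      rw [map_sub, map_one, map_mul, hv, sub_self]
    have h2 : IsUnit (1 - X i * w : MvPowerSeries (Fin 2) A) := by
      rw [MvPowerSeries.isUnit_iff_constantCoeff]
      simp
    have h3 := h2.map ψ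
    rw [h1] at h3
    exact not_isUnit_zero h3
  -- linear terms
  have hlin : IsUnit (PowerSeries.coeff 1 (ψ (X 0))) ∨ IsUnit (PowerSeries.coeff 1 (ψ (X 1))) := by
    obtain ⟨f, hf⟩ := hψ PowerSeries.X
    obtain ⟨g, h, hdec⟩ := exists_decomp A f
    have h1 : PowerSeries.coeff 1 (ψ f) = 1 := by rw [hf, PowerSeries.coeff_one_X]
    rw [hdec, map_add ψ, map_add ψ, hC, map_mul, map_mul, map_add, map_add, PowerSeries.coeff_C,
      if_neg one_ne_zero, zero_add, PowerSeries.coeff_mul, PowerSeries.coeff_mul] at h1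
    have h01 : Finset.antidiagonal 1 = {((0 : ℕ), 1), (1, 0)} := rfl
    rw [h01, Finset.sum_pair (by decide), Finset.sum_pair (by decide)] at h1
    by_contra hcon
    push Not at hcon
    have m0 : PowerSeries.coeff 1 (ψ (X 0)) ∈ maximalIdeal A' := (mem_maximalIdeal _).2 hcon.1
    have m1 : PowerSeries.coeff 1 (ψ (X 1)) ∈ maximalIdeal A' := (mem_maximalIdeal _).2 hcon.2
    have : (1 : A') ∈ maximalIdeal A' := by
      rw [← h1]
      exact add_mem (add_mem (Ideal.mul_mem_right _ _ (hnon 0)) (Ideal.mul_mem_right _ _ m0))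
        (add_mem (Ideal.mul_mem_right _ _ (hnon 1)) (Ideal.mul_mem_right _ _ m1))
    exact (Ideal.ne_top_iff_one _).1 (IsLocalRing.maximalIdeal.isMaximal A').ne_top this
  have : IsNoetherianRing (A ⧸ Ideal.span {β}) := inferInstance
  have hz : (Ideal.Quotient.mk (Ideal.span {β}) α) = 0 := by
    rcases hlin with h | h
    · exact eq_zero_of_mul_eq_C _ _ _ hXY (hnon 0) h
    · rw [mul_comm] at hXY
      exact eq_zero_of_mul_eq_C _ _ _ hXY (hnon 1) h
  exact Ideal.Quotient.eq_zero_iff_mem.1 hz

open IsLocalRing in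
theorem mem_of_equiv {A : Type*} [CommRing A] [IsLocalRing A] [IsNoetherianRing A] (α β : A)
    (hβ : β ∈ maximalIdeal A)
    (φ : (MvPowerSeries (Fin 2) A ⧸ Ideal.span {(X 0 * X 1 - C α : MvPowerSeries (Fin 2) A)}) ≃ₐ[A]
      (MvPowerSeries (Fin 2) A ⧸ Ideal.span {(X 0 * X 1 - C β : MvPowerSeries (Fin 2) A)})) :
    α ∈ Ideal.span {β} := by
  let q : PowerSeries A →+* PowerSeries (A ⧸ Ideal.span {β}) :=
    PowerSeries.map (Ideal.Quotient.mk _)
  let π₀ : MvPowerSeries (Fin 2) A →+* PowerSeries (A ⧸ Ideal.span {β}) := q.comp (axis A)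
  have hq : Function.Surjective q := by
    intro g
    have : ∀ n, ∃ a : A, Ideal.Quotient.mk (Ideal.span {β}) a = PowerSeries.coeff n g := fun n =>
      Ideal.Quotient.mk_surjective _
    choose a ha using this
    exact ⟨PowerSeries.mk a, by ext n; simp [q, PowerSeries.coeff_map, ha]⟩
  have hπ₀ : Function.Surjective π₀ := hq.comp (axis_surjective A)
  have hker : ∀ f ∈ Ideal.span {(X 0 * X 1 - C β : MvPowerSeries (Fin 2) A)}, π₀ f = 0 := by
    intro f hf
    obtain ⟨g, rfl⟩ := Ideal.mem_span_singleton'.1 hf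
    have h0 : π₀ (X 0 * X 1 - C β) = 0 := by
      simp only [π₀, RingHom.comp_apply, map_sub, map_mul, axis_X_one, axis_C, q,
        PowerSeries.map_C]
      rw [Ideal.Quotient.eq_zero_iff_mem.2 (Ideal.mem_span_singleton_self β), map_zero, map_zero,
        mul_zero, sub_zero]
    rw [map_mul, h0, mul_zero]
  let π₁ : (MvPowerSeries (Fin 2) A ⧸ Ideal.span {(X 0 * X 1 - C β : MvPowerSeries (Fin 2) A)}) →+*
      PowerSeries (A ⧸ Ideal.span {β}) := Ideal.Quotient.lift _ π₀ hker
  have hπ₁ : ∀ f, π₁ (Ideal.Quotient.mk _ f) = π₀ f := fun f => Ideal.Quotient.lift_mk _ _ _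
  let ψ : MvPowerSeries (Fin 2) A →+* PowerSeries (A ⧸ Ideal.span {β}) :=
    π₁.comp (φ.toRingEquiv.toRingHom.comp (Ideal.Quotient.mk _))
  have hψ : ∀ f, ψ f = π₁ (φ (Ideal.Quotient.mk _ f)) := fun f => rfl
  have hsurj : Function.Surjective ψ := by
    intro g
    obtain ⟨f, rfl⟩ := hπ₀ g
    obtain ⟨y, hy⟩ := φ.surjective (Ideal.Quotient.mk _ f)
    obtain ⟨f', rfl⟩ := Ideal.Quotient.mk_surjective y
    exact ⟨f', by rw [hψ, hy, hπ₁]⟩
  have hC : ∀ a, ψ (C a) = PowerSeries.C (Ideal.Quotient.mk _ a) := by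
    intro a
    have h1 : φ (Ideal.Quotient.mk _ (C a)) = Ideal.Quotient.mk _ (C a) := φ.commutes a
    rw [hψ, h1, hπ₁]
    simp only [π₀, RingHom.comp_apply, axis_C, q, PowerSeries.map_C]
  refine mem_of_surj α β hβ ψ hsurj hC ?_
  rw [← map_mul, ← hC]
  have h1 : (Ideal.Quotient.mk (Ideal.span {(X 0 * X 1 - C α : MvPowerSeries (Fin 2) A)}))
      (X 0 * X 1) = Ideal.Quotient.mk _ (C α) := by
    rw [Ideal.Quotient.eq]
    exact Ideal.mem_span_singleton_self _
  rw [hψ, hψ, h1]

end K92.NodeIso
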