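import Groth.Agent.CAlg.K92.NodeDiv
import Groth.Agent.CAlg.K92.NodeIso
import Mathlib.RingTheory.Ideal.KrullsHeightTheorem
import Mathlib.RingTheory.MvPowerSeries.Equiv
import Mathlib.RingTheory.Localization.AtPrime.Basic

/-!
# Fibral primes of height one of the formal and the algebraic node
-/

set_option autoImplicit false

namespace K92.Node

open IsLocalRing

universe u

section Classify

variable {R : Type*} [CommRing R] [IsDomain R] [UniqueFactorizationMonoid R]
  {T : Type*} [CommRing T] [IsDomain T] [IsNoetherianRing T] (i : R →+* T)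

/-- Description of the fibral primes of height one. -/
theorem classify (hi : Function.Injective i) (x y : T) (r : R) (hxy : x * y = i r)
    (h1 : ∀ p, Prime p → ¬ p ∣ r → (Ideal.span {i p}).IsPrime)
    (h2 : ∀ p, Prime p → p ∣ r → (Ideal.span {i p, x}).IsPrime ∧ y ∉ Ideal.span {i p, x})
    (h3 : ∀ p, Prime p → p ∣ r → (Ideal.span {i p, y}).IsPrime ∧ x ∉ Ideal.span {i p, y})
    (𝔓 : Ideal T) : (𝔓.IsPrime ∧ 𝔓.height = 1 ∧ 𝔓.comap i ≠ ⊥) ↔
      ∃ p, Prime p ∧ ((¬ p ∣ r ∧ 𝔓 = Ideal.span {i p}) ∨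
        (p ∣ r ∧ (𝔓 = Ideal.span {i p, x} ∨ 𝔓 = Ideal.span {i p, y}))) := by
  have hbot : (⊥ : Ideal T).IsPrime := Ideal.isPrime_bot
  have hne : ∀ (p : R) (I : Ideal T), Prime p → i p ∈ I → (⊥ : Ideal T) < I := by
    intro p I hp hpI
    rw [bot_lt_iff_ne_bot]
    rintro rfl
    rw [Ideal.mem_bot, map_eq_zero_iff _ hi] at hpI
    exact hp.ne_zero hpI
  have hge : ∀ (p : R) (I : Ideal T), I.IsPrime → Prime p → i p ∈ I → 1 ≤ I.height := by
    intro p I hI hp hpI
    have := Ideal.height_add_one_le_of_lt_of_isPrime (hne p I hp hpI)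
    exact le_trans (by simp) this
  constructor
  · rintro ⟨hP, hht, hcomap⟩
    have hPc : (𝔓.comap i).IsPrime := Ideal.comap_isPrime _ _
    obtain ⟨p, hpP, hp⟩ := hPc.exists_mem_prime_of_ne_bot hcomap
    rw [Ideal.mem_comap] at hpP
    have heq : ∀ I : Ideal T, I.IsPrime → i p ∈ I → I ≤ 𝔓 → 𝔓 = I := by
      intro I hI hpI hle
      by_contra hneq
      have hlt : I < 𝔓 := lt_of_le_of_ne hle (Ne.symm hneq)
      have e1 := Ideal.height_add_one_le_of_lt_of_isPrime hlt
      have e2 := hge p I hI hp hpI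
      rw [hht] at e1
      have e3 : (1 : ℕ∞) + 1 ≤ 1 := le_trans (by gcongr) e1
      exact absurd e3 (by decide)
    refine ⟨p, hp, ?_⟩
    by_cases hpr : p ∣ r
    · right
      refine ⟨hpr, ?_⟩
      have hr : x * y ∈ 𝔓 := by
        obtain ⟨z, hz⟩ := hpr
        rw [hxy, hz, map_mul]
        exact 𝔓.mul_mem_right _ hpP
      rcases hP.mem_or_mem hr with hx | hy
      · left
        refine heq _ (h2 p hp hpr).1 (Ideal.subset_span (by simp)) ?_
        rw [Ideal.span_le]
        rintro z (rfl | rfl)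
        · exact hpP
        · exact hx
      · right
        refine heq _ (h3 p hp hpr).1 (Ideal.subset_span (by simp)) ?_
        rw [Ideal.span_le]
        rintro z (rfl | rfl)
        · exact hpP
        · exact hy
    · left
      refine ⟨hpr, heq _ (h1 p hp hpr) (Ideal.subset_span rfl) ?_⟩
      rw [Ideal.span_singleton_le_iff_mem]
      exact hpP
  · have hfin : ∀ (p : R) (I : Ideal T), I.IsPrime → Prime p → i p ∈ I →
        I ∈ (Ideal.span {i p}).minimalPrimes → I.IsPrime ∧ I.height = 1 ∧ I.comap i ≠ ⊥ := by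
      intro p I hI hp hpI hmin
      refine ⟨hI, le_antisymm
        (Ideal.height_le_one_of_isPrincipal_of_mem_minimalPrimes _ _ hmin) (hge p I hI hp hpI), ?_⟩
      intro hcon
      have : p ∈ I.comap i := hpI
      rw [hcon, Ideal.mem_bot] at this
      exact hp.ne_zero this
    rintro ⟨p, hp, ⟨hpr, rfl⟩ | ⟨hpr, rfl | rfl⟩⟩
    · have hI := h1 p hp hpr
      refine hfin p _ hI hp (Ideal.subset_span rfl) ?_
      exact ⟨⟨hI, le_rfl⟩, fun J hJ _ => hJ.2⟩
    · obtain ⟨hI, hy⟩ := h2 p hp hpr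
      refine hfin p _ hI hp (Ideal.subset_span (by simp)) ?_
      refine ⟨⟨hI, ?_⟩, fun J hJ hle => ?_⟩
      · rw [Ideal.span_singleton_le_iff_mem]; exact Ideal.subset_span (by simp)
      · have hpJ : i p ∈ J := hJ.2 (Ideal.subset_span rfl)
        have hr : x * y ∈ J := by
          obtain ⟨z, hz⟩ := hpr
          rw [hxy, hz, map_mul]
          exact J.mul_mem_right _ hpJ
        have hx : x ∈ J := (hJ.1.mem_or_mem hr).resolve_right fun h => hy (hle h)
        rw [Ideal.span_le]
        rintro z (rfl | rfl)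
        · exact hpJ
        · exact hx
    · obtain ⟨hI, hx⟩ := h3 p hp hpr
      refine hfin p _ hI hp (Ideal.subset_span (by simp)) ?_
      refine ⟨⟨hI, ?_⟩, fun J hJ hle => ?_⟩
      · rw [Ideal.span_singleton_le_iff_mem]; exact Ideal.subset_span (by simp)
      · have hpJ : i p ∈ J := hJ.2 (Ideal.subset_span rfl)
        have hr : x * y ∈ J := by
          obtain ⟨z, hz⟩ := hpr
          rw [hxy, hz, map_mul]
          exact J.mul_mem_right _ hpJ
        have hy : y ∈ J := (hJ.1.mem_or_mem hr).resolve_left fun h => hx (hle h)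
        rw [Ideal.span_le]
        rintro z (rfl | rfl)
        · exact hpJ
        · exact hy

end Classify

section Faithful

variable {S T : Type*} [CommRing S] [CommRing T] [IsNoetherianRing S] [IsLocalRing S]

/-- Contraction of extended ideals along a map which is dense and injective modulo powers of the
maximal ideal. -/
theorem comap_map_eq (φ : S →+* T)
    (hd : ∀ (n : ℕ) (t : T), ∃ s, t - φ s ∈ (maximalIdeal S ^ n).map φ)
    (hi : ∀ (n : ℕ) (s : S), φ s ∈ (maximalIdeal S ^ n).map φ → s ∈ maximalIdeal S ^ n)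
    (I : Ideal S) : (I.map φ).comap φ = I := by
  apply le_antisymm _ Ideal.le_comap_map
  intro a ha
  rw [Ideal.mem_comap] at ha
  have h1 : ∀ (n : ℕ), ∀ β ∈ I.map φ, ∀ γ : T, ∃ i ∈ I, γ * β - φ i ∈ (maximalIdeal S ^ n).map φ := by
    intro n β hβ
    rw [Ideal.map] at hβ
    refine Submodule.span_induction (p := fun β _ => ∀ γ : T, ∃ i ∈ I,
      γ * β - φ i ∈ (maximalIdeal S ^ n).map φ) ?_ ?_ ?_ ?_ hβ
    · rintro _ ⟨i, hi', rfl⟩ γ
      obtain ⟨c, hc⟩ := hd n γ
      refine ⟨c * i, I.mul_mem_left _ hi', ?_⟩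
      rw [map_mul, ← sub_mul]
      exact Ideal.mul_mem_right _ _ hc
    · intro γ
      exact ⟨0, I.zero_mem, by simp⟩
    · intro β β' _ _ h h' γ
      obtain ⟨i, hi', h⟩ := h γ
      obtain ⟨j, hj, h'⟩ := h' γ
      refine ⟨i + j, I.add_mem hi' hj, ?_⟩
      rw [mul_add, map_add]
      convert Ideal.add_mem _ h h' using 1
      ring
    · intro c β _ h γ
      rw [smul_eq_mul, ← mul_assoc]
      exact h _
  by_cases hI : I = ⊤
  · rw [hI]; trivial
  have h2 : ∀ n : ℕ, ∃ i ∈ I, a - i ∈ maximalIdeal S ^ n := by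
    intro n
    obtain ⟨i, hi', h⟩ := h1 n _ ha 1
    rw [one_mul, ← map_sub] at h
    exact ⟨i, hi', hi n _ h⟩
  have h3 : (Ideal.Quotient.mk I a) ∈ (⨅ n : ℕ, maximalIdeal S ^ n • ⊤ : Submodule S (S ⧸ I)) := by
    rw [Submodule.mem_iInf]
    intro n
    obtain ⟨i, hi', h⟩ := h2 n
    have h4 : Ideal.Quotient.mk I a = (a - i) • (1 : S ⧸ I) := by
      rw [Algebra.smul_def, mul_one]
      change _ = Ideal.Quotient.mk I (a - i)
      rw [map_sub, Ideal.Quotient.eq_zero_iff_mem.2 hi', sub_zero]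
    rw [h4]
    exact Submodule.smul_mem_smul h trivial
  rw [Ideal.iInf_pow_smul_eq_bot_of_isLocalRing (M := S ⧸ I) _
    (maximalIdeal.isMaximal S).ne_top, Submodule.mem_bot] at h3
  exact Ideal.Quotient.eq_zero_iff_mem.1 h3

end Faithful

end K92.Node
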