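import Groth.Agent.CAlg.K92.NodeFib
import Mathlib.Algebra.MvPolynomial.CommRing
import Mathlib.RingTheory.Polynomial.Basic

/-!
# The fibral primes of the formal node
-/

set_option autoImplicit false

namespace K92.Node

open IsLocalRing K813.NF

universe u

section Axis

variable {R : Type u} [CommRing R]

open K92.NodeIso in
/-- The restriction to the `x`-axis modulo `p`. -/
noncomputable def ax (p : R) : MvPowerSeries (Fin 2) R →+* PowerSeries (R ⧸ Ideal.span {p}) :=
  (PowerSeries.map (Ideal.Quotient.mk _)).comp (axis R)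

open K92.NodeIso in
theorem ker_ax (p : R) : RingHom.ker (ax p) = Ideal.span {MvPowerSeries.C p, MvPowerSeries.X 1} := by
  apply le_antisymm
  · intro f hf
    rw [RingHom.mem_ker] at hf
    have h1 : ∀ n, p ∣ MvPowerSeries.coeff (Finsupp.single 0 n) f := by
      intro n
      have := congrArg (PowerSeries.coeff n) hf
      rw [ax, RingHom.comp_apply, PowerSeries.coeff_map, coeff_axis, map_zero,
        Ideal.Quotient.eq_zero_iff_mem, Ideal.mem_span_singleton] at this
      exact this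
    choose h hh using h1
    have h2 : MvPowerSeries.X 1 ∣ f - MvPowerSeries.C p * rd h (δ (h 0)) := by
      rw [MvPowerSeries.X_dvd_iff]
      intro m hm
      have hm' : m = Finsupp.single 0 (m 0) := by
        ext i
        fin_cases i
        · simp
        · simpa using hm
      rw [map_sub, MvPowerSeries.coeff_C_mul, coeff_rd, if_pos hm, ← hh (m 0), ← hm', sub_self]
    obtain ⟨g, hg⟩ := h2
    have h3 : f = MvPowerSeries.C p * rd h (δ (h 0)) + MvPowerSeries.X 1 * g := by
      rw [← hg]; ring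
    rw [h3]
    exact Ideal.add_mem _ (Ideal.mul_mem_right _ _ (Ideal.subset_span (by simp)))
      (Ideal.mul_mem_right _ _ (Ideal.subset_span (by simp)))
  · rw [Ideal.span_le]
    rintro f (rfl | rfl)
    · rw [SetLike.mem_coe, RingHom.mem_ker, ax, RingHom.comp_apply, axis_C, PowerSeries.map_C,
        Ideal.Quotient.eq_zero_iff_mem.2 (Ideal.mem_span_singleton_self p), map_zero]
    · rw [SetLike.mem_coe, RingHom.mem_ker, ax, RingHom.comp_apply, axis_X_one, map_zero]

open K92.NodeIso in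
theorem isPrime_axis [IsDomain R] {p : R} (hp : Prime p) :
    (Ideal.span {MvPowerSeries.C p, MvPowerSeries.X 1} : Ideal (MvPowerSeries (Fin 2) R)).IsPrime ∧
      (MvPowerSeries.X 0 : MvPowerSeries (Fin 2) R) ∉
        Ideal.span {MvPowerSeries.C p, MvPowerSeries.X 1} := by
  have hprime : (Ideal.span {p} : Ideal R).IsPrime := (Ideal.span_singleton_prime hp.ne_zero).2 hp
  have hdom : IsDomain (R ⧸ Ideal.span {p}) := inferInstance
  rw [← ker_ax]
  refine ⟨RingHom.ker_isPrime _, ?_⟩
  rw [RingHom.mem_ker, ax, RingHom.comp_apply, axis_X_zero, PowerSeries.map_X]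
  exact PowerSeries.X_ne_zero

theorem isPrime_axis' [IsDomain R] {p : R} (hp : Prime p) :
    (Ideal.span {MvPowerSeries.C p, MvPowerSeries.X 0} : Ideal (MvPowerSeries (Fin 2) R)).IsPrime ∧
      (MvPowerSeries.X 1 : MvPowerSeries (Fin 2) R) ∉
        Ideal.span {MvPowerSeries.C p, MvPowerSeries.X 0} := by
  obtain ⟨h1, h2⟩ := isPrime_axis hp
  have hmem : ∀ f, f ∈ (Ideal.span {MvPowerSeries.C p, MvPowerSeries.X 1} :
      Ideal (MvPowerSeries (Fin 2) R)).comap (sw R).toRingEquiv.toRingHom ↔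
      sw R f ∈ (Ideal.span {MvPowerSeries.C p, MvPowerSeries.X 1} :
      Ideal (MvPowerSeries (Fin 2) R)) := fun f => Iff.rfl
  have h3 : (Ideal.span {MvPowerSeries.C p, MvPowerSeries.X 0} : Ideal (MvPowerSeries (Fin 2) R)) =
      (Ideal.span {MvPowerSeries.C p, MvPowerSeries.X 1}).comap (sw R).toRingEquiv.toRingHom := by
    apply le_antisymm
    · rw [Ideal.span_le]
      rintro f (rfl | rfl)
      · rw [SetLike.mem_coe, hmem, sw_C]
        exact Ideal.subset_span (by simp)
      · rw [SetLike.mem_coe, hmem, sw_X0]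
        exact Ideal.subset_span (by simp)
    · intro f hf
      rw [hmem] at hf
      obtain ⟨a, b, hab⟩ := Ideal.mem_span_pair.1 hf
      have h4 := congrArg (sw R) hab
      have h5 : ∀ g, sw R (sw R g) = g := by
        intro g
        ext e
        rw [coeff_sw, coeff_sw]
        refine congrArg (fun e' => MvPowerSeries.coeff e' g) ?_
        ext i
        fin_cases i <;> simp
      rw [h5, map_add, map_mul, map_mul, sw_C, sw_X1] at h4
      rw [← h4]
      exact Ideal.add_mem _ (Ideal.mul_mem_left _ _ (Ideal.subset_span (by simp)))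
        (Ideal.mul_mem_left _ _ (Ideal.subset_span (by simp)))
  rw [h3]
  refine ⟨Ideal.comap_isPrime _ _, fun h => h2 ?_⟩
  rwa [hmem, sw_X1] at h

end Axis

section Quot

variable {R : Type u} [CommRing R]

/-- The formal node. -/
abbrev FN (r : R) : Type u := MvPowerSeries (Fin 2) R ⧸ rel r

theorem isPrime_quot {r : R} (J : Ideal (MvPowerSeries (Fin 2) R)) (hJ : J.IsPrime)
    (hle : rel r ≤ J) : (J.map (Ideal.Quotient.mk (rel r))).IsPrime :=
  Ideal.map_isPrime_of_surjective Ideal.Quotient.mk_surjective (by rwa [Ideal.mk_ker])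

theorem mem_quot {r : R} (J : Ideal (MvPowerSeries (Fin 2) R))
    (hle : rel r ≤ J) (f : MvPowerSeries (Fin 2) R)
    (hf : Ideal.Quotient.mk (rel r) f ∈ J.map (Ideal.Quotient.mk (rel r))) : f ∈ J := by
  have h1 : f ∈ (J.map (Ideal.Quotient.mk (rel r))).comap (Ideal.Quotient.mk (rel r)) := hf
  rwa [Ideal.comap_map_of_surjective _ Ideal.Quotient.mk_surjective, ← RingHom.ker_eq_comap_bot,
    Ideal.mk_ker, sup_eq_left.2 hle] at h1

theorem rel_le_of_dvd {r p : R} (hpr : p ∣ r) (i : Fin 2) :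
    rel r ≤ (Ideal.span {MvPowerSeries.C p, MvPowerSeries.X i} : Ideal (MvPowerSeries (Fin 2) R)) := by
  rw [Ideal.span_singleton_le_iff_mem]
  obtain ⟨z, rfl⟩ := hpr
  rw [map_mul]
  refine Ideal.sub_mem _ ?_ (Ideal.mul_mem_right _ _ (Ideal.subset_span (by simp)))
  fin_cases i
  · exact Ideal.mul_mem_right _ _ (Ideal.subset_span (by simp))
  · exact Ideal.mul_mem_left _ _ (Ideal.subset_span (by simp))

variable [IsDomain R] [UniqueFactorizationMonoid R] [IsLocalRing R]
  [IsNoetherianRing R] [IsAdicComplete (maximalIdeal R) R]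

omit [UniqueFactorizationMonoid R] in
theorem isDomain_FN {r : R} (hr0 : r ≠ 0) (hr : r ∈ maximalIdeal R) : IsDomain (FN r) := by
  have := isPrime_rel hr0 hr
  infer_instance

omit [UniqueFactorizationMonoid R] in
theorem injective_FN {r : R} (hr0 : r ≠ 0) (hr : r ∈ maximalIdeal R) :
    Function.Injective (algebraMap R (FN r)) := by
  rw [injective_iff_map_eq_zero]
  intro c hc
  have h1 : (MvPowerSeries.C c : MvPowerSeries (Fin 2) R) ∈ rel r :=
    Ideal.Quotient.eq_zero_iff_mem.1 hc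
  rw [← rd_δ] at h1
  have := cf_eq_zero hr _ _ h1 0
  simpa [cf_δ] using this

omit [UniqueFactorizationMonoid R] in
theorem FN_h1 {r : R} (hr : r ∈ maximalIdeal R) (p : R) (hp : Prime p)
    (hpr : ¬ p ∣ r) : (Ideal.span {algebraMap R (FN r) p}).IsPrime := by
  have hprime : (Ideal.span {p} : Ideal R).IsPrime := (Ideal.span_singleton_prime hp.ne_zero).2 hp
  have h1 := isPrime_quot _ (isPrime_map (Ideal.span {p}) (h𝔭 := hprime) r hr
    (by rwa [Ideal.mem_span_singleton])) le_sup_right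
  rw [Ideal.map_sup, Ideal.map_quotient_self, sup_bot_eq, Ideal.map_span, Ideal.map_span,
    Set.image_singleton, Set.image_singleton] at h1
  exact h1

omit [UniqueFactorizationMonoid R] [IsLocalRing R] [IsNoetherianRing R]
  [IsAdicComplete (maximalIdeal R) R] in
theorem FN_h2 {r : R} (p : R) (hp : Prime p) (hpr : p ∣ r) :
    (Ideal.span {algebraMap R (FN r) p, Ideal.Quotient.mk (rel r) (MvPowerSeries.X 0)}).IsPrime ∧
      Ideal.Quotient.mk (rel r) (MvPowerSeries.X 1) ∉
        Ideal.span {algebraMap R (FN r) p, Ideal.Quotient.mk (rel r) (MvPowerSeries.X 0)} := by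
  obtain ⟨h1, h2⟩ := isPrime_axis' hp
  have h3 : (Ideal.span {MvPowerSeries.C p, MvPowerSeries.X 0} :
      Ideal (MvPowerSeries (Fin 2) R)).map (Ideal.Quotient.mk (rel r)) =
      Ideal.span {algebraMap R (FN r) p, Ideal.Quotient.mk (rel r) (MvPowerSeries.X 0)} := by
    rw [Ideal.map_span, Set.image_pair]
    rfl
  rw [← h3]
  exact ⟨isPrime_quot _ h1 (rel_le_of_dvd hpr 0), fun h => h2 (mem_quot _ (rel_le_of_dvd hpr 0) _ h)⟩

omit [UniqueFactorizationMonoid R] [IsLocalRing R] [IsNoetherianRing R]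
  [IsAdicComplete (maximalIdeal R) R] in
theorem FN_h3 {r : R} (p : R) (hp : Prime p) (hpr : p ∣ r) :
    (Ideal.span {algebraMap R (FN r) p, Ideal.Quotient.mk (rel r) (MvPowerSeries.X 1)}).IsPrime ∧
      Ideal.Quotient.mk (rel r) (MvPowerSeries.X 0) ∉
        Ideal.span {algebraMap R (FN r) p, Ideal.Quotient.mk (rel r) (MvPowerSeries.X 1)} := by
  obtain ⟨h1, h2⟩ := isPrime_axis hp
  have h3 : (Ideal.span {MvPowerSeries.C p, MvPowerSeries.X 1} :
      Ideal (MvPowerSeries (Fin 2) R)).map (Ideal.Quotient.mk (rel r)) =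
      Ideal.span {algebraMap R (FN r) p, Ideal.Quotient.mk (rel r) (MvPowerSeries.X 1)} := by
    rw [Ideal.map_span, Set.image_pair]
    rfl
  rw [← h3]
  exact ⟨isPrime_quot _ h1 (rel_le_of_dvd hpr 1), fun h => h2 (mem_quot _ (rel_le_of_dvd hpr 1) _ h)⟩

end Quot

section Trunc

variable {R : Type u} [CommRing R] {T : Type*} [CommRing T] (f : R →+* T) (x y : T) (n : ℕ)

/-- Evaluation of a power series in two variables at nilpotent elements. -/
noncomputable def ev (hx : x ^ n = 0) (hy : y ^ n = 0) : MvPowerSeries (Fin 2) R →+* T :=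
  ((evalNil x n hx).comp (evalNil (PowerSeries.C y : PowerSeries T) n
    (by rw [← map_pow, hy, map_zero]))).comp
    ((PowerSeries.map (PowerSeries.map f)).comp (E R).toRingEquiv.toRingHom)

theorem ev_X0 (hx : x ^ n = 0) (hy : y ^ n = 0) : ev f x y n hx hy (MvPowerSeries.X 0) = x := by
  change evalNil x n hx (evalNil _ n _ (PowerSeries.map (PowerSeries.map f)
    (E R (MvPowerSeries.X 0)))) = x
  rw [E_X0, PowerSeries.map_C, PowerSeries.map_X, evalNil_C, evalNil_X]

theorem ev_X1 (hx : x ^ n = 0) (hy : y ^ n = 0) : ev f x y n hx hy (MvPowerSeries.X 1) = y := by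
  change evalNil x n hx (evalNil _ n _ (PowerSeries.map (PowerSeries.map f)
    (E R (MvPowerSeries.X 1)))) = y
  rw [E_X1, PowerSeries.map_X, evalNil_X, evalNil_C]

theorem ev_C (hx : x ^ n = 0) (hy : y ^ n = 0) (a : R) :
    ev f x y n hx hy (MvPowerSeries.C a) = f a := by
  change evalNil x n hx (evalNil _ n _ (PowerSeries.map (PowerSeries.map f)
    (E R (MvPowerSeries.C a)))) = f a
  rw [E_C, PowerSeries.map_C, PowerSeries.map_C, evalNil_C, evalNil_C]

end Trunc

section Alg

theorem dense_of_base {B A : Type*} [CommRing B] [CommRing A] (ι : B →+* A) (P : Ideal B)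
    (hbase : ∀ t : A, ∃ b, t - ι b ∈ P.map ι) (n : ℕ) (t : A) :
    ∃ b, t - ι b ∈ (P ^ n).map ι := by
  induction n with
  | zero =>
    refine ⟨0, ?_⟩
    rw [pow_zero, Ideal.one_eq_top, Ideal.map_top]
    trivial
  | succ n ih =>
    obtain ⟨b, hb⟩ := ih
    have key : ∀ β ∈ (P ^ n).map ι, ∀ γ, ∃ b, γ * β - ι b ∈ (P ^ (n + 1)).map ι := by
      intro β hβ
      rw [Ideal.map] at hβ
      refine Submodule.span_induction (p := fun β _ => ∀ γ, ∃ b,
        γ * β - ι b ∈ (P ^ (n + 1)).map ι) ?_ ?_ ?_ ?_ hβ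
      · rintro _ ⟨p, hp, rfl⟩ γ
        obtain ⟨c, hc⟩ := hbase γ
        refine ⟨c * p, ?_⟩
        rw [map_mul, ← sub_mul, pow_succ', Ideal.map_mul]
        exact Ideal.mul_mem_mul hc (Ideal.mem_map_of_mem _ hp)
      · intro γ
        exact ⟨0, by simp⟩
      · intro β β' _ _ h h' γ
        obtain ⟨i, h⟩ := h γ
        obtain ⟨j, h'⟩ := h' γ
        refine ⟨i + j, ?_⟩
        rw [mul_add, map_add]
        convert Ideal.add_mem _ h h' using 1
        ring
      · intro c β _ h γ
        rw [smul_eq_mul, ← mul_assoc]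
        exact h _
    obtain ⟨b', hb'⟩ := key _ hb 1
    refine ⟨b + b', ?_⟩
    rw [one_mul] at hb'
    rwa [map_add, ← sub_sub]

variable {R : Type u} [CommRing R] {r : R} {B : Type*} [CommRing B]
  (q : MvPolynomial (Fin 2) R →+* B) (ι : B →+* FN r)
  (hι : ι.comp q =
    (Ideal.Quotient.mk (rel r)).comp (MvPolynomial.coeToMvPowerSeries.ringHom : MvPolynomial (Fin 2) R →+* MvPowerSeries (Fin 2) R))

include hι in
theorem ι_X (i : Fin 2) : ι (q (MvPolynomial.X i)) = Ideal.Quotient.mk _ (MvPowerSeries.X i) := by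
  have := RingHom.congr_fun hι (MvPolynomial.X i)
  rw [RingHom.comp_apply, RingHom.comp_apply] at this
  rw [this]
  congr 1
  exact MvPolynomial.coe_X i

include hι in
theorem ι_C (a : R) : ι (q (MvPolynomial.C a)) = Ideal.Quotient.mk _ (MvPowerSeries.C a) := by
  have := RingHom.congr_fun hι (MvPolynomial.C a)
  rw [RingHom.comp_apply, RingHom.comp_apply] at this
  rw [this]
  congr 1
  exact MvPolynomial.coe_C a

include hι in
/-- Truncation. -/
theorem exists_trunc (hq : Function.Surjective q)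
    (hqr : q (MvPolynomial.X 0) * q (MvPolynomial.X 1) = q (MvPolynomial.C r))
    (P : Ideal B) (hx : q (MvPolynomial.X 0) ∈ P)
    (hy : q (MvPolynomial.X 1) ∈ P) (n : ℕ) :
    ∃ ρ : FN r →+* B ⧸ P ^ n, ∀ b, ρ (ι b) = Ideal.Quotient.mk _ b := by
  let x : B ⧸ P ^ n := Ideal.Quotient.mk _ (q (MvPolynomial.X 0))
  let y : B ⧸ P ^ n := Ideal.Quotient.mk _ (q (MvPolynomial.X 1))
  have hxn : x ^ n = 0 := by
    rw [← map_pow, Ideal.Quotient.eq_zero_iff_mem]
    exact Ideal.pow_mem_pow hx n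
  have hyn : y ^ n = 0 := by
    rw [← map_pow, Ideal.Quotient.eq_zero_iff_mem]
    exact Ideal.pow_mem_pow hy n
  let f : R →+* B ⧸ P ^ n :=
    (Ideal.Quotient.mk (P ^ n)).comp (q.comp MvPolynomial.C)
  let ρ₀ : MvPowerSeries (Fin 2) R →+* B ⧸ P ^ n :=
    ev f x y n hxn hyn
  have hρ₀ : ∀ a ∈ rel r, ρ₀ a = 0 := by
    intro a ha
    obtain ⟨g, rfl⟩ := Ideal.mem_span_singleton.1 ha
    have h1 : x * y = f r := by
      rw [← map_mul, hqr]
      rfl
    rw [map_mul, map_sub, map_mul, ev_X0, ev_X1, ev_C, h1, sub_self, zero_mul]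
  refine ⟨Ideal.Quotient.lift _ ρ₀ hρ₀, ?_⟩
  have h3 : ((Ideal.Quotient.lift _ ρ₀ hρ₀).comp ι).comp q =
      (Ideal.Quotient.mk (P ^ n)).comp q := by
    apply MvPolynomial.ringHom_ext
    · intro a
      rw [RingHom.comp_apply, RingHom.comp_apply, ι_C q ι hι, Ideal.Quotient.lift_mk, ev_C]
      rfl
    · intro i
      rw [RingHom.comp_apply, RingHom.comp_apply, ι_X q ι hι, Ideal.Quotient.lift_mk]
      fin_cases i
      · exact ev_X0 ..
      · exact ev_X1 ..
  intro b
  obtain ⟨b, rfl⟩ := hq b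
  exact RingHom.congr_fun h3 b

include hι in
/-- Density of the algebraic node in the formal one. -/
theorem dense (P : Ideal B) (hx : q (MvPolynomial.X 0) ∈ P)
    (hy : q (MvPolynomial.X 1) ∈ P) (n : ℕ) (t : FN r) :
    ∃ b, t - ι b ∈ (P ^ n).map ι := by
  refine dense_of_base ι P (fun t => ?_) n t
  obtain ⟨t, rfl⟩ := Ideal.Quotient.mk_surjective t
  obtain ⟨g, h, hgh⟩ := K92.NodeIso.exists_decomp R t
  refine ⟨q (MvPolynomial.C (MvPowerSeries.constantCoeff t)), ?_⟩
  rw [ι_C q ι hι, ← map_sub]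
  have : t - MvPowerSeries.C (MvPowerSeries.constantCoeff t) =
      MvPowerSeries.X 0 * g + MvPowerSeries.X 1 * h := by
    conv_lhs => rw [hgh]
    simp only [map_add, map_mul, MvPowerSeries.constantCoeff_C, MvPowerSeries.constantCoeff_X,
      zero_mul, add_zero]
    ring
  rw [this, map_add, map_mul, map_mul, ← ι_X q ι hι, ← ι_X q ι hι]
  exact Ideal.add_mem _ (Ideal.mul_mem_right _ _ (Ideal.mem_map_of_mem _ hx))
    (Ideal.mul_mem_right _ _ (Ideal.mem_map_of_mem _ hy))

end Alg

end K92.Node
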