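import Groth.Agent.CAlg.K92.NodeFib2

/-!
# Fibral primes of height one of the formal and the algebraic node: the bijection
-/

set_option autoImplicit false

namespace K92.Node

open IsLocalRing K813.NF

universe u

variable {R : Type u} [CommRing R] [IsDomain R] [UniqueFactorizationMonoid R] [IsLocalRing R]
  [IsNoetherianRing R] [IsAdicComplete (maximalIdeal R) R]

theorem bijOn {r : R} (hr0 : r ≠ 0) (hr : r ∈ maximalIdeal R) {B S : Type u} [CommRing B]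
    [CommRing S] [Algebra B S] (q : MvPolynomial (Fin 2) R →+* B) (hq : Function.Surjective q)
    (hqr : q (MvPolynomial.X 0) * q (MvPolynomial.X 1) = q (MvPolynomial.C r))
    (ι : B →+* FN r)
    (hι : ι.comp q = (Ideal.Quotient.mk (rel r)).comp
      (MvPolynomial.coeToMvPowerSeries.ringHom : MvPolynomial (Fin 2) R →+* MvPowerSeries (Fin 2) R))
    (P : Ideal B) [P.IsPrime] (hx : q (MvPolynomial.X 0) ∈ P) (hy : q (MvPolynomial.X 1) ∈ P)
    [IsLocalization.AtPrime S P] (φ : S →+* FN r) (hφ : φ.comp (algebraMap B S) = ι)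
    (j : R →+* S) (hj : ∀ a, j a = algebraMap B S (q (MvPolynomial.C a))) :
    Set.BijOn (fun 𝔓 : Ideal (FN r) => 𝔓.comap φ)
      {𝔓 | 𝔓.IsPrime ∧ 𝔓.height = 1 ∧ 𝔓.comap (algebraMap R (FN r)) ≠ ⊥}
      {𝔮 : Ideal S | 𝔮.IsPrime ∧ 𝔮.height = 1 ∧ 𝔮.comap j ≠ ⊥} := by
  have hloc : IsLocalRing S := IsLocalization.AtPrime.isLocalRing S P
  have hBnoeth : IsNoetherianRing B := isNoetherianRing_of_surjective _ _ q hq
  have hSnoeth : IsNoetherianRing S := IsLocalization.isNoetherianRing P.primeCompl S hBnoeth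
  have hdomA : IsDomain (FN r) := isDomain_FN hr0 hr
  have hmax : maximalIdeal S = P.map (algebraMap B S) :=
    (IsLocalization.AtPrime.map_eq_maximalIdeal P S).symm
  have hφι : ∀ b, φ (algebraMap B S b) = ι b := fun b => RingHom.congr_fun hφ b
  have hpow : ∀ n : ℕ, (maximalIdeal S ^ n).map φ = (P ^ n).map ι := by
    intro n
    rw [hmax, ← Ideal.map_pow, Ideal.map_map, hφ]
  have hd : ∀ (n : ℕ) (t : FN r), ∃ s, t - φ s ∈ (maximalIdeal S ^ n).map φ := by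
    intro n t
    obtain ⟨b, hb⟩ := dense q ι hι P hx hy n t
    exact ⟨algebraMap B S b, by rw [hpow, hφι]; exact hb⟩
  have hi : ∀ (n : ℕ) (s : S), φ s ∈ (maximalIdeal S ^ n).map φ → s ∈ maximalIdeal S ^ n := by
    intro n s hs
    obtain ⟨b, c, rfl⟩ := IsLocalization.exists_mk'_eq P.primeCompl s
    obtain ⟨ρ, hρ⟩ := exists_trunc q ι hι hq hqr P hx hy n
    have h1 : ι b ∈ (P ^ n).map ι := by
      have h2 := Ideal.mul_mem_right (φ (algebraMap B S c)) _ hs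
      rwa [← map_mul, IsLocalization.mk'_spec, hφι, hpow] at h2
    have h2 : b ∈ P ^ n := by
      have h3 : (P ^ n).map ι ≤ RingHom.ker ρ := by
        rw [Ideal.map_le_iff_le_comap]
        intro b hb
        rw [Ideal.mem_comap, RingHom.mem_ker, hρ, Ideal.Quotient.eq_zero_iff_mem]
        exact hb
      have h4 := h3 h1
      rwa [RingHom.mem_ker, hρ, Ideal.Quotient.eq_zero_iff_mem] at h4
    rw [hmax, ← Ideal.map_pow, ← mul_one b, ← IsLocalization.mul_mk'_eq_mk'_of_mul]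
    exact Ideal.mul_mem_right _ _ (Ideal.mem_map_of_mem _ h2)
  have hcm : ∀ I : Ideal S, (I.map φ).comap φ = I := comap_map_eq φ hd hi
  have hφinj : Function.Injective φ := by
    have := hcm ⊥
    rw [Ideal.map_bot, ← RingHom.ker_eq_comap_bot] at this
    exact (RingHom.injective_iff_ker_eq_bot _).2 this
  have hdomS : IsDomain S := hφinj.isDomain φ
  have hφj : ∀ a, φ (j a) = algebraMap R (FN r) a := by
    intro a
    rw [hj, hφι, ι_C q ι hι]
    rfl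
  have hjinj : Function.Injective j := by
    intro a b hab
    apply injective_FN hr0 hr
    rw [← hφj, ← hφj, hab]
  let x := algebraMap B S (q (MvPolynomial.X 0))
  let y := algebraMap B S (q (MvPolynomial.X 1))
  have hφx : φ x = Ideal.Quotient.mk (rel r) (MvPowerSeries.X 0) := by rw [hφι, ι_X q ι hι]
  have hφy : φ y = Ideal.Quotient.mk (rel r) (MvPowerSeries.X 1) := by rw [hφι, ι_X q ι hι]
  have hm1 : ∀ p, (Ideal.span {j p}).map φ = Ideal.span {algebraMap R (FN r) p} := by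
    intro p
    rw [Ideal.map_span, Set.image_singleton, hφj]
  have hm2 : ∀ p, (Ideal.span {j p, x}).map φ = Ideal.span {algebraMap R (FN r) p,
      Ideal.Quotient.mk (rel r) (MvPowerSeries.X 0)} := by
    intro p
    rw [Ideal.map_span, Set.image_pair, hφj, hφx]
  have hm3 : ∀ p, (Ideal.span {j p, y}).map φ = Ideal.span {algebraMap R (FN r) p,
      Ideal.Quotient.mk (rel r) (MvPowerSeries.X 1)} := by
    intro p
    rw [Ideal.map_span, Set.image_pair, hφj, hφy]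
  have hprime : ∀ I : Ideal S, (I.map φ).IsPrime → I.IsPrime := by
    intro I hI
    rw [← hcm I]
    exact Ideal.comap_isPrime _ _
  have hAxy : (Ideal.Quotient.mk (rel r) (MvPowerSeries.X 0)) *
      (Ideal.Quotient.mk (rel r) (MvPowerSeries.X 1)) = algebraMap R (FN r) r := by
    rw [← map_mul]
    exact Ideal.Quotient.eq.2 (Ideal.subset_span rfl)
  have hSxy : x * y = j r := by
    rw [hj, ← map_mul, hqr]
  have cA := classify (algebraMap R (FN r)) (injective_FN hr0 hr) _ _ r hAxy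
    (fun p hp hpr => FN_h1 hr p hp hpr) (fun p hp hpr => FN_h2 p hp hpr)
    (fun p hp hpr => FN_h3 p hp hpr)
  have cS := classify j hjinj x y r hSxy
    (fun p hp hpr => hprime _ (by rw [hm1]; exact FN_h1 hr p hp hpr))
    (fun p hp hpr => ⟨hprime _ (by rw [hm2]; exact (FN_h2 p hp hpr).1), fun h =>
      (FN_h2 p hp hpr).2 (by
        have := Ideal.mem_map_of_mem φ h
        rwa [hm2, hφy] at this)⟩)
    (fun p hp hpr => ⟨hprime _ (by rw [hm3]; exact (FN_h3 p hp hpr).1), fun h =>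
      (FN_h3 p hp hpr).2 (by
        have := Ideal.mem_map_of_mem φ h
        rwa [hm3, hφx] at this)⟩)
  have hAS : ∀ 𝔓 : Ideal (FN r), (𝔓.IsPrime ∧ 𝔓.height = 1 ∧ 𝔓.comap (algebraMap R (FN r)) ≠ ⊥) →
      ∃ I : Ideal S, (I.IsPrime ∧ I.height = 1 ∧ I.comap j ≠ ⊥) ∧ 𝔓 = I.map φ := by
    intro 𝔓 h𝔓
    obtain ⟨p, hp, ⟨hpr, rfl⟩ | ⟨hpr, rfl | rfl⟩⟩ := (cA 𝔓).1 h𝔓
    · exact ⟨Ideal.span {j p}, (cS _).2 ⟨p, hp, Or.inl ⟨hpr, rfl⟩⟩, (hm1 p).symm⟩
    · exact ⟨Ideal.span {j p, x}, (cS _).2 ⟨p, hp, Or.inr ⟨hpr, Or.inl rfl⟩⟩, (hm2 p).symm⟩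
    · exact ⟨Ideal.span {j p, y}, (cS _).2 ⟨p, hp, Or.inr ⟨hpr, Or.inr rfl⟩⟩, (hm3 p).symm⟩
  have hSA : ∀ I : Ideal S, (I.IsPrime ∧ I.height = 1 ∧ I.comap j ≠ ⊥) →
      ((I.map φ).IsPrime ∧ (I.map φ).height = 1 ∧ (I.map φ).comap (algebraMap R (FN r)) ≠ ⊥) := by
    intro I hI
    obtain ⟨p, hp, ⟨hpr, rfl⟩ | ⟨hpr, rfl | rfl⟩⟩ := (cS I).1 hI
    · exact (cA _).2 ⟨p, hp, Or.inl ⟨hpr, hm1 p⟩⟩
    · exact (cA _).2 ⟨p, hp, Or.inr ⟨hpr, Or.inl (hm2 p)⟩⟩
    · exact (cA _).2 ⟨p, hp, Or.inr ⟨hpr, Or.inr (hm3 p)⟩⟩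
  refine ⟨?_, ?_, ?_⟩
  · intro 𝔓 h𝔓
    obtain ⟨I, hI, rfl⟩ := hAS 𝔓 h𝔓
    change ((I.map φ).comap φ).IsPrime ∧ ((I.map φ).comap φ).height = 1 ∧
      ((I.map φ).comap φ).comap j ≠ ⊥
    rw [hcm]
    exact hI
  · intro 𝔓 h𝔓 𝔓' h𝔓' heq
    obtain ⟨I, hI, rfl⟩ := hAS 𝔓 h𝔓
    obtain ⟨I', hI', rfl⟩ := hAS 𝔓' h𝔓'
    change (I.map φ).comap φ = (I'.map φ).comap φ at heq
    rw [hcm, hcm] at heq
    rw [heq]
  · intro I hI
    exact ⟨I.map φ, hSA I hI, hcm I⟩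

end K92.Node
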