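import Groth.Agent.CAlg.K92.NodeRed
import Mathlib.RingTheory.Valuation.Basic
import Mathlib.Data.ENat.Basic

/-!
# Gauss lemma for weighted valuations on the formal node
-/

set_option autoImplicit false

namespace K92.Node

open K813.NF

/-- A decreasing multiplicative filtration with the prime property. -/
structure Filt (R : Type*) [CommRing R] where
  /-- the ideals -/
  I : ℤ → Ideal R
  anti : ∀ {s t : ℤ}, s ≤ t → I t ≤ I s
  top : ∀ {t : ℤ}, t ≤ 0 → I t = ⊤
  mul : ∀ {s t : ℤ} {a b : R}, a ∈ I s → b ∈ I t → a * b ∈ I (s + t)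
  prime : ∀ {s t : ℤ} {a b : R}, a ∈ I s → b ∈ I t → a ∉ I (s + 1) → b ∉ I (t + 1) →
    a * b ∉ I (s + t + 1)

variable {R : Type*} [CommRing R]

theorem Filt.pow (F : Filt R) {r : R} {E : ℤ} (hr : r ∈ F.I E) (n : ℕ) : r ^ n ∈ F.I (E * n) := by
  induction n with
  | zero => rw [F.top (by simp)]; trivial
  | succ n ih =>
    rw [pow_succ, Nat.cast_succ, mul_add, mul_one]
    exact F.mul ih hr

/-- The minimal weight `m` of a sequence and the first index where it is attained. -/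
structure Low (F : Filt R) (l : ℤ) (φ : ℤ → R) (m i₀ : ℤ) : Prop where
  mem : ∀ i, φ i ∈ F.I (m - l * i)
  nmem : φ i₀ ∉ F.I (m - l * i₀ + 1)
  lt : ∀ i, i < i₀ → φ i ∈ F.I (m - l * i + 1)

theorem exists_low (F : Filt R) (l E : ℤ) (hl : 0 ≤ l) (hlE : l < E) (φ : ℤ → R)
    (hneg : ∀ j : ℕ, φ (-(j : ℤ)) ∈ F.I (E * j)) (hne : ∃ i t, φ i ∉ F.I t) :
    ∃ m i₀, Low F l φ m i₀ := by
  classical
  have h1 : ∃ m : ℕ, ∃ i, φ i ∉ F.I (m - l * i + 1) := by
    obtain ⟨i, t, hit⟩ := hne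
    refine ⟨(t + l * i).toNat, i, fun h => hit (F.anti ?_ h)⟩
    have := Int.self_le_toNat (t + l * i)
    omega
  let m := Nat.find h1
  have hm : ∀ i, φ i ∈ F.I (m - l * i) := by
    intro i
    rcases Nat.eq_zero_or_pos m with h0 | hpos
    · rw [h0]
      rcases i with k | k
      · rw [F.top]
        · trivial
        · simp only [Int.ofNat_eq_natCast, Nat.cast_zero, zero_sub]
          have := mul_nonneg hl (Int.natCast_nonneg k)
          omega
      · have h2 := hneg (k + 1)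
        refine F.anti ?_ h2
        rw [Int.negSucc_eq]
        push_cast
        nlinarith
    · have h2 := Nat.find_min h1 (m := m - 1) (Nat.sub_lt hpos one_pos)
      push Not at h2
      have h3 := h2 i
      rwa [show ((m - 1 : ℕ) : ℤ) = (m : ℤ) - 1 by omega,
        show ((m : ℤ) - 1 - l * i + 1) = m - l * i by ring] at h3
  have hP : ∃ lb : ℤ, φ lb ∉ F.I (m - l * lb + 1) ∧ ∀ z, φ z ∉ F.I (m - l * z + 1) → lb ≤ z := by
    refine Int.exists_least_of_bdd ⟨-m, fun z hz => ?_⟩ (Nat.find_spec h1)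
    by_contra hlt
    push Not at hlt
    apply hz
    obtain ⟨j, rfl⟩ : ∃ j : ℕ, z = -(j : ℤ) := ⟨(-z).toNat, by
      rw [Int.toNat_of_nonneg (by omega)]; ring⟩
    refine F.anti ?_ (hneg j)
    have h2 : (m : ℤ) + 1 ≤ j := by omega
    nlinarith
  obtain ⟨i₀, hi₀, hmin⟩ := hP
  refine ⟨m, i₀, hm, hi₀, fun i hi => ?_⟩
  by_contra hcon
  exact absurd (hmin i hcon) (not_le.2 hi)

theorem gauss {r : R} (F : Filt R) {l E : ℤ} (hE : 0 < E) (hr : r ∈ F.I E)
    (a b a' b' a'' b'' : ℕ → R)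
    (h : rd a b * rd a' b' - rd a'' b'' ∈ Ideal.span {(MvPowerSeries.X 0 * MvPowerSeries.X 1 -
      MvPowerSeries.C r : MvPowerSeries (Fin 2) R)}) {m n i₀ j₀ : ℤ}
    (h1 : Low F l (cf r a b) m i₀) (h2 : Low F l (cf r a' b') n j₀) :
    cf r a'' b'' (i₀ + j₀) ∈ F.I (m + n - l * (i₀ + j₀)) ∧
      cf r a'' b'' (i₀ + j₀) ∉ F.I (m + n - l * (i₀ + j₀) + 1) ∧
      cf r a'' b'' (i₀ + j₀) - cf r a b i₀ * cf r a' b' j₀ ∈
        F.I (m + n - l * (i₀ + j₀) + 1) := by
  set J := F.I (m + n - l * (i₀ + j₀) + 1) with hJdef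
  obtain ⟨N, hN⟩ : ∃ N : ℕ, r ^ N ∈ J := by
    refine ⟨(m + n - l * (i₀ + j₀) + 1).toNat, F.anti ?_ (F.pow hr _)⟩
    have := Int.self_le_toNat (m + n - l * (i₀ + j₀) + 1)
    nlinarith [Int.natCast_nonneg (m + n - l * (i₀ + j₀) + 1).toNat]
  have h3 : lau r J N hN (rd a'' b'') = lau r J N hN (rd a b) * lau r J N hN (rd a' b') := by
    obtain ⟨G, hG⟩ := Ideal.mem_span_singleton.1 h
    have h4 := congrArg (lau r J N hN) hG
    rw [map_mul, lau_rel, zero_mul, map_sub, sub_eq_zero, map_mul] at h4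
    exact h4.symm
  have h4 := congrArg (fun f => f.coeff (i₀ + j₀)) h3
  rw [coeff_lau_rd, HahnSeries.coeff_mul] at h4
  have h5 : ∀ i j : ℤ, i + j = i₀ + j₀ → i ≠ i₀ → cf r a b i * cf r a' b' j ∈ J := by
    intro i j hij hne
    rcases lt_or_gt_of_ne hne with hi | hi
    · refine F.anti (le_of_eq ?_) (F.mul (h1.lt i hi) (h2.mem j))
      rw [← hij]; ring
    · refine F.anti (le_of_eq ?_) (F.mul (h1.mem i) (h2.lt j (by omega)))
      rw [← hij]; ring
  have h6 : cf r a'' b'' (i₀ + j₀) - cf r a b i₀ * cf r a' b' j₀ ∈ J := by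
    rw [← Ideal.Quotient.eq_zero_iff_mem, map_sub, h4, map_mul, sub_eq_zero]
    rw [Finset.sum_eq_single (i₀, j₀)]
    · rw [coeff_lau_rd, coeff_lau_rd]
    · rintro ⟨i, j⟩ hij hne
      rw [Finset.mem_antidiagonal] at hij
      simp only [coeff_lau_rd]
      rw [← map_mul, Ideal.Quotient.eq_zero_iff_mem]
      refine h5 i j hij.2.2 fun hi => hne ?_
      have := hij.2.2
      simp only at this
      ext <;> simp <;> omega
    · intro hn
      by_contra hcon
      apply hn
      rw [Finset.mem_antidiagonal]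
      refine ⟨?_, ?_, rfl⟩
      · rw [HahnSeries.mem_support]; exact left_ne_zero_of_mul hcon
      · rw [HahnSeries.mem_support]; exact right_ne_zero_of_mul hcon
  have h7 : cf r a b i₀ * cf r a' b' j₀ ∈ F.I (m + n - l * (i₀ + j₀)) :=
    F.anti (le_of_eq (by ring)) (F.mul (h1.mem i₀) (h2.mem j₀))
  have h8 : cf r a b i₀ * cf r a' b' j₀ ∉ J := by
    have := F.prime (h1.mem i₀) (h2.mem j₀) h1.nmem h2.nmem
    rwa [show m - l * i₀ + (n - l * j₀) + 1 = m + n - l * (i₀ + j₀) + 1 by ring] at this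
  refine ⟨?_, fun h9 => h8 ?_, h6⟩
  · have := (F.I (m + n - l * (i₀ + j₀))).add_mem (F.anti (by omega) h6) h7
    rwa [sub_add_cancel] at this
  · have := J.sub_mem h9 h6
    rwa [sub_sub_cancel] at this

theorem exists_of_add_eq {x y : ℕ∞} {n : ℕ} (h : x + y = n) :
    ∃ p q : ℕ, x = p ∧ y = q ∧ p + q = n := by
  have h1 : x ≤ n := by rw [← h]; exact le_self_add
  have h2 : y ≤ n := by rw [← h]; exact le_add_self
  obtain ⟨p, rfl, -⟩ := ENat.le_natCast_iff.1 h1
  obtain ⟨q, rfl, -⟩ := ENat.le_natCast_iff.1 h2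
  exact ⟨p, q, rfl, rfl, by exact_mod_cast h⟩

/-- The filtration of a valuation with values in `ℕ ∪ {∞}`, rescaled by `κ`. -/
noncomputable def filt (w : AddValuation R ℕ∞) (κ : ℕ) : Filt R where
  I t :=
    { carrier := {a | ∀ n : ℕ, w a = n → t ≤ κ * n}
      zero_mem' := fun n hn => by
        rw [w.map_zero] at hn
        exact absurd hn (ENat.top_ne_natCast n)
      add_mem' := by
        intro a b ha hb n hn
        have h1 := w.map_add a b
        rw [hn, min_le_iff] at h1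
        rcases h1 with h1 | h1
        · obtain ⟨n', hn', hle⟩ := ENat.le_natCast_iff.1 h1
          have := ha n' hn'
          have h2 : (κ : ℤ) * n' ≤ κ * n := by gcongr
          omega
        · obtain ⟨n', hn', hle⟩ := ENat.le_natCast_iff.1 h1
          have := hb n' hn'
          have h2 : (κ : ℤ) * n' ≤ κ * n := by gcongr
          omega
      smul_mem' := by
        intro c a ha n hn
        rw [smul_eq_mul, w.map_mul] at hn
        obtain ⟨p, q, -, hq, hpq⟩ := exists_of_add_eq hn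
        have h1 := ha q hq
        have h2 : (κ : ℤ) * q ≤ κ * n := by gcongr; omega
        omega }
  anti := by
    intro s t hst a ha n hn
    exact hst.trans (ha n hn)
  top := by
    intro t ht
    rw [Ideal.eq_top_iff_one]
    intro n hn
    exact ht.trans (by positivity)
  mul := by
    intro s t a b ha hb n hn
    rw [w.map_mul] at hn
    obtain ⟨p, q, hp, hq, rfl⟩ := exists_of_add_eq hn
    have h1 := ha p hp
    have h2 := hb q hq
    push_cast
    rw [mul_add]
    omega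
  prime := by
    intro s t a b ha hb ha' hb' hab
    change ¬ ∀ n : ℕ, w a = n → s + 1 ≤ κ * n at ha'
    change ¬ ∀ n : ℕ, w b = n → t + 1 ≤ κ * n at hb'
    push Not at ha' hb'
    obtain ⟨p, hp, hps⟩ := ha'
    obtain ⟨q, hq, hqt⟩ := hb'
    have h1 := hab (p + q) (by rw [w.map_mul, hp, hq]; push_cast; rfl)
    push_cast at h1
    rw [mul_add] at h1
    omega

theorem mem_filt {w : AddValuation R ℕ∞} {κ : ℕ} {t : ℤ} {a : R} :
    a ∈ (filt w κ).I t ↔ ∀ n : ℕ, w a = n → t ≤ κ * n := Iff.rfl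

theorem mem_filt_of_eq {w : AddValuation R ℕ∞} {κ : ℕ} {t : ℤ} {a : R} {n : ℕ} (h : w a = n) :
    a ∈ (filt w κ).I t ↔ t ≤ κ * n := by
  rw [mem_filt]
  constructor
  · intro h1; exact h1 n h
  · intro h1 n' hn'
    rw [h] at hn'
    have : n = n' := by exact_mod_cast hn'
    subst this
    exact h1

end K92.Node
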