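import Groth.Agent.CAlg.K92.NodePrime
import Mathlib.RingTheory.UniqueFactorizationDomain.Multiplicity
import Mathlib.RingTheory.Valuation.PrimeMultiplicity

/-!
# The index of a divisor of a constant in the formal node
-/

set_option autoImplicit false

namespace K92.Node

open K813.NF IsLocalRing

universe u

variable {R : Type u} [CommRing R]

/-- The sequence of a constant. -/
def δ (c : R) : ℕ → R := fun i => if i = 0 then c else 0

theorem rd_δ (c : R) : rd (δ c) (δ c) = MvPowerSeries.C c := by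
  classical
  ext e
  rw [coeff_rd, MvPowerSeries.coeff_C]
  by_cases h1 : e 1 = 0
  · by_cases h0 : e 0 = 0
    · have he : e = 0 := by ext i; fin_cases i <;> simp [h0, h1]
      subst he
      simp [δ]
    · have he : e ≠ 0 := by rintro rfl; exact h0 rfl
      simp [δ, h1, h0, he]
  · have he : e ≠ 0 := by rintro rfl; exact h1 rfl
    by_cases h0 : e 0 = 0 <;> simp [δ, h1, he]

theorem cf_δ (r c : R) (k : ℤ) : cf r (δ c) (δ c) k = if k = 0 then c else 0 := by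
  rcases k with k | k
  · change δ c k = _
    simp [δ]
  · change r ^ (k + 1) * δ c (k + 1) = _
    simp [δ]

/-- Step 2 of the index lemma. -/
theorem step2 {r : R} (w : AddValuation R ℕ∞) {e ω : ℕ} (he : 0 < e) (hr : w r = e) {c : R}
    (hc : w c = ω) (a b a' b' : ℕ → R) (h0 : a 0 = b 0) (h0' : a' 0 = b' 0)
    (h : rd a b * rd a' b' - MvPowerSeries.C c ∈ rel r)
    (hφ : ∃ i, w (cf r a b i) ≠ ⊤) (hγ : ∃ i, w (cf r a' b' i) ≠ ⊤) :
    ∃ m n : ℤ, m + n = ω ∧ (∀ i (k : ℕ), w (cf r a b i) = k → m ≤ k) ∧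
      (∀ i (k : ℕ), w (cf r a' b' i) = k → n ≤ k) := by
  have hrI : r ∈ (filt w 1).I e := by
    rw [mem_filt_of_eq hr]
    simp
  have hlow : ∀ a b : ℕ → R, a 0 = b 0 → (∃ i, w (cf r a b i) ≠ ⊤) →
      ∃ m i₀, Low (filt w 1) 0 (cf r a b) m i₀ := by
    intro a b h0 hφ
    refine exists_low (filt w 1) 0 e le_rfl (by omega) _ (fun j => ?_) ?_
    · rw [cf_neg a b h0]
      exact Ideal.mul_mem_right _ _ (Filt.pow _ hrI j)
    · obtain ⟨i, hi⟩ := hφ
      obtain ⟨n, hn⟩ := ENat.ne_top_iff_exists.1 hi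
      refine ⟨i, n + 1, fun hcon => ?_⟩
      rw [mem_filt_of_eq hn.symm] at hcon
      omega
  obtain ⟨m, i₀, h1⟩ := hlow a b h0 hφ
  obtain ⟨n, j₀, h2⟩ := hlow a' b' h0' hγ
  rw [← rd_δ] at h
  obtain ⟨h3, h4, -⟩ := gauss (filt w 1) (by omega) hrI a b a' b' _ _ h h1 h2
  rw [cf_δ] at h3 h4
  have hk : i₀ + j₀ = 0 := by
    by_contra hne
    rw [if_neg hne] at h4
    exact h4 (zero_mem _)
  rw [if_pos hk, mem_filt_of_eq hc] at h3 h4
  refine ⟨m, n, by omega, fun i k hk => ?_, fun i k hk => ?_⟩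
  · have := (mem_filt_of_eq hk).1 (h1.mem i)
    omega
  · have := (mem_filt_of_eq hk).1 (h2.mem i)
    omega

/-- The index lemma. -/
theorem index {r : R} (w : AddValuation R ℕ∞) {e ω : ℕ} (he : 0 < e) (hr : w r = e) {c : R}
    (hc : w c = ω) (a b a' b' : ℕ → R) (h0 : a 0 = b 0) (h0' : a' 0 = b' 0)
    (h : rd a b * rd a' b' - MvPowerSeries.C c ∈ rel r)
    (hφ : ∃ i, w (cf r a b i) ≠ ⊤) (hγ : ∃ i, w (cf r a' b' i) ≠ ⊤) :
    ∃ (N : ℤ) (α β : ℕ), w (cf r a b N) = α ∧ w (cf r a' b' (-N)) = β ∧ α + β = ω ∧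
      (∀ i (k : ℕ), w (cf r a b i) = k → α ≤ k ∧ (α : ℤ) + e * N ≤ k + e * i) ∧
      (∀ i (k : ℕ), w (cf r a' b' i) = k → β ≤ k ∧ (β : ℤ) - e * N ≤ k + e * i) ∧
      c - cf r a b N * cf r a' b' (-N) ∈ (filt w 2).I (2 * ω + 1) := by
  have hrI : r ∈ (filt w 2).I (2 * e) := by
    rw [mem_filt_of_eq hr]
    simp
  have hlow : ∀ a b : ℕ → R, a 0 = b 0 → (∃ i, w (cf r a b i) ≠ ⊤) →
      ∃ m i₀, Low (filt w 2) e (cf r a b) m i₀ := by
    intro a b h0 hφ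
    refine exists_low (filt w 2) e (2 * e) (by omega) (by omega) _ (fun j => ?_) ?_
    · rw [cf_neg a b h0]
      exact Ideal.mul_mem_right _ _ (Filt.pow _ hrI j)
    · obtain ⟨i, hi⟩ := hφ
      obtain ⟨n, hn⟩ := ENat.ne_top_iff_exists.1 hi
      refine ⟨i, 2 * n + 1, fun hcon => ?_⟩
      rw [mem_filt_of_eq hn.symm] at hcon
      push_cast at hcon
      omega
  obtain ⟨m, i₀, h1⟩ := hlow a b h0 hφ
  obtain ⟨n, j₀, h2⟩ := hlow a' b' h0' hγ
  have h' := h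
  rw [← rd_δ] at h'
  obtain ⟨h3, h4, h5⟩ := gauss (filt w 2) (by omega) hrI a b a' b' _ _ h' h1 h2
  rw [cf_δ] at h3 h4 h5
  have hk : i₀ + j₀ = 0 := by
    by_contra hne
    rw [if_neg hne] at h4
    exact h4 (zero_mem _)
  rw [if_pos hk, hk, mul_zero, sub_zero] at h3 h4 h5
  rw [mem_filt_of_eq hc] at h3 h4
  obtain rfl : j₀ = -i₀ := by omega
  have hmn : m + n = 2 * ω := by push_cast at h3 h4; omega
  rw [hmn] at h5
  have hα : ∃ α : ℕ, w (cf r a b i₀) = α ∧ 2 * (α : ℤ) = m - e * i₀ := by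
    have h6 := h1.nmem
    rw [mem_filt] at h6
    push Not at h6
    obtain ⟨α, hα, h6⟩ := h6
    have h7 := (mem_filt_of_eq hα).1 (h1.mem i₀)
    exact ⟨α, hα, by push_cast at h6 h7; omega⟩
  have hβ : ∃ β : ℕ, w (cf r a' b' (-i₀)) = β ∧ 2 * (β : ℤ) = n + e * i₀ := by
    have h6 := h2.nmem
    rw [mem_filt] at h6
    push Not at h6
    obtain ⟨β, hβ, h6⟩ := h6
    have h7 := (mem_filt_of_eq hβ).1 (h2.mem (-i₀))
    exact ⟨β, hβ, by push_cast at h6 h7; rw [mul_neg] at h6 h7; omega⟩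
  obtain ⟨α, hα, hα'⟩ := hα
  obtain ⟨β, hβ, hβ'⟩ := hβ
  have hαβ : (α : ℤ) + β = ω := by omega
  obtain ⟨m₀, n₀, hmn₀, hm₀, hn₀⟩ := step2 w he hr hc a b a' b' h0 h0' h hφ hγ
  have e1 := hm₀ _ _ hα
  have e2 := hn₀ _ _ hβ
  -- the interchanged situation
  have hs : rd b a * rd b' a' - MvPowerSeries.C c ∈ rel r := by
    have := sw_mem r h
    rwa [map_sub, map_mul, sw_rd a b h0, sw_rd a' b' h0', sw_C] at this
  have hrel : ∀ (a b : ℕ → R), a 0 = b 0 → ∀ (i : ℤ) (k : ℕ), w (cf r a b i) = k →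
      ∃ k' : ℕ, w (cf r b a (-i)) = k' ∧ (k' : ℤ) = k + e * i := by
    intro a b h0 i k hk
    obtain ⟨j, rfl | rfl⟩ := Int.eq_nat_or_neg i
    · rw [cf_neg b a h0.symm, w.map_mul, w.map_pow, hr]
      rw [cf_natCast] at hk
      rw [hk]
      refine ⟨e * j + k, ?_, ?_⟩
      · push_cast
        rw [nsmul_eq_mul, mul_comm]
      · push_cast; ring
    · rw [neg_neg, cf_natCast]
      rw [cf_neg a b h0, w.map_mul, w.map_pow, hr] at hk
      obtain ⟨p, q, hp, hq, hpq⟩ := exists_of_add_eq hk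
      refine ⟨q, hq, ?_⟩
      have hp' : ((j * e : ℕ) : ℕ∞) = p := by rw [← hp]; push_cast; rw [nsmul_eq_mul]
      have hp'' : j * e = p := by exact_mod_cast hp'
      rw [← hpq, ← hp'']
      push_cast
      ring
  have hφs : ∃ i, w (cf r b a i) ≠ ⊤ := by
    obtain ⟨k', hk', -⟩ := hrel a b h0 _ _ hα
    exact ⟨_, by rw [hk']; exact ENat.natCast_ne_top _⟩
  have hγs : ∃ i, w (cf r b' a' i) ≠ ⊤ := by
    obtain ⟨k', hk', -⟩ := hrel a' b' h0' _ _ hβ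
    exact ⟨_, by rw [hk']; exact ENat.natCast_ne_top _⟩
  obtain ⟨m₁, n₁, hmn₁, hm₁, hn₁⟩ := step2 w he hr hc b a b' a' h0.symm h0'.symm hs hφs hγs
  have hm₁' : ∀ i (k : ℕ), w (cf r a b i) = k → m₁ ≤ k + e * i := by
    intro i k hk
    obtain ⟨k', hk', hk''⟩ := hrel a b h0 i k hk
    rw [← hk'']
    exact hm₁ _ _ hk'
  have hn₁' : ∀ i (k : ℕ), w (cf r a' b' i) = k → n₁ ≤ k + e * i := by
    intro i k hk
    obtain ⟨k', hk', hk''⟩ := hrel a' b' h0' i k hk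
    rw [← hk'']
    exact hn₁ _ _ hk'
  have e3 := hm₁' _ _ hα
  have e4 := hn₁' _ _ hβ
  rw [mul_neg] at e4
  refine ⟨i₀, α, β, hα, hβ, by exact_mod_cast hαβ, fun i k hk => ⟨?_, ?_⟩, fun i k hk => ⟨?_, ?_⟩, h5⟩
  · have := hm₀ i k hk; omega
  · have := hm₁' i k hk; omega
  · have := hn₀ i k hk; omega
  · have := hn₁' i k hk; omega

end K92.Node
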