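import Groth.Agent.ArSing.K813.NF
import Mathlib.RingTheory.LaurentSeries
import Mathlib.RingTheory.HahnSeries.PowerSeries
import Mathlib.RingTheory.PowerSeries.Trunc
import Mathlib.RingTheory.Ideal.Quotient.Operations
import Mathlib.RingTheory.AdicCompletion.Basic

/-!
# The formal node `R⟦x, y⟧/(xy - r)`: Laurent expansions and reduced forms
-/

set_option autoImplicit false

namespace K92.Node

open K813.NF

section EvalNil

variable {T : Type*} [CommRing T]

theorem eval_trunc_eq {z : T} {N : ℕ} (hz : z ^ N = 0) (p : Polynomial T) :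
    (PowerSeries.trunc N (p : PowerSeries T)).eval z = p.eval z := by
  have h1 : (Polynomial.X ^ N : Polynomial T) ∣ p - PowerSeries.trunc N (p : PowerSeries T) := by
    rw [Polynomial.X_pow_dvd_iff]
    intro d hd
    rw [Polynomial.coeff_sub, PowerSeries.coeff_trunc, if_pos hd, Polynomial.coeff_coe, sub_self]
  obtain ⟨q, hq⟩ := h1
  have h2 := congrArg (Polynomial.eval z) hq
  rw [Polynomial.eval_sub, Polynomial.eval_mul, Polynomial.eval_pow, Polynomial.eval_X, hz,
    zero_mul, sub_eq_zero] at h2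
  exact h2.symm

/-- Evaluation of a power series at a nilpotent element. -/
noncomputable def evalNil (z : T) (N : ℕ) (hz : z ^ N = 0) : PowerSeries T →+* T where
  toFun F := (PowerSeries.trunc N F).eval z
  map_zero' := by simp
  map_one' := by
    rcases N with _ | N
    · have : (1 : T) = 0 := by rwa [pow_zero] at hz
      have hs : Subsingleton T := subsingleton_of_zero_eq_one this.symm
      exact Subsingleton.elim _ _
    · rw [PowerSeries.trunc_one, Polynomial.eval_one]
  map_add' F G := by rw [map_add, Polynomial.eval_add]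
  map_mul' F G := by
    rw [← PowerSeries.trunc_trunc_mul_trunc, ← Polynomial.coe_mul, eval_trunc_eq hz,
      Polynomial.eval_mul]

theorem evalNil_apply (z : T) (N : ℕ) (hz : z ^ N = 0) (F : PowerSeries T) :
    evalNil z N hz F = ∑ j ∈ Finset.range N, PowerSeries.coeff j F * z ^ j := by
  rcases N with _ | N
  · have : (1 : T) = 0 := by rwa [pow_zero] at hz
    have hs : Subsingleton T := subsingleton_of_zero_eq_one this.symm
    exact Subsingleton.elim _ _
  · change (PowerSeries.trunc (N + 1) F).eval z = _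
    rw [Polynomial.eval_eq_sum_range' (PowerSeries.natDegree_trunc_lt _ _)]
    refine Finset.sum_congr rfl fun j hj => ?_
    rw [PowerSeries.coeff_trunc, if_pos (Finset.mem_range.1 hj)]
    
theorem evalNil_C (z : T) (N : ℕ) (hz : z ^ N = 0) (t : T) :
    evalNil z N hz (PowerSeries.C t) = t := by
  rcases N with _ | N
  · have : (1 : T) = 0 := by rwa [pow_zero] at hz
    have hs : Subsingleton T := subsingleton_of_zero_eq_one this.symm
    exact Subsingleton.elim _ _
  · change (PowerSeries.trunc (N + 1) (PowerSeries.C t)).eval z = _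
    rw [PowerSeries.trunc_C, Polynomial.eval_C]

theorem evalNil_X (z : T) (N : ℕ) (hz : z ^ N = 0) :
    evalNil z N hz PowerSeries.X = z := by
  rw [evalNil_apply]
  rcases N with _ | _ | N
  · have : (1 : T) = 0 := by rwa [pow_zero] at hz
    have hs : Subsingleton T := subsingleton_of_zero_eq_one this.symm
    exact Subsingleton.elim _ _
  · rw [zero_add, pow_one] at hz
    rw [hz]
    simp
  · rw [Finset.sum_eq_single 1]
    · simp
    · intro j _ hj
      rw [PowerSeries.coeff_X, if_neg hj, zero_mul]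
    · intro h
      exact absurd (Finset.mem_range.2 (by omega)) h

end EvalNil

section Lau

open HahnSeries

variable {R : Type*} [CommRing R] (r : R) (J : Ideal R) (N : ℕ)

theorem single_pow_zero (hJ : r ^ N ∈ J) :
    (HahnSeries.single (-1 : ℤ) (Ideal.Quotient.mk J r)) ^ N = (0 : LaurentSeries (R ⧸ J)) := by
  rw [HahnSeries.single_pow, ← map_pow, Ideal.Quotient.eq_zero_iff_mem.2 hJ,
    HahnSeries.single_eq_zero]

/-- The Laurent expansion `x ↦ x`, `y ↦ r x⁻¹` modulo an ideal containing a power of `r`. -/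
noncomputable def lau (hJ : r ^ N ∈ J) : MvPowerSeries (Fin 2) R →+* LaurentSeries (R ⧸ J) :=
  (evalNil (HahnSeries.single (-1 : ℤ) (Ideal.Quotient.mk J r)) N (single_pow_zero r J N hJ)).comp
    ((PowerSeries.map (HahnSeries.ofPowerSeries ℤ (R ⧸ J))).comp
      ((PowerSeries.map (PowerSeries.map (Ideal.Quotient.mk J))).comp (E R).toRingEquiv.toRingHom))

variable {r J N}

theorem lau_apply (hJ : r ^ N ∈ J) (F : MvPowerSeries (Fin 2) R) : lau r J N hJ F =
    evalNil (HahnSeries.single (-1 : ℤ) (Ideal.Quotient.mk J r)) N (single_pow_zero r J N hJ)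
      (PowerSeries.map (HahnSeries.ofPowerSeries ℤ (R ⧸ J))
        (PowerSeries.map (PowerSeries.map (Ideal.Quotient.mk J)) (E R F))) := rfl

theorem lau_X0 (hJ : r ^ N ∈ J) : lau r J N hJ (MvPowerSeries.X 0) = HahnSeries.single 1 1 := by
  rw [lau_apply, E_X0, PowerSeries.map_C, PowerSeries.map_C, PowerSeries.map_X,
    HahnSeries.ofPowerSeries_X, evalNil_C]

theorem lau_X1 (hJ : r ^ N ∈ J) : lau r J N hJ (MvPowerSeries.X 1) =
    HahnSeries.single (-1) (Ideal.Quotient.mk J r) := by
  rw [lau_apply, E_X1, PowerSeries.map_X, PowerSeries.map_X, evalNil_X]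

theorem E_C (a : R) : E R (MvPowerSeries.C a) = PowerSeries.C (PowerSeries.C a) := by
  classical
  ext j i
  rw [coeff_coeff_E, MvPowerSeries.coeff_C, PowerSeries.coeff_C]
  by_cases hj : j = 0
  · subst hj
    rw [if_pos rfl, PowerSeries.coeff_C]
    by_cases hi : i = 0
    · subst hi; simp
    · rw [if_neg hi, if_neg]
      intro h
      have := DFunLike.congr_fun h 0
      simp at this
      exact hi this
  · rw [if_neg hj, map_zero, if_neg]
    intro h
    have := DFunLike.congr_fun h 1
    simp at this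
    exact hj this

theorem lau_C (hJ : r ^ N ∈ J) (a : R) : lau r J N hJ (MvPowerSeries.C a) =
    HahnSeries.C (Ideal.Quotient.mk J a) := by
  rw [lau_apply, E_C, PowerSeries.map_C, PowerSeries.map_C, PowerSeries.map_C, evalNil_C,
    HahnSeries.ofPowerSeries_C]

theorem lau_rel (hJ : r ^ N ∈ J) :
    lau r J N hJ (MvPowerSeries.X 0 * MvPowerSeries.X 1 - MvPowerSeries.C r) = 0 := by
  rw [map_sub, map_mul, lau_X0, lau_X1, lau_C, HahnSeries.single_mul_single, one_mul,
    add_neg_cancel, sub_eq_zero]
  rfl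

theorem coeff_lau (hJ : r ^ N ∈ J) (F : MvPowerSeries (Fin 2) R) (k : ℤ) :
    (lau r J N hJ F).coeff k = ∑ j ∈ Finset.range N,
      (HahnSeries.ofPowerSeries ℤ (R ⧸ J)
        (PowerSeries.map (Ideal.Quotient.mk J) (PowerSeries.coeff j (E R F)))).coeff (k + j) *
        Ideal.Quotient.mk J (r ^ j) := by
  rw [lau_apply, evalNil_apply, HahnSeries.coeff_sum]
  refine Finset.sum_congr rfl fun j _ => ?_
  rw [PowerSeries.coeff_map, PowerSeries.coeff_map, HahnSeries.single_pow]
  have h1 : k = (k + j) + j • (-1 : ℤ) := by simp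
  conv_lhs => rw [h1]
  rw [HahnSeries.coeff_mul_single_add, ← map_pow]

theorem coeff_ofPowerSeries_neg {S : Type*} [CommRing S] (f : PowerSeries S) (k : ℤ) (hk : k < 0) :
    (HahnSeries.ofPowerSeries ℤ S f).coeff k = 0 := by
  rw [HahnSeries.ofPowerSeries_apply]
  apply HahnSeries.embDomain_of_notMem_range
  rintro ⟨n, hn⟩
  have : ((n : ℕ) : ℤ) = k := hn
  omega

/-- A power series in `x` plus a power series in `y` with the same constant term. -/
noncomputable def rd (a b : ℕ → R) : MvPowerSeries (Fin 2) R :=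
  fun e => if e 1 = 0 then a (e 0) else if e 0 = 0 then b (e 1) else 0

theorem coeff_rd (a b : ℕ → R) (e : Fin 2 →₀ ℕ) : MvPowerSeries.coeff e (rd a b) =
    if e 1 = 0 then a (e 0) else if e 0 = 0 then b (e 1) else 0 := rfl

theorem coeff_coeff_E_rd (a b : ℕ → R) (i j : ℕ) :
    PowerSeries.coeff i (PowerSeries.coeff j (E R (rd a b))) =
      if j = 0 then a i else if i = 0 then b j else 0 := by
  rw [coeff_coeff_E, coeff_rd]
  simp

variable (r) in
/-- The Laurent coefficients of `rd a b`. -/
def cf (a b : ℕ → R) : ℤ → R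
  | Int.ofNat i => a i
  | Int.negSucc j => r ^ (j + 1) * b (j + 1)

theorem cf_natCast (a b : ℕ → R) (i : ℕ) : cf r a b (i : ℤ) = a i := rfl

theorem cf_neg (a b : ℕ → R) (hab : a 0 = b 0) (j : ℕ) : cf r a b (-(j : ℤ)) = r ^ j * b j := by
  rcases j with _ | j
  · simp only [Nat.cast_zero, neg_zero, pow_zero, one_mul]
    exact hab
  · rfl

theorem coeff_lau_rd (hJ : r ^ N ∈ J) (a b : ℕ → R) (k : ℤ) :
    (lau r J N hJ (rd a b)).coeff k = Ideal.Quotient.mk J (cf r a b k) := by
  rw [coeff_lau]
  rcases N with _ | N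
  · have hJ' : J = ⊤ := by rw [Ideal.eq_top_iff_one]; rwa [pow_zero] at hJ
    have hs : Subsingleton (R ⧸ J) := Ideal.Quotient.subsingleton_iff.2 hJ'
    exact Subsingleton.elim _ _
  rcases k with k | m
  · rw [Finset.sum_eq_single 0]
    · rw [Nat.cast_zero, add_zero, pow_zero, map_one, mul_one]
      change (HahnSeries.ofPowerSeries ℤ (R ⧸ J) _).coeff ((k : ℕ) : ℤ) = _
      rw [HahnSeries.ofPowerSeries_apply_coeff, PowerSeries.coeff_map, coeff_coeff_E_rd,
        if_pos rfl]
      rfl
    · intro j _ hj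
      change (HahnSeries.ofPowerSeries ℤ (R ⧸ J) _).coeff ((k : ℕ) + (j : ℕ) : ℤ) * _ = _
      rw [← Nat.cast_add, HahnSeries.ofPowerSeries_apply_coeff, PowerSeries.coeff_map,
        coeff_coeff_E_rd, if_neg hj, if_neg (by omega), map_zero, zero_mul]
    · intro h
      exact absurd (Finset.mem_range.2 (Nat.succ_pos _)) h
  · have hk : ∀ j : ℕ, j ≠ m + 1 → (HahnSeries.ofPowerSeries ℤ (R ⧸ J)
        (PowerSeries.map (Ideal.Quotient.mk J) (PowerSeries.coeff j (E R (rd a b))))).coeff
          (Int.negSucc m + j) * Ideal.Quotient.mk J (r ^ j) = 0 := by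
      intro j hj
      rcases lt_or_gt_of_ne hj with hj | hj
      · rw [coeff_ofPowerSeries_neg _ _ (by omega), zero_mul]
      · obtain ⟨i, rfl⟩ : ∃ i, j = m + 1 + (i + 1) := ⟨j - (m + 1) - 1, by omega⟩
        rw [show Int.negSucc m + ((m + 1 + (i + 1) : ℕ) : ℤ) = ((i + 1 : ℕ) : ℤ) by
          rw [Int.negSucc_eq]; push_cast; ring, HahnSeries.ofPowerSeries_apply_coeff,
          PowerSeries.coeff_map, coeff_coeff_E_rd, if_neg (by omega), if_neg (by omega), map_zero,
          zero_mul]
    by_cases hm : m + 1 < N + 1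
    · rw [Finset.sum_eq_single (m + 1) (fun j _ hj => hk j hj)
        (fun h => absurd (Finset.mem_range.2 hm) h)]
      rw [show Int.negSucc m + ((m + 1 : ℕ) : ℤ) = ((0 : ℕ) : ℤ) by
          rw [Int.negSucc_eq]; push_cast; ring, HahnSeries.ofPowerSeries_apply_coeff,
          PowerSeries.coeff_map, coeff_coeff_E_rd, if_neg (by omega), if_pos rfl, ← map_mul,
          mul_comm]
      rfl
    · rw [Finset.sum_eq_zero fun j hj => hk j (by rw [Finset.mem_range] at hj; omega)]
      symm
      rw [Ideal.Quotient.eq_zero_iff_mem]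
      change r ^ (m + 1) * b (m + 1) ∈ J
      apply J.mul_mem_right
      obtain ⟨d, hd⟩ := Nat.exists_eq_add_of_le (not_lt.1 hm)
      rw [hd, pow_add]
      exact J.mul_mem_right _ hJ

end Lau

end K92.Node
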