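import Groth.Agent.CAlg.K92.NodeUnit

/-!
# Divisors of constants in the formal node: the main theorem
-/

set_option autoImplicit false

namespace K92.Node

open K813.NF IsLocalRing MvPowerSeries

universe u

variable {R : Type u} [CommRing R] [IsDomain R] [UniqueFactorizationMonoid R] [IsLocalRing R]
  [IsNoetherianRing R]

omit [IsDomain R] [UniqueFactorizationMonoid R] [IsNoetherianRing R] in
theorem isUnit_rd (a b : ℕ → R) (ha : IsUnit (a 0)) : IsUnit (rd a b) := by
  rw [MvPowerSeries.isUnit_iff_constantCoeff, ← MvPowerSeries.coeff_zero_eq_constantCoeff_apply,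
    coeff_rd]
  simpa using ha

/-- `a` is a power of `x` times a unit. -/
theorem lem_pos {r : R} (hr0 : r ≠ 0) (hr : r ∈ maximalIdeal R) {c : R}
    (hc : c ≠ 0) (a b a' b' : ℕ → R) (h0 : a 0 = b 0) (h0' : a' 0 = b' 0)
    (h : rd a b * rd a' b' - C c ∈ rel r)
    (hF : ∀ p, Prime p → ¬ ((∀ i, p ∣ a i) ∧ ∀ i, p ∣ b i))
    (hG : ∀ p, Prime p → ¬ ((∀ i, p ∣ a' i) ∧ ∀ i, p ∣ b' i))
    (M : ℕ) (d : R) (hd : r ^ M = c * d) (p : R) (hp : Prime p) (hpr : p ∣ r) (e : ℕ) (he : 0 < e)
    (hpe : emultiplicity p r = e) (hpc : emultiplicity p c = (e * M : ℕ))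
    (hdvd : p ^ (e * M + 1) ∣ c - cf r a b M * cf r a' b' (-M)) :
    IsUnit d ∧ ∃ U, IsUnit U ∧ rd a b - X 0 ^ M * U ∈ rel r := by
  rw [cf_natCast, cf_neg a' b' h0', hd, show a M * (c * d * b' M) = c * (a M * b' M * d) by ring,
    show c - c * (a M * b' M * d) = c * (1 - a M * b' M * d) by ring] at hdvd
  have h1 : p ∣ 1 - a M * b' M * d := by
    rw [pow_dvd_iff_le_emultiplicity, emultiplicity_mul hp, hpc] at hdvd
    rw [← dvd_iff_emultiplicity_pos]
    by_contra hcon
    rw [not_lt, nonpos_iff_eq_zero] at hcon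
    rw [hcon, add_zero] at hdvd
    have : e * M + 1 ≤ e * M := by exact_mod_cast hdvd
    omega
  have hpm : p ∈ maximalIdeal R := (mem_maximalIdeal _).2 hp.not_isUnit
  have hunit : IsUnit (a M * b' M * d) := by
    by_contra hcon
    have h2 : a M * b' M * d ∈ maximalIdeal R := (mem_maximalIdeal _).2 hcon
    obtain ⟨z, hz⟩ := h1
    have h3 : (1 : R) ∈ maximalIdeal R := by
      have := (maximalIdeal R).add_mem (Ideal.mul_mem_right z _ hpm) h2
      rwa [← hz, sub_add_cancel] at this
    exact (Ideal.ne_top_iff_one _).1 (maximalIdeal.isMaximal R).ne_top h3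
  have hd' : IsUnit d := isUnit_of_mul_isUnit_right hunit
  have haM : IsUnit (a M) := isUnit_of_mul_isUnit_left (isUnit_of_mul_isUnit_left hunit)
  refine ⟨hd', ?_⟩
  -- divisibility
  have key : ∀ (i : ℤ) (n : ℕ), i + n ≤ M → r ^ n ∣ cf r a b i := by
    intro i n hin
    rw [UniqueFactorizationMonoid.dvd_iff_emultiplicity_le (pow_ne_zero _ hr0)]
    intro q hq
    rw [emultiplicity_pow hq]
    by_cases hqr : q ∣ r
    swap
    · have : emultiplicity q r = 0 := by
        rw [emultiplicity_eq_zero]; exact hqr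
      rw [this, mul_zero]
      exact zero_le
    obtain ⟨N, e', he', hqe, hqc, hcfN, hall, -, -⟩ := index_prime hr0 hr hq hqr hc a b a' b' h0
      h0' h (hF q hq) (hG q hq)
    have hN : N.natAbs = M := by
      have h2 := congrArg (emultiplicity q) hd
      rw [emultiplicity_mul hq, emultiplicity_pow hq, hqe, hqc, emultiplicity_of_isUnit_right
        hq.not_isUnit hd', add_zero] at h2
      have h3 : M * e' = e' * N.natAbs := by exact_mod_cast h2
      rw [mul_comm] at h3
      exact (Nat.eq_of_mul_eq_mul_left he' h3).symm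
    have hNM : N = M := by
      rcases Int.natAbs_eq N with h2 | h2
      · rw [h2, hN]
      · -- `N = -M`
        have h3 := (hall (M : ℤ) 0 (by
          rw [cf_natCast]
          exact emultiplicity_of_isUnit_right hq.not_isUnit haM)).1
        rw [h2, hN, neg_neg, Int.toNat_natCast, Nat.cast_zero] at h3
        have h4 : (M : ℤ) = 0 := by
          have : (0 : ℤ) < e' := by exact_mod_cast he'
          nlinarith [Int.natCast_nonneg M]
        rw [h2, hN, h4]
        simp
    by_cases hx : cf r a b i = 0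
    · rw [hx, emultiplicity_zero]; exact le_top
    · obtain ⟨k, hk⟩ := emult_eq_coe hq hx
      have h2 := (hall i k hk).2
      rw [hNM] at h2
      have h3 : (-(M : ℤ)).toNat = 0 := by simp
      rw [h3] at h2
      rw [hk, hqe]
      have h4 : n * e' ≤ k := by
        have h5 : (0 : ℤ) < e' := by exact_mod_cast he'
        zify
        simp only [Nat.cast_zero, mul_zero, zero_add] at h2
        nlinarith
      exact_mod_cast h4
  obtain ⟨a₁, b₁, h01, h2, h3⟩ := shift_pow hr0 M a b h0 key
  refine ⟨rd a₁ b₁, isUnit_rd a₁ b₁ ?_, h2⟩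
  have h4 := h3 0
  rw [zero_add, cf_natCast] at h4
  change a₁ 0 = a M at h4
  rwa [h4]

/-- Dichotomy. -/
theorem lem_dich {r : R} (hr0 : r ≠ 0) (hr : r ∈ maximalIdeal R) {c : R}
    (hc : c ≠ 0) (a b a' b' : ℕ → R) (h0 : a 0 = b 0) (h0' : a' 0 = b' 0)
    (h : rd a b * rd a' b' - C c ∈ rel r)
    (hF : ∀ p, Prime p → ¬ ((∀ i, p ∣ a i) ∧ ∀ i, p ∣ b i))
    (hG : ∀ p, Prime p → ¬ ((∀ i, p ∣ a' i) ∧ ∀ i, p ∣ b' i))
    (hcr : ∀ p, Prime p → p ∣ c → p ∣ r) :
    (∃ (M : ℕ) (U : _), IsUnit U ∧ rd a b - X 0 ^ M * U ∈ rel r) ∨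
      ∃ (M : ℕ) (d : R) (U : _), IsUnit d ∧ IsUnit U ∧ rd a' b' - X 0 ^ M * U ∈ rel r ∧
        r ^ M = c * d := by
  classical
  have hex : ∃ M : ℕ, c ∣ r ^ M := by
    obtain ⟨k, hk⟩ : ∃ k : ℕ, ∀ q, Prime q → emultiplicity q c ≤ k := by
      refine ⟨Multiset.card (UniqueFactorizationMonoid.factors c), fun q hq => ?_⟩
      obtain ⟨n, hn⟩ := emult_eq_coe hq hc
      rw [hn]
      have h1 : q ^ n ∣ c := pow_dvd_of_le_emultiplicity (by rw [hn])
      obtain ⟨z, hz⟩ := h1
      have hz0 : z ≠ 0 := by rintro rfl; exact hc (by rw [hz, mul_zero])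
      have h2 : Multiset.Rel Associated (UniqueFactorizationMonoid.factors c)
          (Multiset.replicate n q + UniqueFactorizationMonoid.factors z) := by
        apply UniqueFactorizationMonoid.factors_unique
        · exact fun x hx => UniqueFactorizationMonoid.irreducible_of_factor x hx
        · intro x hx
          rw [Multiset.mem_add] at hx
          rcases hx with hx | hx
          · rw [Multiset.eq_of_mem_replicate hx]; exact hq.irreducible
          · exact UniqueFactorizationMonoid.irreducible_of_factor x hx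
        · rw [Multiset.prod_add, Multiset.prod_replicate]
          refine (UniqueFactorizationMonoid.factors_prod hc).trans ?_
          rw [hz]
          exact ((UniqueFactorizationMonoid.factors_prod hz0).symm).mul_left _
      have h3 := Multiset.card_eq_card_of_rel h2
      rw [Multiset.card_add, Multiset.card_replicate] at h3
      have : n ≤ Multiset.card (UniqueFactorizationMonoid.factors c) := by omega
      exact_mod_cast this
    refine ⟨k, ?_⟩
    rw [UniqueFactorizationMonoid.dvd_iff_emultiplicity_le hc]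
    intro q hq
    by_cases hqc : q ∣ c
    · rw [emultiplicity_pow hq]
      have h1 : (1 : ℕ∞) ≤ emultiplicity q r := by
        have := dvd_iff_emultiplicity_pos.2 (hcr q hq hqc)
        exact Order.one_le_iff_pos.2 this
      calc emultiplicity q c ≤ k := hk q hq
        _ = k * 1 := (mul_one _).symm
        _ ≤ k * emultiplicity q r := by gcongr
    · rw [emultiplicity_eq_zero.2 hqc]
      exact zero_le
  obtain ⟨hM, hmin⟩ : c ∣ r ^ Nat.find hex ∧ ∀ m, m < Nat.find hex → ¬ c ∣ r ^ m :=
    ⟨Nat.find_spec hex, fun m hm => Nat.find_min hex hm⟩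
  set M := Nat.find hex
  obtain ⟨d, hd⟩ := hM
  rcases Nat.eq_zero_or_pos M with hM0 | hMpos
  · left
    refine ⟨0, rd a b, isUnit_rd a b ?_, by simp⟩
    rw [hM0, pow_zero] at hd
    have hcu : IsUnit c := IsUnit.of_mul_eq_one _ hd.symm
    obtain ⟨G, hG⟩ := Ideal.mem_span_singleton.1 h
    have h1 := congrArg (constantCoeff (σ := Fin 2) (R := R)) hG
    simp only [map_sub, map_mul, constantCoeff_X, constantCoeff_C, zero_mul, zero_sub] at h1
    have h2 : ∀ a b : ℕ → R, constantCoeff (rd a b) = a 0 := fun a b => by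
      rw [← MvPowerSeries.coeff_zero_eq_constantCoeff_apply, coeff_rd]; simp
    rw [h2, h2] at h1
    by_contra hcon
    have h3 : a 0 ∈ maximalIdeal R := (mem_maximalIdeal _).2 hcon
    have h4 : c ∈ maximalIdeal R := by
      have : c = a 0 * a' 0 + r * constantCoeff G := by linear_combination -h1
      rw [this]
      exact (maximalIdeal R).add_mem (Ideal.mul_mem_right _ _ h3) (Ideal.mul_mem_right _ _ hr)
    exact (mem_maximalIdeal _).1 h4 hcu
  · have h1 := hmin (M - 1) (by omega)
    rw [UniqueFactorizationMonoid.dvd_iff_emultiplicity_le hc] at h1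
    push Not at h1
    obtain ⟨p, hp, hpM⟩ := h1
    have hpc : p ∣ c := by
      rw [← dvd_iff_emultiplicity_pos]
      exact lt_of_le_of_lt zero_le hpM
    have hpr := hcr p hp hpc
    obtain ⟨N, e, he, hpe, hpc', hcfN, -, -, hdvd⟩ := index_prime hr0 hr hp hpr hc a b a' b' h0
      h0' h (hF p hp) (hG p hp)
    have hN : N.natAbs = M := by
      have h2 := congrArg (emultiplicity p) hd
      rw [emultiplicity_mul hp, emultiplicity_pow hp, hpe, hpc'] at h2
      rw [emultiplicity_pow hp, hpe, hpc'] at hpM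
      have h3 : (M - 1) * e < e * N.natAbs := by exact_mod_cast hpM
      have h4 : ((e * N.natAbs : ℕ) : ℕ∞) ≤ ((M * e : ℕ) : ℕ∞) := by
        push_cast
        push_cast at h2
        rw [h2]
        exact le_self_add
      have h5 : e * N.natAbs ≤ M * e := by exact_mod_cast h4
      rw [mul_comm M e] at h5
      rw [mul_comm (M - 1) e] at h3
      have h6 := Nat.le_of_mul_le_mul_left h5 he
      have h7 := Nat.lt_of_mul_lt_mul_left h3
      omega
    rw [hN] at hpc' hdvd
    rcases Int.natAbs_eq N with h2 | h2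
    · left
      rw [h2, hN] at hdvd
      obtain ⟨-, U, hU, hU'⟩ := lem_pos hr0 hr hc a b a' b' h0 h0' h hF hG M d hd p hp hpr e he hpe
        hpc' hdvd
      exact ⟨M, U, hU, hU'⟩
    · right
      rw [h2, hN, neg_neg, mul_comm (cf r a b _)] at hdvd
      have h' : rd a' b' * rd a b - C c ∈ rel r := by rwa [mul_comm]
      obtain ⟨hd', U, hU, hU'⟩ := lem_pos hr0 hr hc a' b' a b h0' h0 h' hG hF M d hd p hp hpr e he
        hpe hpc' hdvd
      exact ⟨M, d, U, hd', hU, hU', hd⟩

end K92.Node
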