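import Groth.Agent.CAlg.K92.NodeGauss
import Groth.Agent.Ega2.DVRDominate
import Mathlib.RingTheory.DiscreteValuationRing.Basic
import Mathlib.RingTheory.MvPowerSeries.Inverse

/-!
# Prime ideals of the formal node extended from the base
-/

set_option autoImplicit false

namespace K92.Node

open K813.NF IsLocalRing

universe u

/-- A discrete valuation with centre the maximal ideal and kernel a given prime. -/
theorem exists_val {R : Type u} [CommRing R] [IsLocalRing R] [IsNoetherianRing R] (𝔭 : Ideal R)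
    [𝔭.IsPrime] (r : R) (hr : r ∈ maximalIdeal R) (hr' : r ∉ 𝔭) :
    ∃ w : AddValuation R ℕ∞, (∀ a, w a = ⊤ ↔ a ∈ 𝔭) ∧ ∃ e : ℕ, 0 < e ∧ w r = e := by
  let D := R ⧸ 𝔭
  have : Nontrivial D := Ideal.Quotient.nontrivial_iff.2 (Ideal.IsPrime.ne_top inferInstance)
  have : IsLocalRing D := IsLocalRing.of_surjective' (Ideal.Quotient.mk 𝔭)
    Ideal.Quotient.mk_surjective
  let K := FractionRing D
  have hrD : Ideal.Quotient.mk 𝔭 r ∈ maximalIdeal D := by
    rw [mem_maximalIdeal, mem_nonunits_iff]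
    intro hu
    obtain ⟨s, hs⟩ := hu.exists_right_inv
    obtain ⟨s, rfl⟩ := Ideal.Quotient.mk_surjective s
    rw [← map_mul, ← (Ideal.Quotient.mk 𝔭).map_one, Ideal.Quotient.eq] at hs
    have h1 : (1 : R) ∈ maximalIdeal R := by
      have h2 := (maximalIdeal R).sub_mem (Ideal.mul_mem_right s _ hr)
        (le_maximalIdeal (Ideal.IsPrime.ne_top (inferInstance : 𝔭.IsPrime)) hs)
      rwa [sub_sub_cancel] at h2
    exact (Ideal.ne_top_iff_one _).1 (maximalIdeal.isMaximal R).ne_top h1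
  have hrD0 : Ideal.Quotient.mk 𝔭 r ≠ 0 := by
    rwa [Ne, Ideal.Quotient.eq_zero_iff_mem]
  have hinj : Function.Injective (algebraMap D K) := IsFractionRing.injective D K
  obtain ⟨V, hV, hV1, hV2⟩ := Groth.Agent.Ega2.DVRDominate.exists_dvr_of_isLocalRing (A := D)
    (K := K) hinj (by
      intro h
      rw [h, Ideal.mem_bot] at hrD
      exact hrD0 hrD) ∅ (by
      rw [Finset.coe_empty, Set.union_empty, eq_top_iff]
      intro x _
      obtain ⟨a, b, hb, rfl⟩ := IsFractionRing.div_surjective (A := D) x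
      exact (Subfield.closure _).div_mem (Subfield.subset_closure ⟨a, rfl⟩)
        (Subfield.subset_closure ⟨b, rfl⟩))
  let ψ : R →+* V := ((algebraMap D K).codRestrict V.toSubring hV1).comp (Ideal.Quotient.mk 𝔭)
  have hψ0 : ∀ a, ψ a = 0 ↔ a ∈ 𝔭 := by
    intro a
    rw [← Ideal.Quotient.eq_zero_iff_mem, ← map_eq_zero_iff _ hinj, Subtype.ext_iff]
    rfl
  let w : AddValuation R ℕ∞ := (IsDiscreteValuationRing.addVal V).comap ψ
  have hw : ∀ a, w a = IsDiscreteValuationRing.addVal V (ψ a) := fun a => rfl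
  refine ⟨w, fun a => ?_, ?_⟩
  · rw [hw, IsDiscreteValuationRing.addVal_eq_top_iff, hψ0]
  · have h1 : w r ≠ ⊤ := by
      rw [hw, Ne, IsDiscreteValuationRing.addVal_eq_top_iff, hψ0]
      exact hr'
    obtain ⟨e, he⟩ := ENat.ne_top_iff_exists.1 h1
    refine ⟨e, Nat.pos_of_ne_zero ?_, he.symm⟩
    rintro rfl
    have h2 : IsDiscreteValuationRing.addVal V (ψ r) ≤ IsDiscreteValuationRing.addVal V 1 := by
      rw [← hw, ← he]
      exact zero_le
    rw [IsDiscreteValuationRing.addVal_le_iff_dvd, ← isUnit_iff_dvd_one] at h2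
    have h3 : algebraMap D K (Ideal.Quotient.mk 𝔭 r) ∈ V.nonunits := (hV2 _).2 hrD
    rw [ValuationSubring.mem_nonunits_iff_exists_mem_maximalIdeal] at h3
    obtain ⟨h4, h5⟩ := h3
    exact (mem_maximalIdeal _).1 h5 h2

section Rd

variable {R : Type u} [CommRing R]

theorem rd_add (a b a' b' : ℕ → R) : rd a b + rd a' b' = rd (a + a') (b + b') := by
  ext e
  rw [map_add, coeff_rd, coeff_rd, coeff_rd]
  by_cases h1 : e 1 = 0
  · simp [h1]
  · by_cases h0 : e 0 = 0 <;> simp [h1, h0]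

theorem C_mul_rd (c : R) (a b : ℕ → R) :
    MvPowerSeries.C c * rd a b = rd (fun i => c * a i) (fun i => c * b i) := by
  ext e
  rw [MvPowerSeries.coeff_C_mul, coeff_rd, coeff_rd]
  by_cases h1 : e 1 = 0
  · simp [h1]
  · by_cases h0 : e 0 = 0 <;> simp [h1, h0]

/-- The ideal of the node. -/
noncomputable abbrev rel (r : R) : Ideal (MvPowerSeries (Fin 2) R) :=
  Ideal.span {(MvPowerSeries.X 0 * MvPowerSeries.X 1 - MvPowerSeries.C r : MvPowerSeries (Fin 2) R)}

/-- A power series in the extension of `𝔭` has a reduced form with coefficients in `𝔭`. -/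
theorem exists_rd_mem (I : Ideal R) [IsAdicComplete I R] (r : R) (hr : r ∈ I) (𝔭 : Ideal R)
    (F : MvPowerSeries (Fin 2) R)
    (hF : F ∈ 𝔭.map (MvPowerSeries.C : R →+* MvPowerSeries (Fin 2) R)) :
    ∃ a b : ℕ → R, a 0 = b 0 ∧ (∀ i, a i ∈ 𝔭) ∧ (∀ i, b i ∈ 𝔭) ∧ F - rd a b ∈ rel r := by
  rw [Ideal.map] at hF
  have key : ∀ G : MvPowerSeries (Fin 2) R, ∃ a b : ℕ → R, a 0 = b 0 ∧ (∀ i, a i ∈ 𝔭) ∧
      (∀ i, b i ∈ 𝔭) ∧ G * F - rd a b ∈ rel r := by
    refine Submodule.span_induction (p := fun F _ => ∀ G : MvPowerSeries (Fin 2) R,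
      ∃ a b : ℕ → R, a 0 = b 0 ∧ (∀ i, a i ∈ 𝔭) ∧
      (∀ i, b i ∈ 𝔭) ∧ G * F - rd a b ∈ rel r) ?_ ?_ ?_ ?_ hF
    · rintro _ ⟨p, hp, rfl⟩ G
      obtain ⟨a, b, h0, h⟩ := exists_rd I r hr G
      refine ⟨fun i => p * a i, fun i => p * b i, by simp [h0], fun i => 𝔭.mul_mem_right _ hp,
        fun i => 𝔭.mul_mem_right _ hp, ?_⟩
      rw [← C_mul_rd, mul_comm G, ← mul_sub]
      exact Ideal.mul_mem_left _ _ h
    · intro G
      refine ⟨0, 0, rfl, fun _ => zero_mem _, fun _ => zero_mem _, ?_⟩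
      convert (rel r).zero_mem
      ext e
      rw [map_sub, coeff_rd]
      simp
    · intro F F' _ _ hF hF' G
      obtain ⟨a, b, h0, ha, hb, h⟩ := hF G
      obtain ⟨a', b', h0', ha', hb', h'⟩ := hF' G
      refine ⟨a + a', b + b', by simp [h0, h0'], fun i => 𝔭.add_mem (ha i) (ha' i),
        fun i => 𝔭.add_mem (hb i) (hb' i), ?_⟩
      rw [← rd_add]
      convert (rel r).add_mem h h' using 1
      ring
    · intro F' F _ hF G
      rw [smul_eq_mul, ← mul_assoc]
      exact hF _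
  simpa using key 1

/-- A power series with coefficients in a finitely generated ideal is in its extension. -/
theorem mem_map_C (𝔭 : Ideal R) (h𝔭 : 𝔭.FG) (F : MvPowerSeries (Fin 2) R)
    (hF : ∀ e, MvPowerSeries.coeff e F ∈ 𝔭) :
    F ∈ 𝔭.map (MvPowerSeries.C : R →+* MvPowerSeries (Fin 2) R) := by
  obtain ⟨n, g, hg⟩ := Submodule.fg_iff_exists_fin_generating_family.1 h𝔭
  have h1 : ∀ e, ∃ c : Fin n → R, ∑ i, c i * g i = MvPowerSeries.coeff e F := by
    intro e
    have h2 := hF e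
    rw [← hg] at h2
    exact Ideal.mem_span_range_iff_exists_fun.1 h2
  choose c hc using h1
  let f : Fin n → MvPowerSeries (Fin 2) R := fun i e => c e i
  have h2 : F = ∑ i, f i * MvPowerSeries.C (g i) := by
    ext e
    rw [map_sum, ← hc e]
    refine Finset.sum_congr rfl fun i _ => ?_
    rw [mul_comm (f i), MvPowerSeries.coeff_C_mul, mul_comm]
    rfl
  rw [h2]
  refine Ideal.sum_mem _ fun i _ => Ideal.mul_mem_left _ _ (Ideal.mem_map_of_mem _ ?_)
  rw [← hg]
  exact Submodule.subset_span ⟨i, rfl⟩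

end Rd

/-- The extension of a prime not containing `r` is prime. -/
theorem isPrime_map {R : Type u} [CommRing R] [IsLocalRing R] [IsNoetherianRing R]
    [IsAdicComplete (maximalIdeal R) R] (𝔭 : Ideal R)
    [h𝔭 : 𝔭.IsPrime] (r : R) (hr : r ∈ maximalIdeal R) (hr' : r ∉ 𝔭) :
    (𝔭.map (MvPowerSeries.C : R →+* MvPowerSeries (Fin 2) R) ⊔ rel r).IsPrime := by
  obtain ⟨w, hw, e, he, hwr⟩ := exists_val 𝔭 r hr hr'
  have hrI : r ∈ (filt w 2).I (2 * e) := by
    rw [mem_filt_of_eq hwr]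
    exact le_of_eq (by push_cast; ring)
  refine ⟨?_, ?_⟩
  · intro h
    have h1 : (1 : MvPowerSeries (Fin 2) R) ∈ (maximalIdeal R).comap
        (MvPowerSeries.constantCoeff (σ := Fin 2) (R := R)) := by
      have h2 : 𝔭.map (MvPowerSeries.C : R →+* MvPowerSeries (Fin 2) R) ⊔ rel r ≤
          (maximalIdeal R).comap (MvPowerSeries.constantCoeff (σ := Fin 2) (R := R)) := by
        rw [sup_le_iff]
        constructor
        · rw [Ideal.map_le_iff_le_comap]
          intro p hp
          rw [Ideal.mem_comap, Ideal.mem_comap, MvPowerSeries.constantCoeff_C]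
          exact le_maximalIdeal h𝔭.ne_top hp
        · rw [Ideal.span_singleton_le_iff_mem, Ideal.mem_comap]
          simpa using (maximalIdeal R).neg_mem hr
      exact h2 (h ▸ trivial)
    rw [Ideal.mem_comap, map_one] at h1
    exact (Ideal.ne_top_iff_one _).1 (maximalIdeal.isMaximal R).ne_top h1
  · intro F G hFG
    obtain ⟨a, b, h0, h⟩ := exists_rd (maximalIdeal R) r hr F
    obtain ⟨a', b', h0', h'⟩ := exists_rd (maximalIdeal R) r hr G
    -- if the reduced form is not in `𝔭` then there is a low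
    have key : ∀ (a b : ℕ → R), a 0 = b 0 → ∀ F : MvPowerSeries (Fin 2) R, F - rd a b ∈ rel r →
        F ∉ 𝔭.map (MvPowerSeries.C : R →+* MvPowerSeries (Fin 2) R) ⊔ rel r →
        ∃ m i₀, Low (filt w 2) e (cf r a b) m i₀ := by
      intro a b h0 F h hF
      refine exists_low (filt w 2) e (2 * e) (by positivity) (by omega) (cf r a b) ?_ ?_
      · intro j
        rw [cf_neg a b h0]
        exact Ideal.mul_mem_right _ _ (Filt.pow _ hrI j)
      · by_contra hcon
        push Not at hcon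
        apply hF
        have h1 : ∀ i, cf r a b i ∈ 𝔭 := by
          intro i
          rw [← hw]
          by_contra hne
          obtain ⟨n, hn⟩ := ENat.ne_top_iff_exists.1 hne
          have := (mem_filt_of_eq hn.symm).1 (hcon i (2 * n + 1))
          omega
        have h2 : rd a b ∈ 𝔭.map (MvPowerSeries.C : R →+* MvPowerSeries (Fin 2) R) := by
          apply mem_map_C 𝔭 (IsNoetherian.noetherian 𝔭)
          intro d
          rw [coeff_rd]
          split_ifs with hd1 hd2
          · exact h1 (d 0 : ℤ)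
          · have h3 := h1 (-(d 1 : ℤ))
            rw [cf_neg a b h0] at h3
            exact (h𝔭.mem_or_mem h3).resolve_left fun h4 => hr' (h𝔭.mem_of_pow_mem _ h4)
          · exact zero_mem _
        have h3 : F - rd a b + rd a b ∈ 𝔭.map (MvPowerSeries.C : R →+*
            MvPowerSeries (Fin 2) R) ⊔ rel r :=
          Ideal.add_mem _ (Ideal.mem_sup_right h) (Ideal.mem_sup_left h2)
        rwa [sub_add_cancel] at h3
    by_contra hcon
    push Not at hcon
    obtain ⟨m, i₀, hlow⟩ := key a b h0 F h hcon.1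
    obtain ⟨n, j₀, hlow'⟩ := key a' b' h0' G h' hcon.2
    obtain ⟨P, hP, Q, hQ, hPQ⟩ := Submodule.mem_sup.1 hFG
    obtain ⟨a'', b'', h0'', ha'', hb'', h''⟩ := exists_rd_mem (maximalIdeal R) r hr 𝔭 P hP
    have h1 : rd a b * rd a' b' - rd a'' b'' ∈ rel r := by
      have e1 : rd a b * rd a' b' - rd a'' b'' = (P - rd a'' b'') + Q - (F - rd a b) * G -
          rd a b * (G - rd a' b') := by
        rw [show P = F * G - Q by rw [← hPQ]; ring]; ring
      rw [e1]
      exact Ideal.sub_mem _ (Ideal.sub_mem _ (Ideal.add_mem _ h'' hQ) (Ideal.mul_mem_right _ _ h))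
        (Ideal.mul_mem_left _ _ h')
    obtain ⟨-, h2, -⟩ := gauss (filt w 2) (by omega) hrI a b a' b' a'' b'' h1 hlow hlow'
    apply h2
    have h3 : cf r a'' b'' (i₀ + j₀) ∈ 𝔭 := by
      rcases i₀ + j₀ with k | k
      · exact ha'' k
      · exact 𝔭.mul_mem_left _ (hb'' _)
    intro n hn
    rw [(hw _).2 h3] at hn
    exact absurd hn (ENat.top_ne_natCast n)

end K92.Node
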