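import Groth.Agent.CAlg.K92.NodeLaurent

/-!
# Reduced forms in the formal node
-/

set_option autoImplicit false

namespace K92.Node

open K813.NF

variable {R : Type*} [CommRing R]

/-- Summation of `∑ rⁿ cₙ`. -/
theorem exists_sumOp (I : Ideal R) [IsAdicComplete I R] (r : R) (hr : r ∈ I) :
    ∃ S : (ℕ → R) → R, ∀ c, S c = c 0 + r * S (fun n => c (n + 1)) := by
  have h1 : ∀ c : ℕ → R, ∃ L : R, ∀ n, ∑ i ∈ Finset.range n, r ^ i * c i - L ∈ I ^ n := by
    intro c
    obtain ⟨L, hL⟩ := IsPrecomplete.prec' (I := I) (M := R)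
      (fun n => ∑ i ∈ Finset.range n, r ^ i * c i) (by
        intro m n hmn
        rw [SModEq.sub_mem, smul_eq_mul, Ideal.mul_top]
        rw [← neg_mem_iff, neg_sub, ← Finset.sum_range_add_sum_Ico _ hmn, add_sub_cancel_left]
        refine Ideal.sum_mem _ fun i hi => Ideal.mul_mem_right _ _ ?_
        exact Ideal.pow_le_pow_right (Finset.mem_Ico.1 hi).1 (Ideal.pow_mem_pow hr i))
    refine ⟨L, fun n => ?_⟩
    have := hL n
    rwa [SModEq.sub_mem, smul_eq_mul, Ideal.mul_top] at this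
  choose S hS using h1
  refine ⟨S, fun c => ?_⟩
  rw [← sub_eq_zero]
  refine IsHausdorff.haus' (I := I) _ fun n => ?_
  rw [SModEq.zero, smul_eq_mul, Ideal.mul_top]
  have h2 := hS c (n + 1)
  have h3 := hS (fun n => c (n + 1)) n
  have h4 : ∑ i ∈ Finset.range (n + 1), r ^ i * c i =
      c 0 + r * ∑ i ∈ Finset.range n, r ^ i * c (i + 1) := by
    rw [Finset.sum_range_succ', Finset.mul_sum, pow_zero, one_mul, add_comm]
    congr 1
    exact Finset.sum_congr rfl fun i _ => by ring
  rw [h4] at h2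
  have h5 : S c - (c 0 + r * S fun n => c (n + 1)) =
      r * (∑ i ∈ Finset.range n, r ^ i * c (i + 1) - S fun n => c (n + 1)) -
        (c 0 + r * ∑ i ∈ Finset.range n, r ^ i * c (i + 1) - S c) := by ring
  rw [h5]
  exact Ideal.sub_mem _ (Ideal.mul_mem_left _ _ h3) (Ideal.pow_le_pow_right (Nat.le_succ n) h2)

/-- Every power series is congruent to a reduced one. -/
theorem exists_rd (I : Ideal R) [IsAdicComplete I R] (r : R) (hr : r ∈ I)
    (F : MvPowerSeries (Fin 2) R) : ∃ a b : ℕ → R, a 0 = b 0 ∧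
      F - rd a b ∈ Ideal.span {(MvPowerSeries.X 0 * MvPowerSeries.X 1 - MvPowerSeries.C r :
        MvPowerSeries (Fin 2) R)} := by
  obtain ⟨S, hS⟩ := exists_sumOp I r hr
  let f : ℕ → ℕ → R := fun i j => PowerSeries.coeff i (PowerSeries.coeff j (E R F))
  let h : ℕ → ℕ → R := fun i j => S fun n => f (i + 1 + n) (j + 1 + n)
  have hh : ∀ i j, h i j = f (i + 1) (j + 1) + r * h (i + 1) (j + 1) := by
    intro i j
    simp only [h]
    rw [hS]
    simp only [add_zero]
    congr 3
    ext n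
    rw [show i + 1 + (n + 1) = i + 1 + 1 + n by ring, show j + 1 + (n + 1) = j + 1 + 1 + n by ring]
  let H' : PowerSeries (PowerSeries R) := PowerSeries.mk fun j => PowerSeries.mk fun i => h i j
  refine ⟨fun i => f i 0 + r * h i 0, fun j => f 0 j + r * h 0 j, rfl, ?_⟩
  rw [Ideal.mem_span_singleton]
  refine ⟨(E R).symm H', ?_⟩
  apply (E R).injective
  have hC : E R (MvPowerSeries.C r) = PowerSeries.C (PowerSeries.C r) := E_C r
  rw [map_mul, map_sub, map_sub, map_mul, E_X0, E_X1, hC, AlgEquiv.apply_symm_apply, sub_mul,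
    mul_assoc]
  ext j i
  rw [map_sub, map_sub, map_sub, map_sub, coeff_coeff_E_rd, PowerSeries.coeff_C_mul,
    PowerSeries.coeff_C_mul, PowerSeries.coeff_C_mul]
  rcases j with _ | j
  · rw [if_pos rfl, PowerSeries.coeff_zero_X_mul, mul_zero, map_zero]
    simp only [H', PowerSeries.coeff_mk]
    change f i 0 - (f i 0 + r * h i 0) = _
    ring
  · rw [if_neg (Nat.succ_ne_zero j), PowerSeries.coeff_succ_X_mul]
    rcases i with _ | i
    · rw [if_pos rfl, PowerSeries.coeff_zero_X_mul]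
      simp only [H', PowerSeries.coeff_mk]
      change f 0 (j + 1) - (f 0 (j + 1) + r * h 0 (j + 1)) = _
      ring
    · rw [if_neg (Nat.succ_ne_zero i), PowerSeries.coeff_succ_X_mul]
      simp only [H', PowerSeries.coeff_mk]
      rw [hh i j]
      change f (i + 1) (j + 1) - 0 = _
      ring

section Swap

/-- Interchanging the variables. -/
noncomputable def sw (R : Type*) [CommRing R] :
    MvPowerSeries (Fin 2) R ≃ₐ[R] MvPowerSeries (Fin 2) R :=
  MvPowerSeries.renameEquiv R (Equiv.swap 0 1)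

theorem coeff_sw (F : MvPowerSeries (Fin 2) R) (e : Fin 2 →₀ ℕ) :
    MvPowerSeries.coeff e (sw R F) =
      MvPowerSeries.coeff (Finsupp.single 0 (e 1) + Finsupp.single 1 (e 0)) F := by
  have h1 : e = Finsupp.embDomain (Equiv.swap (0 : Fin 2) 1).toEmbedding
      (Finsupp.single 0 (e 1) + Finsupp.single 1 (e 0)) := by
    ext i
    rw [Finsupp.embDomain_eq_mapDomain, Finsupp.mapDomain_add, Finsupp.mapDomain_single,
      Finsupp.mapDomain_single]
    fin_cases i <;> simp
  conv_lhs => rw [h1]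
  exact MvPowerSeries.coeff_embDomain_rename ..

theorem sw_rd (a b : ℕ → R) (hab : a 0 = b 0) : sw R (rd a b) = rd b a := by
  ext e
  rw [coeff_sw, coeff_rd, coeff_rd]
  simp only [Finsupp.add_apply, Finsupp.single_apply]
  by_cases h0 : e 0 = 0 <;> by_cases h1 : e 1 = 0 <;> simp [h0, h1, hab]

theorem sw_X0 : sw R (MvPowerSeries.X 0) = MvPowerSeries.X 1 := by
  change MvPowerSeries.rename _ _ = _
  rw [MvPowerSeries.rename_X]
  simp

theorem sw_X1 : sw R (MvPowerSeries.X 1) = MvPowerSeries.X 0 := by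
  change MvPowerSeries.rename _ _ = _
  rw [MvPowerSeries.rename_X]
  simp

theorem sw_C (a : R) : sw R (MvPowerSeries.C a) = MvPowerSeries.C a := by
  change MvPowerSeries.rename _ _ = _
  rw [MvPowerSeries.rename_C]

theorem sw_mem (r : R) {F : MvPowerSeries (Fin 2) R}
    (hF : F ∈ Ideal.span {(MvPowerSeries.X 0 * MvPowerSeries.X 1 - MvPowerSeries.C r :
        MvPowerSeries (Fin 2) R)}) :
    sw R F ∈ Ideal.span {(MvPowerSeries.X 0 * MvPowerSeries.X 1 - MvPowerSeries.C r :
        MvPowerSeries (Fin 2) R)} := by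
  rw [Ideal.mem_span_singleton] at hF ⊢
  obtain ⟨G, rfl⟩ := hF
  refine ⟨sw R G, ?_⟩
  rw [map_mul, map_sub, map_mul, sw_X0, sw_X1, sw_C, mul_comm (MvPowerSeries.X 1)]

end Swap

end K92.Node
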