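import Groth.Agent.CAlg.K92.NodeIdx
import Mathlib.RingTheory.Filtration

/-!
# Divisors of constants in the formal node
-/

set_option autoImplicit false

namespace K92.Node

open K813.NF IsLocalRing

universe u

variable {R : Type u} [CommRing R]

/-- Uniqueness of reduced forms. -/
theorem cf_eq_zero [IsLocalRing R] [IsNoetherianRing R] {r : R} (hr : r ∈ maximalIdeal R)
    (a b : ℕ → R) (h : rd a b ∈ rel r) (i : ℤ) : cf r a b i = 0 := by
  have h1 : cf r a b i ∈ (⨅ n : ℕ, maximalIdeal R ^ n : Ideal R) := by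
    rw [Submodule.mem_iInf]
    intro n
    have hJ : r ^ n ∈ maximalIdeal R ^ n := Ideal.pow_mem_pow hr n
    obtain ⟨G, hG⟩ := Ideal.mem_span_singleton.1 h
    have h2 := congrArg (lau r _ n hJ) hG
    rw [map_mul, lau_rel, zero_mul] at h2
    rw [← Ideal.Quotient.eq_zero_iff_mem, ← coeff_lau_rd hJ a b i, h2]
    rfl
  rw [Ideal.iInf_pow_eq_bot_of_isLocalRing _ (maximalIdeal.isMaximal R).ne_top] at h1
  exact h1

theorem shift (r : R) (a b : ℕ → R) (h0 : a 0 = b 0) (hb : ∀ j, r ∣ b j) :
    ∃ a' b' : ℕ → R, a' 0 = b' 0 ∧ rd a b - MvPowerSeries.X 0 * rd a' b' ∈ rel r ∧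
      ∀ i, cf r a' b' i = cf r a b (i + 1) := by
  choose h hh using hb
  let a' : ℕ → R := fun i => a (i + 1)
  let b' : ℕ → R := fun j => match j with
    | 0 => a 1
    | j + 1 => h j
  refine ⟨a', b', rfl, ?_, ?_⟩
  · rw [Ideal.mem_span_singleton]
    refine ⟨-rd (δ (h 0)) h, ?_⟩
    apply (E R).injective
    rw [map_mul, map_sub, map_sub, map_mul, map_mul, map_neg, E_X0, E_X1, E_C, mul_neg, sub_mul,
      mul_assoc]
    ext j i
    simp only [map_sub, map_neg]
    rw [coeff_coeff_E_rd, PowerSeries.coeff_C_mul, PowerSeries.coeff_C_mul,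
      PowerSeries.coeff_C_mul, PowerSeries.coeff_C_mul, coeff_coeff_E_rd]
    rcases j with _ | j
    · rw [if_pos rfl, if_pos rfl, PowerSeries.coeff_zero_X_mul, mul_zero, map_zero]
      rcases i with _ | i
      · rw [PowerSeries.coeff_zero_X_mul, h0, hh 0]
        simp [δ]
      · rw [PowerSeries.coeff_succ_X_mul, coeff_coeff_E_rd, if_pos rfl]
        simp [δ, a']
    · rw [if_neg (Nat.succ_ne_zero j), if_neg (Nat.succ_ne_zero j), PowerSeries.coeff_succ_X_mul]
      rcases i with _ | i
      · rw [if_pos rfl, if_pos rfl, PowerSeries.coeff_zero_X_mul, PowerSeries.coeff_zero_X_mul,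
          hh (j + 1)]
        ring
      · rw [if_neg (Nat.succ_ne_zero i), if_neg (Nat.succ_ne_zero i),
          PowerSeries.coeff_succ_X_mul, PowerSeries.coeff_succ_X_mul, coeff_coeff_E_rd,
          coeff_coeff_E_rd, if_neg (Nat.succ_ne_zero j)]
        rcases i with _ | i
        · rcases j with _ | j
          · simp [δ, b']
          · simp [b']
        · rcases j with _ | j
          · simp [δ]
          · simp
  · intro i
    obtain ⟨j, rfl | rfl⟩ := Int.eq_nat_or_neg i
    · rfl
    · rcases j with _ | j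
      · rfl
      · rw [cf_neg a' b' rfl, show (-((j + 1 : ℕ) : ℤ) + 1) = -(j : ℤ) by push_cast; ring,
          cf_neg a b h0, hh j]
        simp only [b']
        ring

theorem shift_pow [IsDomain R] {r : R} (hr : r ≠ 0) (M : ℕ) : ∀ (a b : ℕ → R), a 0 = b 0 →
    (∀ (i : ℤ) (n : ℕ), i + n ≤ M → r ^ n ∣ cf r a b i) →
    ∃ a' b' : ℕ → R, a' 0 = b' 0 ∧ rd a b - MvPowerSeries.X 0 ^ M * rd a' b' ∈ rel r ∧
      ∀ i, cf r a' b' i = cf r a b (i + M) := by
  induction M with
  | zero =>
    intro a b h0 _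
    refine ⟨a, b, h0, by simp, fun i => by simp⟩
  | succ M ih =>
    intro a b h0 h
    have hb : ∀ j, r ∣ b j := by
      intro j
      have h1 := h (-(j : ℤ)) (M + 1 + j) (by push_cast; omega)
      rw [cf_neg a b h0, show M + 1 + j = j + 1 + M by ring, pow_add, pow_add, pow_one,
        mul_assoc, mul_dvd_mul_iff_left (pow_ne_zero _ hr)] at h1
      exact (dvd_mul_right _ _).trans h1
    obtain ⟨a₁, b₁, h01, h1, h1'⟩ := shift r a b h0 hb
    obtain ⟨a₂, b₂, h02, h2, h2'⟩ := ih a₁ b₁ h01 (fun i n hin => by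
      rw [h1']
      exact h (i + 1) n (by push_cast; omega))
    refine ⟨a₂, b₂, h02, ?_, fun i => ?_⟩
    · have e1 : rd a b - MvPowerSeries.X 0 ^ (M + 1) * rd a₂ b₂ =
          (rd a b - MvPowerSeries.X 0 * rd a₁ b₁) +
            MvPowerSeries.X 0 * (rd a₁ b₁ - MvPowerSeries.X 0 ^ M * rd a₂ b₂) := by ring
      rw [e1]
      exact Ideal.add_mem _ h1 (Ideal.mul_mem_left _ _ h2)
    · rw [h2', h1']
      congr 1
      push_cast
      ring

section UFD

variable [IsDomain R] [UniqueFactorizationMonoid R]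

theorem emult_eq_coe {p : R} (hp : Prime p) {x : R} (hx : x ≠ 0) :
    ∃ n : ℕ, emultiplicity p x = n := by
  have : FiniteMultiplicity p x := FiniteMultiplicity.of_prime_left hp hx
  exact ⟨_, this.emultiplicity_eq_multiplicity⟩

/-- The index of a divisor of a constant which is not divisible by the prime `p`. -/
theorem index_prime [IsLocalRing R] [IsNoetherianRing R]
    {r : R} (hr0 : r ≠ 0) (hr : r ∈ maximalIdeal R) {p : R} (hp : Prime p) (hpr : p ∣ r) {c : R}
    (hc : c ≠ 0) (a b a' b' : ℕ → R) (h0 : a 0 = b 0) (h0' : a' 0 = b' 0)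
    (h : rd a b * rd a' b' - MvPowerSeries.C c ∈ rel r)
    (hF : ¬ ((∀ i, p ∣ a i) ∧ ∀ i, p ∣ b i)) (hG : ¬ ((∀ i, p ∣ a' i) ∧ ∀ i, p ∣ b' i)) :
    ∃ (N : ℤ) (e : ℕ), 0 < e ∧ emultiplicity p r = e ∧
      emultiplicity p c = (e * N.natAbs : ℕ) ∧
      emultiplicity p (cf r a b N) = (e * (-N).toNat : ℕ) ∧
      (∀ i (k : ℕ), emultiplicity p (cf r a b i) = k → (e : ℤ) * (-N).toNat ≤ k ∧
        (e : ℤ) * (-N).toNat + e * N ≤ k + e * i) ∧
      (∀ i (k : ℕ), emultiplicity p (cf r a' b' i) = k → (e : ℤ) * N.toNat ≤ k ∧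
        (e : ℤ) * N.toNat - e * N ≤ k + e * i) ∧
      p ^ (e * N.natAbs + 1) ∣ c - cf r a b N * cf r a' b' (-N) := by
  let w := multiplicity_addValuation hp
  have hw : ∀ x, w x = emultiplicity p x := fun x => rfl
  obtain ⟨e, he⟩ := emult_eq_coe hp hr0
  obtain ⟨ω, hω⟩ := emult_eq_coe hp hc
  have hepos : 0 < e := by
    have h1 := dvd_iff_emultiplicity_pos.2 hpr
    rw [he] at h1
    exact_mod_cast h1
  have hne : ∀ a b : ℕ → R, a 0 = b 0 → ¬ ((∀ i, p ∣ a i) ∧ ∀ i, p ∣ b i) →
      ∃ i, w (cf r a b i) ≠ ⊤ := by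
    intro a b h0 hF
    by_contra hcon
    push Not at hcon
    apply hF
    have h1 : ∀ i, cf r a b i = 0 := by
      intro i
      by_contra hne
      obtain ⟨n, hn⟩ := emult_eq_coe hp hne
      have := hcon i
      rw [hw, hn] at this
      exact ENat.natCast_ne_top _ this
    constructor
    · intro i
      have := h1 i
      rw [cf_natCast] at this
      rw [this]; exact dvd_zero _
    · intro i
      have := h1 (-(i : ℤ))
      rw [cf_neg a b h0] at this
      rw [(mul_eq_zero.1 this).resolve_left (pow_ne_zero _ hr0)]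
      exact dvd_zero _
  obtain ⟨N, α, β, hα, hβ, hαβ, h1, h2, h3⟩ := index w hepos he hω a b a' b' h0 h0' h
    (hne a b h0 hF) (hne a' b' h0' hG)
  rw [hw] at hα hβ
  -- values of `α`, `β`
  have key : ∀ (a b : ℕ → R), a 0 = b 0 → ¬ ((∀ i, p ∣ a i) ∧ ∀ i, p ∣ b i) →
      ∀ (N : ℤ) (α : ℕ), emultiplicity p (cf r a b N) = α →
      (∀ i (k : ℕ), emultiplicity p (cf r a b i) = k → α ≤ k ∧ (α : ℤ) + e * N ≤ k + e * i) →
      α = e * (-N).toNat := by
    intro a b h0 hF N α hα h1
    have hge : (0 : ℤ) ≤ α + e * N := by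
      obtain ⟨j, rfl | rfl⟩ := Int.eq_nat_or_neg N
      · positivity
      · rw [cf_neg a b h0, emultiplicity_mul hp, emultiplicity_pow hp, he] at hα
        obtain ⟨x, y, hx, hy, hxy⟩ := exists_of_add_eq hα
        have hx' : ((j * e : ℕ) : ℕ∞) = x := by rw [← hx]; push_cast; rfl
        have hx'' : j * e = x := by exact_mod_cast hx'
        rw [← hxy, ← hx'']
        push_cast
        nlinarith [Int.natCast_nonneg y]
    have hor : α = 0 ∨ (α : ℤ) + e * N ≤ 0 := by
      by_contra hcon
      push Not at hcon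
      apply hF
      have hdvd : ∀ x : R, (∀ k : ℕ, emultiplicity p x = k → 0 < k) → p ∣ x := by
        intro x hx
        by_cases hx0 : x = 0
        · rw [hx0]; exact dvd_zero _
        · obtain ⟨k, hk⟩ := emult_eq_coe hp hx0
          rw [← dvd_iff_emultiplicity_pos, hk]
          exact_mod_cast hx k hk
      constructor
      · intro i
        apply hdvd
        intro k hk
        have := (h1 (i : ℤ) k (by rw [cf_natCast]; exact hk)).1
        omega
      · intro i
        apply hdvd
        intro k hk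
        have h4 : emultiplicity p (cf r a b (-(i : ℤ))) = (i * e + k : ℕ) := by
          rw [cf_neg a b h0, emultiplicity_mul hp, emultiplicity_pow hp, he, hk]
          push_cast
          rfl
        have h5 := (h1 _ _ h4).2
        push_cast at h5
        have h6 := hcon.2
        have : (0 : ℤ) < k := by nlinarith
        exact_mod_cast this
    obtain ⟨j, rfl | rfl⟩ := Int.eq_nat_or_neg N
    · have hj : (-(j : ℤ)).toNat = 0 := by simp
      rw [hj, mul_zero]
      rcases hor with h | h
      · exact h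
      · have : (0 : ℤ) ≤ (e : ℤ) * j := by positivity
        omega
    · rw [neg_neg, Int.toNat_natCast]
      have h4 : (α : ℤ) = e * j := by
        rcases hor with h | h
        · rw [h] at hge ⊢
          rw [mul_neg] at hge
          have : (0 : ℤ) ≤ (e : ℤ) * j := by positivity
          push_cast at hge ⊢
          omega
        · rw [mul_neg] at h hge
          omega
      exact_mod_cast h4
  have hα' := key a b h0 hF N α hα h1
  have hβ' := key a' b' h0' hG (-N) β hβ (fun i k hk => ⟨(h2 i k hk).1, by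
    have := (h2 i k hk).2
    rw [mul_neg]
    omega⟩)
  rw [neg_neg] at hβ'
  have hω' : ω = e * N.natAbs := by
    rw [← hαβ, hα', hβ', ← mul_add]
    congr 1
    omega
  subst hω'
  subst hα'
  subst hβ'
  refine ⟨N, e, hepos, he, hω, hα, fun i k hk => ?_, fun i k hk => ?_, ?_⟩
  · have := h1 i k hk
    push_cast at this
    exact ⟨by exact_mod_cast this.1, this.2⟩
  · have := h2 i k hk
    push_cast at this
    exact ⟨by exact_mod_cast this.1, this.2⟩
  · rw [pow_dvd_iff_le_emultiplicity]
    by_cases hx : c - cf r a b N * cf r a' b' (-N) = 0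
    · rw [hx, emultiplicity_zero]; exact le_top
    · obtain ⟨k, hk⟩ := emult_eq_coe hp hx
      have h4 := h3 k hk
      rw [hk]
      push_cast at h4
      have h5 : e * N.natAbs + 1 ≤ k := by
        zify
        omega
      exact_mod_cast h5

end UFD

end K92.Node
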